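import Mathlib
import Cfsg.Agent.Lib.Helper7.SL2Dickson1

set_option autoImplicit false
set_option linter.unusedSimpArgs false
set_option linter.unusedSectionVars false
set_option linter.unusedVariables false

/-! Class data for subgroups of `SL₂(q)` in every characteristic; `zc F` is the order of the centre. -/

namespace Cfsg.Agent.Lib.Helper7

open Matrix Subgroup Cfsg.Agent.Lib.Helper46

variable {F : Type*} [Field F]

/-- in the commutant of `X`, an element of the same trace is `X` or `X⁻¹` (any characteristic) -/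
theorem same_or_inv' (X Y : SpecialLinearGroup (Fin 2) F)
    (hs : tr X ^ 2 ≠ 4) (hc : Y * X = X * Y) (ht : tr Y = tr X) : Y = X ∨ Y = X⁻¹ := by
  by_cases h2 : (2 : F) ≠ 0
  · exact same_or_inv h2 X Y hs hc ht
  push Not at h2
  have hX : X ∉ Subgroup.center (SpecialLinearGroup (Fin 2) F) :=
    fun h => hs (tr_sq_of_mem_center X h)
  obtain ⟨x, y, a00, a01, a10, a11⟩ := commutant X Y hX hc
  have hdX := det2 X
  have hdY := det2 Y
  rw [a00, a01, a10, a11] at hdY
  rw [tr, tr, a00, a11] at ht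
  rw [tr] at hs
  set a := (X : Matrix (Fin 2) (Fin 2) F) 0 0 with ha
  set b := (X : Matrix (Fin 2) (Fin 2) F) 0 1 with hb
  set c := (X : Matrix (Fin 2) (Fin 2) F) 1 0 with hc'
  set d := (X : Matrix (Fin 2) (Fin 2) F) 1 1 with hd
  have h4 : (4 : F) = 0 := by linear_combination 2 * h2
  have hτ : a + d ≠ 0 := by
    intro h
    apply hs
    rw [h, h4]; ring
  have hy1 : y = 1 := by
    have : (a + d) * (y - 1) = 0 := by linear_combination ht - x * h2
    have := (mul_eq_zero.1 this).resolve_left hτ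
    linear_combination this
  subst hy1
  have hx : x * (x + (a + d)) = 0 := by linear_combination hdY - hdX
  rcases mul_eq_zero.1 hx with h | h
  · left
    apply ext2
    · rw [a00, h]; ring
    · rw [a01]; ring
    · rw [a10]; ring
    · rw [a11, h]; ring
  · right
    apply ext2
    · rw [a00, inv_00, ← hd]; linear_combination h - d * h2
    · rw [a01, inv_01]; linear_combination b * h2
    · rw [a10, inv_10]; linear_combination c * h2
    · rw [a11, inv_11, ← ha]; linear_combination h - a * h2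

/-- the order of the centre of `SL₂(F)` -/
noncomputable def zc (F : Type*) [Field F] : ℕ :=
  Nat.card (center (SpecialLinearGroup (Fin 2) F))

theorem zc_of_two_ne (h2 : (2 : F) ≠ 0) : zc F = 2 := card_center_SL2 h2

theorem zc_of_two_eq (h2 : (2 : F) = 0) : zc F = 1 := by
  rw [zc, Nat.card_eq_one_iff_unique]
  refine ⟨⟨?_⟩, ⟨1⟩⟩
  rintro ⟨a, ha⟩ ⟨b, hb⟩
  apply Subtype.ext
  have key : ∀ g ∈ center (SpecialLinearGroup (Fin 2) F), g = 1 := by
    intro g hg
    obtain ⟨g01, g10, g00⟩ := (mem_center_iff2 g).1 hg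
    have hd := det2 g
    rw [g01, ← g00] at hd
    have h1 : (g.1 0 0 - 1) ^ 2 = 0 := by linear_combination hd - g.1 0 0 * h2 + h2
    have h3 : g.1 0 0 = 1 := by
      have := pow_eq_zero_iff (two_ne_zero) |>.1 h1
      linear_combination this
    apply ext2
    · rw [h3]; simp
    · rw [g01]; simp
    · rw [g10]; simp
    · rw [← g00, h3]; simp
  show a = b
  rw [key a ha, key b hb]

theorem zc_cases (F : Type*) [Field F] : zc F = 1 ∨ zc F = 2 := by
  by_cases h2 : (2 : F) = 0
  · left; exact zc_of_two_eq h2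
  · right; exact zc_of_two_ne h2

theorem zc_pos (F : Type*) [Field F] : 0 < zc F := by
  rcases zc_cases F with h | h <;> omega

/-- elements normalising the centraliser of a semisimple element centralise or invert it -/
theorem norIn_cen_or_inv (H : Subgroup (SpecialLinearGroup (Fin 2) F))
    {x : SpecialLinearGroup (Fin 2) F} (hx : x ∈ H) (hs : tr x ^ 2 ≠ 4)
    {h : SpecialLinearGroup (Fin 2) F} (hh : h ∈ norIn H (cenIn H x)) :
    h ∈ cenIn H x ∨ h * x * h⁻¹ = x⁻¹ := by
  obtain ⟨hhH, hn⟩ := mem_norIn.1 hh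
  have h1 : h * x * h⁻¹ ∈ cenIn H x := (hn x).1 (self_mem_cenIn hx)
  have h3 : h * x * h⁻¹ * x = x * (h * x * h⁻¹) := (mem_cenIn.1 h1).2
  rcases same_or_inv' x (h * x * h⁻¹) hs h3 (tr_conj h x) with h4 | h4
  · left
    refine mem_cenIn.2 ⟨hhH, ?_⟩
    show h * x = x * h
    have := congrArg (· * h) h4
    simpa using this
  · right; exact h4

variable [Fintype F]

/-- data of the class of a semisimple element, any characteristic -/
theorem ss_classZ (H : Subgroup (SpecialLinearGroup (Fin 2) F))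
    (hZ : center (SpecialLinearGroup (Fin 2) F) ≤ H) {x : SpecialLinearGroup (Fin 2) F}
    (hx : x ∈ H) (hs : tr x ^ 2 ≠ 4) :
    ∃ c ε : ℕ, 2 ≤ c ∧ (ε = 1 ∨ ε = 2) ∧ Nat.card (cenIn H x) = zc F * c ∧
      Nat.card (norIn H (cenIn H x)) = ε * (zc F * c) ∧
      (Ucl H (cenIn H x)).ncard * (ε * c) = Nat.card H * (c - 1) := by
  have hxc : x ∉ center (SpecialLinearGroup (Fin 2) F) := fun h => hs (tr_sq_of_mem_center x h)
  set A := cenIn H x with hA
  have hZA : center (SpecialLinearGroup (Fin 2) F) ≤ A := center_le_cenIn hZ x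
  have hzpos := zc_pos F
  have hcz : Nat.card (center (SpecialLinearGroup (Fin 2) F)) = zc F := rfl
  obtain ⟨c, hc⟩ : zc F ∣ Nat.card A := card_dvd_of_le hZA
  have hc2 : 2 ≤ c := by
    by_contra hlt
    have hle : Nat.card A ≤ Nat.card (center (SpecialLinearGroup (Fin 2) F)) := by
      rw [hcz, hc]
      have : c ≤ 1 := by omega
      calc zc F * c ≤ zc F * 1 := Nat.mul_le_mul_left _ this
        _ = zc F := mul_one _
    have := eq_of_le_of_card_ge hZA hle
    apply hxc
    rw [this]
    exact self_mem_cenIn hx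
  have hAN : A ≤ norIn H A := le_norIn (cenIn_le H x)
  have hinv : ∀ h ∈ norIn H A, h ∈ A ∨ h * x * h⁻¹ = x⁻¹ := fun h hh => norIn_cen_or_inv H hx hs hh
  have hε : ∃ ε : ℕ, (ε = 1 ∨ ε = 2) ∧ Nat.card (norIn H A) = ε * (zc F * c) := by
    by_cases hall : ∀ h ∈ norIn H A, h ∈ A
    · refine ⟨1, Or.inl rfl, ?_⟩
      have : norIn H A = A := le_antisymm hall hAN
      rw [this, hc, one_mul]
    · push Not at hall
      obtain ⟨h₀, h₀N, h₀A⟩ := hall
      refine ⟨2, Or.inr rfl, ?_⟩
      rw [← hc]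
      apply card_eq_two_mul hAN h₀N h₀A
      intro b hb hbA
      have e1 := (hinv b hb).resolve_left hbA
      have e2 := (hinv h₀ h₀N).resolve_left h₀A
      refine mem_cenIn.2 ⟨H.mul_mem (norIn_le H A hb) (norIn_le H A h₀N), ?_⟩
      show b * h₀ * x = x * (b * h₀)
      have e3 : h₀ * x = x⁻¹ * h₀ := by
        have := congrArg (· * h₀) e2
        simpa using this
      have e4 : b * x⁻¹ = x * b := by
        have h5 : b * x⁻¹ * b⁻¹ = x := by
          have := congrArg (·⁻¹) e1
          simpa [mul_assoc] using this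
        have := congrArg (· * b) h5
        simpa using this
      calc b * h₀ * x = b * (h₀ * x) := by group
        _ = b * (x⁻¹ * h₀) := by rw [e3]
        _ = (b * x⁻¹) * h₀ := by group
        _ = x * b * h₀ := by rw [e4]
        _ = x * (b * h₀) := by group
  obtain ⟨ε, hε1, hε2⟩ := hε
  refine ⟨c, ε, hc2, hε1, hc, hε2, ?_⟩
  have hU := card_Ucl_cenIn commTrans_SL2 H hxc
  rw [cenIn_inf_center hZ, hcz, ← hA, hε2, hc] at hU
  have e : zc F * c - zc F = zc F * (c - 1) := by
    rw [Nat.mul_sub, mul_one]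
  rw [e] at hU
  apply Nat.eq_of_mul_eq_mul_left hzpos
  calc zc F * ((Ucl H A).ncard * (ε * c)) = (Ucl H A).ncard * (ε * (zc F * c)) := by ring
    _ = Nat.card H * (zc F * (c - 1)) := hU
    _ = zc F * (Nat.card H * (c - 1)) := by ring

theorem card_cenIn_uuZ {H : Subgroup (SpecialLinearGroup (Fin 2) F)}
    (hZ : center (SpecialLinearGroup (Fin 2) F) ≤ H) {a₀ : F} (ha₀ : a₀ ≠ 0) :
    Nat.card (cenIn H (uu a₀)) = zc F * Nat.card (addOf H) := by
  rw [zc, ← Nat.card_prod]
  let ψ : center (SpecialLinearGroup (Fin 2) F) × addOf H → cenIn H (uu a₀) := fun s =>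
    ⟨s.1.1 * uu s.2.1, by
      obtain ⟨z01, z10, z00⟩ := (mem_center_iff2 _).1 s.1.2
      refine (mem_cenIn_uu ha₀).2 ⟨H.mul_mem (hZ s.1.2) s.2.2, ?_, ?_⟩
      · simp only [mul_10, uu, mk2_00, mk2_10, z10]; ring
      · simp only [mul_00, mul_11, uu, mk2_00, mk2_01, mk2_10, mk2_11, z10, z01, z00]; ring⟩
  have hψ : Function.Bijective ψ := by
    constructor
    · rintro ⟨⟨z, hz⟩, ⟨a, ha⟩⟩ ⟨⟨z', hz'⟩, ⟨a', ha'⟩⟩ h
      have h1 : z * uu a = z' * uu a' := congrArg Subtype.val h
      obtain ⟨z01, z10, z00⟩ := (mem_center_iff2 _).1 hz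
      obtain ⟨y01, y10, y00⟩ := (mem_center_iff2 _).1 hz'
      have e00 := congrArg (fun Z : SpecialLinearGroup (Fin 2) F => Z.1 0 0) h1
      have e01 := congrArg (fun Z : SpecialLinearGroup (Fin 2) F => Z.1 0 1) h1
      simp only [mul_00, mul_01, uu, mk2_00, mk2_01, mk2_10, mk2_11, z01, y01] at e00 e01
      have hzz : z = z' := by
        apply ext2
        · linear_combination e00
        · rw [z01, y01]
        · rw [z10, y10]
        · rw [← z00, ← y00]; linear_combination e00
      subst hzz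
      have hne : z.1 0 0 ≠ 0 := bor_ne z10
      have haa : a = a' := by
        have : z.1 0 0 * (a - a') = 0 := by linear_combination e01
        have := (mul_eq_zero.1 this).resolve_left hne
        linear_combination this
      subst haa
      rfl
    · rintro ⟨w, hw⟩
      obtain ⟨hwH, w10, w00⟩ := (mem_cenIn_uu ha₀).1 hw
      have hd := bor_det w10
      have hzc : mk2 (w.1 0 0) 0 0 (w.1 0 0) (by rw [← w00] at hd; linear_combination hd) ∈
          center (SpecialLinearGroup (Fin 2) F) := by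
        rw [mem_center_iff2]; simp
      have hw' : w = mk2 (w.1 0 0) 0 0 (w.1 0 0) (by rw [← w00] at hd; linear_combination hd) *
          uu (w.1 0 0 * w.1 0 1) := by
        apply ext2 <;> simp only [mul_00, mul_01, mul_10, mul_11, uu, mk2_00, mk2_01, mk2_10, mk2_11]
        · ring
        · rw [← w00] at hd; linear_combination (-w.1 0 1) * hd
        · rw [w10]; ring
        · rw [w00]; ring
      refine ⟨⟨⟨_, hzc⟩, ⟨w.1 0 0 * w.1 0 1, ?_⟩⟩, ?_⟩
      · rw [mem_addOf]
        have h3 : uu (w.1 0 0 * w.1 0 1) =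
            (mk2 (w.1 0 0) 0 0 (w.1 0 0) (by rw [← w00] at hd; linear_combination hd))⁻¹ * w := by
          rw [eq_inv_mul_iff_mul_eq]; exact hw'.symm
        rw [h3]
        exact H.mul_mem (H.inv_mem (hZ hzc)) hwH
      · apply Subtype.ext
        exact hw'.symm
  exact (Nat.card_congr (Equiv.ofBijective ψ hψ)).symm

/-- a saturated set of semisimple elements with fewer than `|H|/2` elements is a single class -/
theorem one_classZ (H : Subgroup (SpecialLinearGroup (Fin 2) F))
    (hZ : center (SpecialLinearGroup (Fin 2) F) ≤ H) (T : Set (SpecialLinearGroup (Fin 2) F))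
    (hT : ∀ x ∈ T, x ∈ H ∧ tr x ^ 2 ≠ 4 ∧ Ucl H (cenIn H x) ⊆ T) (hne : 0 < T.ncard)
    (hlt : 2 * T.ncard < Nat.card H) :
    ∃ x ∈ T, ∃ c : ℕ, 2 ≤ c ∧ T = Ucl H (cenIn H x) ∧ Nat.card (cenIn H x) = zc F * c ∧
      T.ncard * (2 * c) = Nat.card H * (c - 1) := by
  obtain ⟨x, hx⟩ := (Set.ncard_pos (Set.toFinite T)).1 hne
  obtain ⟨hxH, hxs, hxT⟩ := hT x hx
  obtain ⟨c, ε, hc, hε, hcard, -, hU⟩ := ss_classZ H hZ hxH hxs
  have hle := Set.ncard_le_ncard hxT (Set.toFinite T)
  have hxc : x ∉ center (SpecialLinearGroup (Fin 2) F) := fun h => hxs (tr_sq_of_mem_center x h)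
  have hε2 : ε = 2 := by
    rcases hε with rfl | rfl
    · have := two_mul_ge hc hU
      omega
    · rfl
  subst hε2
  have hTU : T = Ucl H (cenIn H x) := by
    by_contra hne'
    have : ∃ y ∈ T, y ∉ Ucl H (cenIn H x) := by
      by_contra hcon
      push Not at hcon
      exact hne' (Set.Subset.antisymm hcon hxT)
    obtain ⟨y, hy, hyU⟩ := this
    obtain ⟨hyH, hys, hyT⟩ := hT y hy
    obtain ⟨c', ε', hc', hε', -, -, hU'⟩ := ss_classZ H hZ hyH hys
    have hyc : y ∉ center (SpecialLinearGroup (Fin 2) F) := fun h => hys (tr_sq_of_mem_center y h)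
    have hdisj := Ucl_cenIn_disjoint commTrans_SL2 hxc hyc hyH hyU
    have h1 := Set.ncard_union_eq hdisj (Set.toFinite _) (Set.toFinite _)
    have h3 := Set.ncard_le_ncard (Set.union_subset hyT hxT) (Set.toFinite T)
    have h4 := four_mul_ge hc (Or.inr rfl) hU
    have h5 := four_mul_ge hc' hε' hU'
    omega
  refine ⟨x, hx, c, hc, hTU, hcard, ?_⟩
  rw [hTU]
  exact hU

end Cfsg.Agent.Lib.Helper7
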