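import Mathlib
import Cfsg.Agent.Lib.Helper7.SL2ClassZ

set_option autoImplicit false
set_option linter.unusedSimpArgs false
set_option linter.unusedSectionVars false
set_option linter.unusedVariables false

/-! The class equation analysis for subgroups of `SL₂(q)` with a non-normal Sylow `p`-subgroup of
order at least `3`, in every characteristic. -/

namespace Cfsg.Agent.Lib.Helper7

open Matrix Subgroup Cfsg.Agent.Lib.Helper46

variable {F : Type*} [Field F] [Fintype F]

theorem exists_torusZ (H : Subgroup (SpecialLinearGroup (Fin 2) F))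
    (hD : zc F < Nat.card (diagOf H)) :
    ∃ y₀ ∈ H, tr y₀ ^ 2 ≠ 4 ∧ Nat.card (cenIn H y₀) = Nat.card (diagOf H) := by
  apply exists_torus
  by_cases h2 : (2 : F) = 0
  · rw [zc_of_two_eq h2] at hD
    by_contra hlt
    have h2c : Nat.card (diagOf H) = 2 := by omega
    obtain ⟨d, hd⟩ : ∃ d : diagOf H, d ≠ 1 := by
      have : Nontrivial (diagOf H) := (Finite.one_lt_card_iff_nontrivial).1 (by omega)
      exact exists_ne 1
    have h1 : d ^ 2 = 1 := by rw [← h2c]; exact pow_card_eq_one'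
    apply hd
    apply Subtype.ext
    apply Units.ext
    have h3 : ((d.1 : Fˣ) : F) ^ 2 = 1 := by
      have := congrArg (fun s : diagOf H => ((s.1 : Fˣ) : F)) h1
      simpa using this
    have h4 : (((d.1 : Fˣ) : F) - 1) ^ 2 = 0 := by
      linear_combination h3 - ((d.1 : Fˣ) : F) * h2 + h2
    have := pow_eq_zero_iff (two_ne_zero) |>.1 h4
    simp only [OneMemClass.coe_one, Units.val_one]
    linear_combination this
  · rw [zc_of_two_ne h2] at hD; omega

theorem exists_scale (F : Type*) [Field F] : ∃ D : ℕ, 0 < D ∧ D * zc F = 2 := by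
  rcases zc_cases F with h | h
  · exact ⟨2, by norm_num, by rw [h]⟩
  · exact ⟨1, by norm_num, by rw [h]⟩

theorem scale_class {D T N c e : ℕ} (h : T * (e * c) = N * (c - 1)) :
    (D * T) * (e * c) = (D * N) * (c - 1) := by
  rw [mul_assoc, h, mul_assoc]

set_option maxHeartbeats 1000000 in
/-- The class equation analysis, any characteristic. -/
theorem main_analysisZ (p : ℕ) [Fact p.Prime] [CharP F p]
    (H : Subgroup (SpecialLinearGroup (Fin 2) F))
    (hZ : center (SpecialLinearGroup (Fin 2) F) ≤ H) {a₀ b₀ : F} (ha₀ : a₀ ≠ 0) (hb₀ : b₀ ≠ 0)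
    (hu : uu a₀ ∈ H) (hl : ll b₀ ∈ H) (hπ3 : 3 ≤ Nat.card (addOf H)) :
    (∀ c ∈ ptsOf H, ∀ c' ∈ ptsOf H, c - c' ∈ addOf H) ∨
    (Nat.card (addOf H) = 3 ∧ Nat.card H = zc F * 60) := by
  classical
  obtain ⟨D, hDpos, hDz⟩ := exists_scale F
  have hzpos := zc_pos F
  have hcz : Nat.card (center (SpecialLinearGroup (Fin 2) F)) = zc F := rfl
  set z := zc F with hzdef
  set π := Nat.card (addOf H) with hπdef
  have hπpos : 0 < π := Nat.card_pos
  obtain ⟨k, hk1, hkπ, hBk⟩ := card_bor_fiber ha₀ hu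
  rw [card_cenIn_uuZ hZ ha₀, ← hπdef, ← hzdef] at hBk
  have hBD := card_bor_diag H
  rw [← hπdef] at hBD
  have hDg : Nat.card (diagOf H) = z * k := by
    apply Nat.eq_of_mul_eq_mul_right hπpos
    rw [← hBD, hBk]; ring
  have hN := card_H_pts H
  obtain ⟨r, hΩ, hr1⟩ := card_pts H
  rw [← hπdef] at hΩ
  have hr : 1 ≤ r := by
    have hmem : 1 / b₀ ∈ ptsOf H := ⟨ll b₀, hl, by simpa [ll] using hb₀, by simp [ll, hb₀]⟩
    have hpos : 0 < (ptsOf H).ncard := (Set.ncard_pos (Set.toFinite _)).2 ⟨_, hmem⟩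
    rcases Nat.eq_zero_or_pos r with rfl | h
    · simp at hΩ; omega
    · exact h
  have hUP := card_Ucl_cenIn commTrans_SL2 H (uu_not_center ha₀)
  rw [norIn_cenIn_uu ha₀ hu, cenIn_inf_center hZ, hcz, card_cenIn_uuZ hZ ha₀, ← hπdef, ← hzdef]
    at hUP
  set UPs := Ucl H (cenIn H (uu a₀)) with hUPs
  set T0 : Set (SpecialLinearGroup (Fin 2) F) :=
    (H : Set _) \ ((center (SpecialLinearGroup (Fin 2) F) : Set _) ∪ UPs) with hT0def
  have hHcard : (H : Set (SpecialLinearGroup (Fin 2) F)).ncard = Nat.card H :=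
    (Nat.card_coe_set_eq _).symm
  have hT0card : T0.ncard + (z + UPs.ncard) = Nat.card H := by
    have hsub : ((center (SpecialLinearGroup (Fin 2) F) : Set _) ∪ UPs) ⊆ (H : Set _) :=
      Set.union_subset hZ (Ucl_subset (cenIn_le H _))
    have h1 := Set.ncard_sdiff_add_ncard_of_subset hsub (Set.toFinite _)
    have hdisj : Disjoint (center (SpecialLinearGroup (Fin 2) F) : Set _) UPs := by
      rw [Set.disjoint_left]
      intro w hw hw'
      exact not_center_of_mem_Ucl hw' hw
    rw [Set.ncard_union_eq hdisj (Set.toFinite _) (Set.toFinite _), hHcard] at h1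
    have h3 : ((center (SpecialLinearGroup (Fin 2) F) : Subgroup _) :
        Set (SpecialLinearGroup (Fin 2) F)).ncard = z := by
      exact ((Nat.card_coe_set_eq _).symm).trans hcz
    rw [h3] at h1
    exact h1
  have hT0sat : ∀ x ∈ T0, x ∈ H ∧ tr x ^ 2 ≠ 4 ∧ Ucl H (cenIn H x) ⊆ T0 := by
    rintro x ⟨hxH, hxn⟩
    have hxc : x ∉ center (SpecialLinearGroup (Fin 2) F) := fun h => hxn (Or.inl h)
    have hxU : x ∉ UPs := fun h => hxn (Or.inr h)
    refine ⟨hxH, fun ht => hxU (parabolic_mem_Ucl p hZ ha₀ hu hxH hxc ht), ?_⟩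
    intro w hw
    refine ⟨Ucl_subset (cenIn_le H _) hw, ?_⟩
    rintro (h | h)
    · exact not_center_of_mem_Ucl hw h
    · exact Set.disjoint_left.1
        (Ucl_cenIn_disjoint commTrans_SL2 (uu_not_center ha₀) hxc hxH hxU) hw h
  -- scaled quantities
  obtain ⟨hT0v, hNv⟩ := arithT0 (Bc := D * Nat.card (H ⊓ BorS F : Subgroup _)) (N := D * Nat.card H)
    (Ω := (ptsOf H).ncard) (UP := D * UPs.ncard) (T0 := D * T0.ncard) hπ3 hk1
    (by rw [hBk, ← hDz]; ring) (by rw [hN]; ring) hΩ
    (by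
      have e : 2 * π - 2 = D * (z * π - z) := by
        rw [Nat.mul_sub, ← mul_assoc, hDz]
      rw [e]
      calc D * UPs.ncard * (D * Nat.card (H ⊓ BorS F : Subgroup _))
          = D * D * (UPs.ncard * Nat.card (H ⊓ BorS F : Subgroup _)) := by ring
        _ = D * D * (Nat.card H * (z * π - z)) := by rw [hUP]
        _ = _ := by ring)
    (by
      rw [← hT0card]
      have : D * (T0.ncard + (z + UPs.ncard)) = D * T0.ncard + (D * z + D * UPs.ncard) := by ring
      rw [this, hDz])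
  by_cases hk : k = 1
  · -- the case k = 1
    left
    apply hr1
    subst hk
    simp only [Nat.sub_self, mul_zero, zero_add, mul_one] at hT0v hNv
    obtain ⟨x, -, c, hc, -, -, hcl⟩ := one_classZ H hZ T0 hT0sat
      (by
        have := arithP1 hπ3 hr
        rw [← hT0v] at this
        exact Nat.pos_of_mul_pos_left this |> fun h => by
          rcases Nat.eq_zero_or_pos T0.ncard with h0 | h0
          · rw [h0] at this; simp at this
          · exact h0)
      (by
        have := arithP2 hπ3 hr (le_refl 1)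
        rw [mul_one, ← hT0v, ← hNv] at this
        have h' : D * (2 * T0.ncard) < D * Nat.card H := by
          calc D * (2 * T0.ncard) = 2 * (D * T0.ncard) := by ring
            _ < _ := this
        exact Nat.lt_of_mul_lt_mul_left h')
    exact arithA hπ3 hr hc (arithC1 hπ3 hr hc hT0v hNv (scale_class hcl))
  · have hk2 : 2 ≤ k := by omega
    obtain ⟨y₀, hy₀H, hy₀s, hy₀c⟩ := exists_torusZ H (by
      rw [hDg, ← hzdef]
      calc z = z * 1 := (mul_one z).symm
        _ < z * k := Nat.mul_lt_mul_of_pos_left (by omega) hzpos)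
    rw [hDg] at hy₀c
    obtain ⟨cK, ε, hcK, hε, hcardK, -, hUK⟩ := ss_classZ H hZ hy₀H hy₀s
    have hcKk : cK = k := by
      rw [hy₀c, ← hzdef] at hcardK
      exact (Nat.eq_of_mul_eq_mul_left hzpos hcardK).symm
    subst hcKk
    have hy₀c' : y₀ ∉ center (SpecialLinearGroup (Fin 2) F) :=
      fun h => hy₀s (tr_sq_of_mem_center y₀ h)
    have hy₀T0 : y₀ ∈ T0 := by
      refine ⟨hy₀H, ?_⟩
      rintro (h | h)
      · exact hy₀c' h
      · exact hy₀s (tr_of_mem_Ucl_uu ha₀ h)
    set UKs := Ucl H (cenIn H y₀) with hUKs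
    have hUKsub : UKs ⊆ T0 := (hT0sat y₀ hy₀T0).2.2
    set T1 : Set (SpecialLinearGroup (Fin 2) F) := T0 \ UKs with hT1def
    have hT1card : T1.ncard + UKs.ncard = T0.ncard :=
      Set.ncard_sdiff_add_ncard_of_subset hUKsub (Set.toFinite _)
    have hT1card' : D * T1.ncard + D * UKs.ncard = D * T0.ncard := by
      rw [← hT1card]; ring
    have hT1sat : ∀ x ∈ T1, x ∈ H ∧ tr x ^ 2 ≠ 4 ∧ Ucl H (cenIn H x) ⊆ T1 := by
      rintro x ⟨hxT0, hxU⟩
      obtain ⟨hxH, hxs, hxsub⟩ := hT0sat x hxT0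
      have hxc : x ∉ center (SpecialLinearGroup (Fin 2) F) :=
        fun h => hxs (tr_sq_of_mem_center x h)
      refine ⟨hxH, hxs, fun w hw => ⟨hxsub hw, fun h => ?_⟩⟩
      exact Set.disjoint_left.1 (Ucl_cenIn_disjoint commTrans_SL2 hy₀c' hxc hxH hxU) hw h
    have pos_of : ∀ {t v : ℕ}, D * t = v → 0 < v → 0 < t := by
      intro t v h1 h2
      rcases Nat.eq_zero_or_pos t with h0 | h0
      · rw [h0] at h1; simp at h1; omega
      · exact h0
    have lt_of : ∀ {t v n : ℕ}, D * t = v → D * Nat.card H = n → 2 * v < n →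
        2 * t < Nat.card H := by
      intro t v n h1 h2 h3
      rw [← h1, ← h2] at h3
      have h' : D * (2 * t) < D * Nat.card H := by
        calc D * (2 * t) = 2 * (D * t) := by ring
          _ < _ := h3
      exact Nat.lt_of_mul_lt_mul_left h'
    rcases hε with rfl | rfl
    · exfalso
      have hT1v := arithUK1 hπ3 hk2 hT0v hNv (scale_class hUK) hT1card'
      obtain ⟨x, -, c, hc, -, -, hcl⟩ := one_classZ H hZ T1 hT1sat
        (pos_of hT1v (arithP1 hπ3 hr))
        (lt_of hT1v hNv (arithP2 hπ3 hr hk1))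
      exact arithB1 hπ3 hr hc hk2 (arithC2 hπ3 hT1v hNv (scale_class hcl))
    · have hT1v := arithUK2 hπ3 hk2 hT0v hNv (scale_class hUK) hT1card'
      obtain ⟨x₁, -, c, hc, hT1eq, hcard₁, hcl⟩ := one_classZ H hZ T1 hT1sat
        (pos_of hT1v (arithP3 hπ3 hr))
        (lt_of hT1v hNv (arithP4 hπ3 hr hk2))
      rcases arithB2 hπ3 hr hk2 hkπ (arithC3 hπ3 hk2 hc hT1v hNv (scale_class hcl)) with
        h | ⟨e1, e2, e3, e4⟩
      · left; exact hr1 h
      · right
        refine ⟨e1, ?_⟩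
        rw [e1, e2, e3] at hNv
        apply Nat.eq_of_mul_eq_mul_left hDpos
        rw [hNv, ← mul_assoc, hDz]
        norm_num

end Cfsg.Agent.Lib.Helper7
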