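import Mathlib
import Cfsg.Agent.Lib.Helper7.SL2KeyZ

set_option autoImplicit false
set_option linter.unusedSimpArgs false
set_option linter.unusedSectionVars false
set_option linter.unusedVariables false

/-! Peeling classes off the class equation of a subgroup of `SL₂(q)`; transport of centraliser
data along conjugation. -/

namespace Cfsg.Agent.Lib.Helper7

open Matrix Subgroup Cfsg.Agent.Lib.Helper46

section general

variable {G : Type*} [Group G]

theorem cenIn_conj {H : Subgroup G} {h : G} (hh : h ∈ H) (a : G) :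
    cenIn H (h * a * h⁻¹) = (cenIn H a).map (MulAut.conj h).toMonoidHom := by
  ext w
  rw [Subgroup.mem_map_equiv, MulAut.conj_symm_apply, mem_cenIn, mem_cenIn]
  constructor
  · rintro ⟨h1, h2⟩
    refine ⟨H.mul_mem (H.mul_mem (H.inv_mem hh) h1) hh, ?_⟩
    have h3 : w * (h * a * h⁻¹) = h * a * h⁻¹ * w := h2
    show h⁻¹ * w * h * a = a * (h⁻¹ * w * h)
    have e1 : h⁻¹ * w * h * a = h⁻¹ * (w * (h * a * h⁻¹)) * h := by group
    have e2 : a * (h⁻¹ * w * h) = h⁻¹ * (h * a * h⁻¹ * w) * h := by group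
    rw [e1, e2, h3]
  · rintro ⟨h1, h2⟩
    have h3 : h⁻¹ * w * h * a = a * (h⁻¹ * w * h) := h2
    refine ⟨?_, ?_⟩
    · have := H.mul_mem (H.mul_mem hh h1) (H.inv_mem hh)
      simpa [mul_assoc] using this
    · show w * (h * a * h⁻¹) = h * a * h⁻¹ * w
      have e1 : w * (h * a * h⁻¹) = h * (h⁻¹ * w * h * a) * h⁻¹ := by group
      have e2 : h * a * h⁻¹ * w = h * (a * (h⁻¹ * w * h)) * h⁻¹ := by group
      rw [e1, e2, h3]

theorem norIn_conj {H A : Subgroup G} {h : G} (hh : h ∈ H) :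
    norIn H (A.map (MulAut.conj h).toMonoidHom) = (norIn H A).map (MulAut.conj h).toMonoidHom := by
  ext g
  rw [Subgroup.mem_map_equiv, MulAut.conj_symm_apply, mem_norIn, mem_norIn]
  constructor
  · rintro ⟨h1, h2⟩
    refine ⟨H.mul_mem (H.mul_mem (H.inv_mem hh) h1) hh, fun v => ?_⟩
    have := h2 (h * v * h⁻¹)
    rw [Subgroup.mem_map_equiv, Subgroup.mem_map_equiv, MulAut.conj_symm_apply,
      MulAut.conj_symm_apply] at this
    have e1 : h⁻¹ * (h * v * h⁻¹) * h = v := by group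
    have e2 : h⁻¹ * (g * (h * v * h⁻¹) * g⁻¹) * h = h⁻¹ * g * h * v * (h⁻¹ * g * h)⁻¹ := by group
    rw [e1, e2] at this
    exact this
  · rintro ⟨h1, h2⟩
    refine ⟨?_, fun w => ?_⟩
    · have := H.mul_mem (H.mul_mem hh h1) (H.inv_mem hh)
      simpa [mul_assoc] using this
    · rw [Subgroup.mem_map_equiv, Subgroup.mem_map_equiv, MulAut.conj_symm_apply,
        MulAut.conj_symm_apply]
      have := h2 (h⁻¹ * w * h)
      have e2 : h⁻¹ * g * h * (h⁻¹ * w * h) * (h⁻¹ * g * h)⁻¹ = h⁻¹ * (g * w * g⁻¹) * h := by group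
      rw [e2] at this
      exact this

theorem card_map_conj (A : Subgroup G) (h : G) :
    Nat.card (A.map (MulAut.conj h).toMonoidHom) = Nat.card A :=
  Subgroup.card_map_of_injective (MulAut.conj h).injective

theorem card_of_mem_Ucl (hCT : CommTrans G) {H : Subgroup G} {x y : G} (hx : x ∉ center G)
    (hy : y ∈ Ucl H (cenIn H x)) :
    Nat.card (cenIn H y) = Nat.card (cenIn H x) ∧
      Nat.card (norIn H (cenIn H y)) = Nat.card (norIn H (cenIn H x)) := by
  obtain ⟨h, hh, a, ha, hnc, rfl⟩ := hy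
  rw [cenIn_conj hh, norIn_conj hh, cenIn_eq_of_mem hCT ha hx hnc, card_map_conj, card_map_conj]
  exact ⟨rfl, rfl⟩

/-- elements of `A` have their `c`-th power in a central subgroup of index `c` -/
theorem pow_mem_of_card {A Z : Subgroup G} [Finite A] (hZA : Z ≤ A) (hZ : Z ≤ center G) {c : ℕ}
    (hc : Nat.card A = Nat.card Z * c) {a : G} (ha : a ∈ A) : a ^ c ∈ Z := by
  haveI : (Z.subgroupOf A).Normal := by
    constructor
    intro n hn g
    rw [mem_subgroupOf] at hn ⊢
    have h1 : (n : G) ∈ center G := hZ hn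
    have h2 : ((g * n * g⁻¹ : A) : G) = n := by
      push_cast
      rw [mem_center_iff.1 h1 g]
      group
    rw [h2]; exact hn
  have hidx : (Z.subgroupOf A).index = c := by
    have h1 := (Z.subgroupOf A).card_mul_index
    rw [Nat.card_congr (subgroupOfEquivOfLe hZA).toEquiv, hc] at h1
    have hpos : 0 < Nat.card Z := by
      haveI : Finite Z := Finite.of_injective (Subgroup.inclusion hZA) (inclusion_injective hZA)
      exact Nat.card_pos
    exact Nat.eq_of_mul_eq_mul_left hpos h1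
  have := Subgroup.pow_index_mem (Z.subgroupOf A) (⟨a, ha⟩ : A)
  rw [hidx, mem_subgroupOf] at this
  simpa using this

end general

variable {F : Type*} [Field F] [Fintype F]

/-- a union of classes of semisimple elements of `H` -/
def Sat (H : Subgroup (SpecialLinearGroup (Fin 2) F)) (T : Set (SpecialLinearGroup (Fin 2) F)) :
    Prop :=
  ∀ x ∈ T, x ∈ H ∧ tr x ^ 2 ≠ 4 ∧ Ucl H (cenIn H x) ⊆ T

theorem peel (H : Subgroup (SpecialLinearGroup (Fin 2) F))
    (hZ : center (SpecialLinearGroup (Fin 2) F) ≤ H) (T : Set (SpecialLinearGroup (Fin 2) F))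
    (hT : Sat H T) (hne : T.ncard ≠ 0) :
    ∃ x ∈ T, ∃ d ε m : ℕ, 1 ≤ d ∧ (ε = 1 ∨ ε = 2) ∧ 1 ≤ m ∧
      Nat.card H = zc F * (ε * (d + 1) * m) ∧
      (Ucl H (cenIn H x)).ncard = zc F * (m * d) ∧
      Nat.card (cenIn H x) = zc F * (d + 1) ∧
      Nat.card (norIn H (cenIn H x)) = ε * (zc F * (d + 1)) ∧
      Sat H (T \ Ucl H (cenIn H x)) ∧
      (T \ Ucl H (cenIn H x)).ncard + (Ucl H (cenIn H x)).ncard = T.ncard := by
  obtain ⟨x, hx⟩ := (Set.ncard_pos (Set.toFinite T)).1 (Nat.pos_of_ne_zero hne)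
  obtain ⟨hxH, hxs, hxT⟩ := hT x hx
  obtain ⟨c, ε, hc, hε, hcard, hnor, hU⟩ := ss_classZ H hZ hxH hxs
  have hxc : x ∉ center (SpecialLinearGroup (Fin 2) F) := fun h => hxs (tr_sq_of_mem_center x h)
  obtain ⟨d, rfl⟩ : ∃ d, c = d + 1 := ⟨c - 1, by omega⟩
  obtain ⟨m, hm⟩ : Nat.card (norIn H (cenIn H x)) ∣ Nat.card H := card_dvd_of_le (norIn_le _ _)
  have hzpos := zc_pos F
  have hNpos : 0 < Nat.card H := Nat.card_pos
  have hεpos : 0 < ε := by rcases hε with rfl | rfl <;> norm_num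
  have hm1 : 1 ≤ m := by
    rcases Nat.eq_zero_or_pos m with rfl | h
    · simp at hm; omega
    · exact h
  rw [hnor] at hm
  refine ⟨x, hx, d, ε, m, by omega, hε, hm1, by rw [hm]; ring, ?_, hcard, hnor, ?_,
    Set.ncard_sdiff_add_ncard_of_subset hxT (Set.toFinite _)⟩
  · have h1 : (Ucl H (cenIn H x)).ncard * (ε * (d + 1)) = zc F * (m * d) * (ε * (d + 1)) := by
      rw [hU, hm, Nat.add_sub_cancel]; ring
    exact Nat.eq_of_mul_eq_mul_right (by positivity) h1
  · rintro y ⟨hyT, hyU⟩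
    obtain ⟨hyH, hys, hysub⟩ := hT y hyT
    have hyc : y ∉ center (SpecialLinearGroup (Fin 2) F) :=
      fun h => hys (tr_sq_of_mem_center y h)
    refine ⟨hyH, hys, fun w hw => ⟨hysub hw, fun h => ?_⟩⟩
    exact Set.disjoint_left.1 (Ucl_cenIn_disjoint commTrans_SL2 hxc hyc hyH hyU) hw h

end Cfsg.Agent.Lib.Helper7
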