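import Mathlib
import Cfsg.Agent.Lib.Helper7.SL2Peel

set_option autoImplicit false
set_option linter.unusedSimpArgs false
set_option linter.unusedSectionVars false
set_option linter.unusedVariables false

/-! The class equation of a subgroup of `SL₂(q)` all of whose noncentral elements are semisimple. -/

namespace Cfsg.Agent.Lib.Helper7

open Matrix Subgroup Cfsg.Agent.Lib.Helper46

section arith

theorem ar_w_ge {g ε d m : ℕ} (hg : g = ε * (d + 1) * m) (hε : ε = 1 ∨ ε = 2) (hd : 1 ≤ d) :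
    g ≤ 4 * (m * d) := by
  have h1 : m ≤ m * d := Nat.le_mul_of_pos_right _ hd
  rcases hε with rfl | rfl <;> nlinarith

theorem ar_one {g ε d m : ℕ} (hg : g = ε * (d + 1) * m) (hε : ε = 1 ∨ ε = 2) (hd : 1 ≤ d)
    (hm : 1 ≤ m) (h : 1 + m * d = g) : m = 1 := by
  have h1 : m ≤ m * d := Nat.le_mul_of_pos_right _ hd
  rcases hε with rfl | rfl <;> nlinarith

theorem ar_two_aux {g d₁ m₁ d₂ m₂ : ℕ} (hg₁ : g = 1 * (d₁ + 1) * m₁) (hg₂ : g = 2 * (d₂ + 1) * m₂)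
    (hd₁ : 1 ≤ d₁) (hd₂ : 1 ≤ d₂) (hm₁ : 1 ≤ m₁) (hm₂ : 1 ≤ m₂)
    (h : 1 + m₁ * d₁ + m₂ * d₂ = g) : m₂ = 1 ∨ (g = 12 ∧ d₁ = 2 ∧ d₂ = 1) := by
  have e1 : m₁ = 1 + m₂ * d₂ := by nlinarith
  subst e1
  have h2 : m₂ ≤ m₂ * d₂ := Nat.le_mul_of_pos_right _ hd₂
  rcases Nat.lt_or_ge d₁ 3 with h3 | h3
  · have : d₁ = 1 ∨ d₁ = 2 := by omega
    rcases this with rfl | rfl
    · left; nlinarith
    · right
      have e2 : 3 + m₂ * d₂ = 2 * m₂ := by nlinarith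
      have hd2 : d₂ = 1 := by
        by_contra hne
        have : 2 ≤ d₂ := by omega
        have : m₂ * 2 ≤ m₂ * d₂ := Nat.mul_le_mul_left _ this
        omega
      subst hd2
      have : m₂ = 3 := by omega
      subst this
      exact ⟨by rw [hg₂], rfl, rfl⟩
  · exfalso
    obtain ⟨e, rfl⟩ : ∃ e, d₁ = e + 3 := ⟨d₁ - 3, by omega⟩
    have h5 : 0 ≤ m₂ * d₂ * e := Nat.zero_le _
    nlinarith

theorem ar_two {g ε₁ d₁ m₁ ε₂ d₂ m₂ : ℕ} (hg₁ : g = ε₁ * (d₁ + 1) * m₁)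
    (hg₂ : g = ε₂ * (d₂ + 1) * m₂) (hε₁ : ε₁ = 1 ∨ ε₁ = 2) (hε₂ : ε₂ = 1 ∨ ε₂ = 2)
    (hd₁ : 1 ≤ d₁) (hd₂ : 1 ≤ d₂) (hm₁ : 1 ≤ m₁) (hm₂ : 1 ≤ m₂)
    (h : 1 + m₁ * d₁ + m₂ * d₂ = g) :
    m₁ = 1 ∨ m₂ = 1 ∨ (g = 12 ∧ ((d₁ = 2 ∧ ε₁ = 1 ∧ d₂ = 1 ∧ ε₂ = 2) ∨
      (d₁ = 1 ∧ ε₁ = 2 ∧ d₂ = 2 ∧ ε₂ = 1))) := by
  have h1 : m₁ ≤ m₁ * d₁ := Nat.le_mul_of_pos_right _ hd₁
  have h2 : m₂ ≤ m₂ * d₂ := Nat.le_mul_of_pos_right _ hd₂
  rcases hε₁ with rfl | rfl <;> rcases hε₂ with rfl | rfl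
  · exfalso; nlinarith
  · rcases ar_two_aux hg₁ hg₂ hd₁ hd₂ hm₁ hm₂ h with h | ⟨a, b, c⟩
    · right; left; exact h
    · right; right; exact ⟨a, Or.inl ⟨b, rfl, c, rfl⟩⟩
  · rcases ar_two_aux hg₂ hg₁ hd₂ hd₁ hm₂ hm₁ (by rw [← h]; ring) with h | ⟨a, b, c⟩
    · left; exact h
    · right; right; exact ⟨a, Or.inr ⟨c, rfl, b, rfl⟩⟩
  · exfalso; nlinarith

/-- three classes, one of them with `ε = 1`: impossible -/
theorem ar_three_eps {g d₁ m₁ ε₂ d₂ m₂ ε₃ d₃ m₃ : ℕ} (hg₁ : g = 1 * (d₁ + 1) * m₁)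
    (hg₂ : g = ε₂ * (d₂ + 1) * m₂) (hg₃ : g = ε₃ * (d₃ + 1) * m₃)
    (hε₂ : ε₂ = 1 ∨ ε₂ = 2) (hε₃ : ε₃ = 1 ∨ ε₃ = 2)
    (hd₁ : 1 ≤ d₁) (hd₂ : 1 ≤ d₂) (hd₃ : 1 ≤ d₃)
    (h : 1 + m₁ * d₁ + m₂ * d₂ + m₃ * d₃ ≤ g) : False := by
  have h2 := ar_w_ge hg₂ hε₂ hd₂
  have h3 := ar_w_ge hg₃ hε₃ hd₃
  have h1 : m₁ ≤ m₁ * d₁ := Nat.le_mul_of_pos_right _ hd₁
  nlinarith

/-- three classes with `ε = 2`, sorted -/
theorem ar_three_sorted {g m₁ d₂ m₂ d₃ m₃ : ℕ} (hg₁ : g = 2 * (1 + 1) * m₁)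
    (hg₂ : g = 2 * (d₂ + 1) * m₂) (hg₃ : g = 2 * (d₃ + 1) * m₃)
    (hd₂ : d₂ = 1 ∨ d₂ = 2) (hd₃ : 1 ≤ d₃) (hm₃ : 1 ≤ m₃)
    (h : 1 + m₁ * 1 + m₂ * d₂ + m₃ * d₃ = g) :
    m₃ = 1 ∨ (d₂ = 2 ∧ ((d₃ = 2 ∧ g = 12) ∨ (d₃ = 3 ∧ g = 24) ∨ (d₃ = 4 ∧ g = 60))) := by
  rcases hd₂ with rfl | rfl
  · left; nlinarith
  · right
    refine ⟨rfl, ?_⟩
    have e1 : m₂ + 2 = 2 * m₃ := by nlinarith
    have e2 : m₃ * d₃ + 6 = 5 * m₃ := by nlinarith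
    have hd5 : d₃ < 5 := by
      by_contra hge
      have : m₃ * 5 ≤ m₃ * d₃ := Nat.mul_le_mul_left _ (by omega)
      omega
    have : d₃ = 1 ∨ d₃ = 2 ∨ d₃ = 3 ∨ d₃ = 4 := by omega
    rcases this with rfl | rfl | rfl | rfl
    · omega
    · left; refine ⟨rfl, ?_⟩; omega
    · right; left; refine ⟨rfl, ?_⟩; omega
    · right; right; refine ⟨rfl, ?_⟩; omega

theorem ar_three {g d₁ m₁ d₂ m₂ d₃ m₃ : ℕ} (hg₁ : g = 2 * (d₁ + 1) * m₁)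
    (hg₂ : g = 2 * (d₂ + 1) * m₂) (hg₃ : g = 2 * (d₃ + 1) * m₃)
    (hd₁ : 1 ≤ d₁) (hd₂ : 1 ≤ d₂) (hd₃ : 1 ≤ d₃) (hm₁ : 1 ≤ m₁) (hm₂ : 1 ≤ m₂) (hm₃ : 1 ≤ m₃)
    (h : 1 + m₁ * d₁ + m₂ * d₂ + m₃ * d₃ = g) :
    (m₁ = 1 ∨ m₂ = 1 ∨ m₃ = 1) ∨
    (g = 12 ∧ ((d₁ = 2 ∧ d₂ = 2) ∨ (d₁ = 2 ∧ d₃ = 2) ∨ (d₂ = 2 ∧ d₃ = 2))) ∨
    (g = 24 ∧ (d₁ = 1 ∨ d₁ = 2 ∨ d₁ = 3) ∧ (d₂ = 1 ∨ d₂ = 2 ∨ d₂ = 3) ∧
      (d₃ = 1 ∨ d₃ = 2 ∨ d₃ = 3)) ∨
    (g = 60 ∧ (d₁ = 1 ∨ d₁ = 2 ∨ d₁ = 4) ∧ (d₂ = 1 ∨ d₂ = 2 ∨ d₂ = 4) ∧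
      (d₃ = 1 ∨ d₃ = 2 ∨ d₃ = 4)) := by
  -- the sum of the `mᵢ`
  have hs : 2 * (m₁ + m₂ + m₃) = 2 + g := by nlinarith
  -- some `dᵢ = 1`
  have hex : d₁ = 1 ∨ d₂ = 1 ∨ d₃ = 1 := by
    by_contra hcon
    push Not at hcon
    obtain ⟨a, b, c⟩ := hcon
    have h1 : m₁ * 2 ≤ m₁ * d₁ := Nat.mul_le_mul_left _ (by omega)
    have h2 : m₂ * 2 ≤ m₂ * d₂ := Nat.mul_le_mul_left _ (by omega)
    have h3 : m₃ * 2 ≤ m₃ * d₃ := Nat.mul_le_mul_left _ (by omega)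
    nlinarith
  -- given `d = 1` for one index, one of the others is at most `2`
  have key : ∀ {m d' m' d'' m'' : ℕ}, g = 2 * (1 + 1) * m → g = 2 * (d' + 1) * m' →
      g = 2 * (d'' + 1) * m'' → 1 ≤ d' → 1 ≤ d'' → 2 * (m + m' + m'') = 2 + g →
      (d' = 1 ∨ d' = 2) ∨ (d'' = 1 ∨ d'' = 2) := by
    intro m d' m' d'' m'' e1 e2 e3 l1 l2 e4
    by_contra hcon
    have a : 3 ≤ d' := by omega
    have b : 3 ≤ d'' := by omega
    have h2 : m' * 3 ≤ m' * d' := Nat.mul_le_mul_left _ a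
    have h3 : m'' * 3 ≤ m'' * d'' := Nat.mul_le_mul_left _ b
    nlinarith
  rcases hex with rfl | rfl | rfl
  · rcases key hg₁ hg₂ hg₃ hd₂ hd₃ hs with hh | hh
    · have := ar_three_sorted hg₁ hg₂ hg₃ hh hd₃ hm₃ h
      rcases this with h' | ⟨rfl, ⟨rfl, hg⟩ | ⟨rfl, hg⟩ | ⟨rfl, hg⟩⟩
      · left; simp [h']
      · right; left; exact ⟨hg, by norm_num⟩
      · right; right; left; exact ⟨hg, by norm_num, by norm_num, by norm_num⟩
      · right; right; right; exact ⟨hg, by norm_num, by norm_num, by norm_num⟩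
    · have := ar_three_sorted hg₁ hg₃ hg₂ hh hd₂ hm₂ (by rw [← h]; ring)
      rcases this with h' | ⟨rfl, ⟨rfl, hg⟩ | ⟨rfl, hg⟩ | ⟨rfl, hg⟩⟩
      · left; simp [h']
      · right; left; exact ⟨hg, by norm_num⟩
      · right; right; left; exact ⟨hg, by norm_num, by norm_num, by norm_num⟩
      · right; right; right; exact ⟨hg, by norm_num, by norm_num, by norm_num⟩
  · rcases key hg₂ hg₁ hg₃ hd₁ hd₃ (by rw [← hs]; ring) with hh | hh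
    · have := ar_three_sorted hg₂ hg₁ hg₃ hh hd₃ hm₃ (by rw [← h]; ring)
      rcases this with h' | ⟨rfl, ⟨rfl, hg⟩ | ⟨rfl, hg⟩ | ⟨rfl, hg⟩⟩
      · left; simp [h']
      · right; left; exact ⟨hg, by norm_num⟩
      · right; right; left; exact ⟨hg, by norm_num, by norm_num, by norm_num⟩
      · right; right; right; exact ⟨hg, by norm_num, by norm_num, by norm_num⟩
    · have := ar_three_sorted hg₂ hg₃ hg₁ hh hd₁ hm₁ (by rw [← h]; ring)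
      rcases this with h' | ⟨rfl, ⟨rfl, hg⟩ | ⟨rfl, hg⟩ | ⟨rfl, hg⟩⟩
      · left; simp [h']
      · right; left; exact ⟨hg, by norm_num⟩
      · right; right; left; exact ⟨hg, by norm_num, by norm_num, by norm_num⟩
      · right; right; right; exact ⟨hg, by norm_num, by norm_num, by norm_num⟩
  · rcases key hg₃ hg₁ hg₂ hd₁ hd₂ (by rw [← hs]; ring) with hh | hh
    · have := ar_three_sorted hg₃ hg₁ hg₂ hh hd₂ hm₂ (by rw [← h]; ring)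
      rcases this with h' | ⟨rfl, ⟨rfl, hg⟩ | ⟨rfl, hg⟩ | ⟨rfl, hg⟩⟩
      · left; simp [h']
      · right; left; exact ⟨hg, by norm_num⟩
      · right; right; left; exact ⟨hg, by norm_num, by norm_num, by norm_num⟩
      · right; right; right; exact ⟨hg, by norm_num, by norm_num, by norm_num⟩
    · have := ar_three_sorted hg₃ hg₂ hg₁ hh hd₁ hm₁ (by rw [← h]; ring)
      rcases this with h' | ⟨rfl, ⟨rfl, hg⟩ | ⟨rfl, hg⟩ | ⟨rfl, hg⟩⟩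
      · left; simp [h']
      · right; left; exact ⟨hg, by norm_num⟩
      · right; right; left; exact ⟨hg, by norm_num, by norm_num, by norm_num⟩
      · right; right; right; exact ⟨hg, by norm_num, by norm_num, by norm_num⟩

theorem ar_four {g w₁ w₂ w₃ w₄ : ℕ} (h₁ : g ≤ 4 * w₁) (h₂ : g ≤ 4 * w₂) (h₃ : g ≤ 4 * w₃)
    (h₄ : g ≤ 4 * w₄) (h : 1 + w₁ + w₂ + w₃ + w₄ ≤ g) : False := by omega

end arith

variable {F : Type*} [Field F] [Fintype F]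

/-- centraliser data of an element: `|C_H(y)| = z c`, `|N_H(C_H(y))| = ε z c` -/
def CD (H : Subgroup (SpecialLinearGroup (Fin 2) F)) (c ε : ℕ)
    (y : SpecialLinearGroup (Fin 2) F) : Prop :=
  Nat.card (cenIn H y) = zc F * c ∧ Nat.card (norIn H (cenIn H y)) = ε * (zc F * c)

theorem CD_of_mem_Ucl {H : Subgroup (SpecialLinearGroup (Fin 2) F)} {c ε : ℕ}
    {x y : SpecialLinearGroup (Fin 2) F} (hx : x ∉ center (SpecialLinearGroup (Fin 2) F))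
    (h : CD H c ε x) (hy : y ∈ Ucl H (cenIn H x)) : CD H c ε y := by
  obtain ⟨h1, h2⟩ := card_of_mem_Ucl commTrans_SL2 hx hy
  exact ⟨h1.trans h.1, h2.trans h.2⟩

/-- a torus normaliser of index two contains every element of odd order modulo the centre -/
theorem excl_index_two (H : Subgroup (SpecialLinearGroup (Fin 2) F))
    (hZ : center (SpecialLinearGroup (Fin 2) F) ≤ H) {x y : SpecialLinearGroup (Fin 2) F}
    (hx : x ∈ H) (hxs : tr x ^ 2 ≠ 4) (hy : y ∈ H)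
    (hyc : y ∉ center (SpecialLinearGroup (Fin 2) F)) (hyU : y ∉ Ucl H (cenIn H x))
    (hnx : Nat.card (norIn H (cenIn H x)) * 2 = Nat.card H)
    (hcy : Nat.card (cenIn H y) = zc F * 3) : False := by
  set N2 := norIn H (cenIn H x) with hN2
  have hN2H : N2 ≤ H := norIn_le _ _
  have hidx : (N2.subgroupOf H).index = 2 := by
    have h1 := (N2.subgroupOf H).card_mul_index
    rw [Nat.card_congr (subgroupOfEquivOfLe hN2H).toEquiv, ← hnx] at h1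
    exact Nat.eq_of_mul_eq_mul_left Nat.card_pos h1
  have hy2 : y ^ 2 ∈ N2 := by
    have := Subgroup.sq_mem_of_index_two hidx (⟨y, hy⟩ : H)
    rw [mem_subgroupOf] at this
    simpa using this
  have hy3 : y ^ 3 ∈ center (SpecialLinearGroup (Fin 2) F) :=
    pow_mem_of_card (center_le_cenIn hZ y) le_rfl hcy (self_mem_cenIn hy)
  have hZN : center (SpecialLinearGroup (Fin 2) F) ≤ N2 :=
    (center_le_cenIn hZ x).trans (le_norIn (cenIn_le _ _))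
  have hyeq : y = y ^ 3 * (y ^ 2)⁻¹ := by group
  have hyN : y ∈ N2 := by
    rw [hyeq]; exact N2.mul_mem (hZN hy3) (N2.inv_mem hy2)
  have hnot : y ∉ cenIn H x := fun h => hyU (mem_Ucl_of_mem h hyc)
  rcases norIn_cen_or_inv H hx hxs hyN with h | h
  · exact hnot h
  · have hy2c : y ^ 2 ∉ center (SpecialLinearGroup (Fin 2) F) := by
      intro h2
      apply hyc
      rw [hyeq]
      exact (center _).mul_mem hy3 ((center _).inv_mem h2)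
    have hc2 : Commute x (y ^ 2) := by
      have h1 : y * x = x⁻¹ * y := by
        have := congrArg (· * y) h
        simpa using this
      have h2 : y * x⁻¹ = x * y := by
        have e : y * x⁻¹ * y⁻¹ = x := by
          have := congrArg (·⁻¹) h
          simpa [mul_assoc] using this
        have := congrArg (· * y) e
        simpa using this
      show x * y ^ 2 = y ^ 2 * x
      calc x * y ^ 2 = (x * y) * y := by rw [pow_two, mul_assoc]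
        _ = (y * x⁻¹) * y := by rw [h2]
        _ = y * (x⁻¹ * y) := by rw [mul_assoc]
        _ = y * (y * x) := by rw [h1]
        _ = y ^ 2 * x := by rw [pow_two, mul_assoc]
    have hc3 : Commute y (y ^ 2) := (Commute.refl y).pow_right 2
    exact hnot (mem_cenIn.2 ⟨hy, commTrans_SL2 _ _ _ hy2c hc3 hc2⟩)

set_option maxHeartbeats 1600000 in
/-- **The `p'`-case of Dickson's theorem.** -/
theorem pprime_analysis (H : Subgroup (SpecialLinearGroup (Fin 2) F))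
    (hZ : center (SpecialLinearGroup (Fin 2) F) ≤ H)
    (hss : ∀ x ∈ H, x ∉ center (SpecialLinearGroup (Fin 2) F) → tr x ^ 2 ≠ 4) :
    H = center (SpecialLinearGroup (Fin 2) F) ∨
    (∃ x ∈ H, tr x ^ 2 ≠ 4 ∧ Nat.card (norIn H (cenIn H x)) = Nat.card H) ∨
    (Nat.card H = zc F * 12 ∧ ∀ y ∈ H, y ∉ center (SpecialLinearGroup (Fin 2) F) →
      CD H 2 2 y ∨ CD H 3 1 y) ∨
    (Nat.card H = zc F * 24 ∧ ∀ y ∈ H, y ∉ center (SpecialLinearGroup (Fin 2) F) →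
      CD H 2 2 y ∨ CD H 3 2 y ∨ CD H 4 2 y) ∨
    (Nat.card H = zc F * 60 ∧ ∀ y ∈ H, y ∉ center (SpecialLinearGroup (Fin 2) F) →
      CD H 2 2 y ∨ CD H 3 2 y ∨ CD H 5 2 y) := by
  classical
  have hzpos := zc_pos F
  have hcz : Nat.card (center (SpecialLinearGroup (Fin 2) F)) = zc F := rfl
  set z := zc F with hzdef
  set T0 : Set (SpecialLinearGroup (Fin 2) F) :=
    (H : Set _) \ (center (SpecialLinearGroup (Fin 2) F) : Set _) with hT0def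
  have hT0card : T0.ncard + z = Nat.card H := by
    have hsub : (center (SpecialLinearGroup (Fin 2) F) : Set (SpecialLinearGroup (Fin 2) F)) ⊆
        (H : Set (SpecialLinearGroup (Fin 2) F)) := hZ
    have h1 := Set.ncard_sdiff_add_ncard_of_subset hsub (Set.toFinite _)
    have h2 : (H : Set (SpecialLinearGroup (Fin 2) F)).ncard = Nat.card H :=
      (Nat.card_coe_set_eq _).symm
    have h3 : ((center (SpecialLinearGroup (Fin 2) F) : Subgroup _) :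
        Set (SpecialLinearGroup (Fin 2) F)).ncard = z := ((Nat.card_coe_set_eq _).symm).trans hcz
    rw [h2, h3] at h1
    exact h1
  have hT0sat : Sat H T0 := by
    rintro x ⟨hxH, hxn⟩
    exact ⟨hxH, hss x hxH hxn, fun w hw =>
      ⟨Ucl_subset (cenIn_le H _) hw, not_center_of_mem_Ucl hw⟩⟩
  have empty_of : ∀ {T : Set (SpecialLinearGroup (Fin 2) F)}, T.ncard = 0 → T = ∅ :=
    fun {T} h => (Set.ncard_eq_zero (Set.toFinite T)).1 h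
  have nc_of : ∀ {x : SpecialLinearGroup (Fin 2) F}, tr x ^ 2 ≠ 4 →
      x ∉ center (SpecialLinearGroup (Fin 2) F) := fun hs h => hs (tr_sq_of_mem_center _ h)
  by_cases h0 : T0.ncard = 0
  · left
    apply le_antisymm _ hZ
    intro x hx
    by_contra hxc
    have : x ∈ T0 := ⟨hx, hxc⟩
    rw [empty_of h0] at this
    exact this
  right
  obtain ⟨x₁, hx₁T, d₁, ε₁, m₁, hd₁, hε₁, hm₁, hN₁, hU₁, hc₁, hn₁, hsat₁, hcard₁⟩ :=
    peel H hZ T0 hT0sat h0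
  rw [← hzdef] at hN₁ hU₁ hc₁ hn₁
  obtain ⟨hx₁H, hx₁s, -⟩ := hT0sat x₁ hx₁T
  set U₁ := Ucl H (cenIn H x₁) with hU₁def
  set T1 := T0 \ U₁ with hT1def
  set g := ε₁ * (d₁ + 1) * m₁ with hg
  have torus : ∀ {x : SpecialLinearGroup (Fin 2) F} {ε d m : ℕ}, x ∈ H → tr x ^ 2 ≠ 4 →
      Nat.card H = z * (ε * (d + 1) * m) → Nat.card (norIn H (cenIn H x)) = ε * (z * (d + 1)) →
      m = 1 → ∃ x ∈ H, tr x ^ 2 ≠ 4 ∧ Nat.card (norIn H (cenIn H x)) = Nat.card H := by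
    intro x ε d m hx hs hN hn hm
    refine ⟨x, hx, hs, ?_⟩
    rw [hn, hN, hm]; ring
  by_cases h1 : T1.ncard = 0
  · left
    have e : 1 + m₁ * d₁ = g := Nat.eq_of_mul_eq_mul_left hzpos (by linarith)
    exact torus hx₁H hx₁s hN₁ hn₁ (ar_one hg hε₁ hd₁ hm₁ e)
  obtain ⟨x₂, hx₂T, d₂, ε₂, m₂, hd₂, hε₂, hm₂, hN₂, hU₂, hc₂, hn₂, hsat₂, hcard₂⟩ :=
    peel H hZ T1 hsat₁ h1
  rw [← hzdef] at hN₂ hU₂ hc₂ hn₂
  obtain ⟨hx₂H, hx₂s, -⟩ := hsat₁ x₂ hx₂T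
  set U₂ := Ucl H (cenIn H x₂) with hU₂def
  set T2 := T1 \ U₂ with hT2def
  have hg₂ : g = ε₂ * (d₂ + 1) * m₂ := Nat.eq_of_mul_eq_mul_left hzpos (hN₁.symm.trans hN₂)
  have hCD₁ : CD H (d₁ + 1) ε₁ x₁ := ⟨hc₁, hn₁⟩
  have hCD₂ : CD H (d₂ + 1) ε₂ x₂ := ⟨hc₂, hn₂⟩
  by_cases h2 : T2.ncard = 0
  · have e : 1 + m₁ * d₁ + m₂ * d₂ = g := Nat.eq_of_mul_eq_mul_left hzpos (by linarith)
    have hcover : ∀ y ∈ H, y ∉ center (SpecialLinearGroup (Fin 2) F) → y ∈ U₁ ∨ y ∈ U₂ := by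
      intro y hy hyc
      by_contra hcon
      push Not at hcon
      have : y ∈ T2 := ⟨⟨⟨hy, hyc⟩, hcon.1⟩, hcon.2⟩
      rw [empty_of h2] at this
      exact this
    rcases ar_two hg hg₂ hε₁ hε₂ hd₁ hd₂ hm₁ hm₂ e with h | h | ⟨h12, h | h⟩
    · left; exact torus hx₁H hx₁s hN₁ hn₁ h
    · left; exact torus hx₂H hx₂s hN₂ hn₂ h
    · right; left
      obtain ⟨rfl, rfl, rfl, rfl⟩ := h
      refine ⟨by rw [hN₁, h12], fun y hy hyc => ?_⟩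
      rcases hcover y hy hyc with hu | hu
      · right; exact CD_of_mem_Ucl (nc_of hx₁s) hCD₁ hu
      · left; exact CD_of_mem_Ucl (nc_of hx₂s) hCD₂ hu
    · right; left
      obtain ⟨rfl, rfl, rfl, rfl⟩ := h
      refine ⟨by rw [hN₁, h12], fun y hy hyc => ?_⟩
      rcases hcover y hy hyc with hu | hu
      · left; exact CD_of_mem_Ucl (nc_of hx₁s) hCD₁ hu
      · right; exact CD_of_mem_Ucl (nc_of hx₂s) hCD₂ hu
  obtain ⟨x₃, hx₃T, d₃, ε₃, m₃, hd₃, hε₃, hm₃, hN₃, hU₃, hc₃, hn₃, hsat₃, hcard₃⟩ :=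
    peel H hZ T2 hsat₂ h2
  rw [← hzdef] at hN₃ hU₃ hc₃ hn₃
  obtain ⟨hx₃H, hx₃s, -⟩ := hsat₂ x₃ hx₃T
  set U₃ := Ucl H (cenIn H x₃) with hU₃def
  set T3 := T2 \ U₃ with hT3def
  have hg₃ : g = ε₃ * (d₃ + 1) * m₃ := Nat.eq_of_mul_eq_mul_left hzpos (hN₁.symm.trans hN₃)
  have hCD₃ : CD H (d₃ + 1) ε₃ x₃ := ⟨hc₃, hn₃⟩
  have hle3 : 1 + m₁ * d₁ + m₂ * d₂ + m₃ * d₃ ≤ g := Nat.le_of_mul_le_mul_left (by linarith) hzpos
  -- all `ε` are `2`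
  have he₁ : ε₁ = 2 := by
    rcases hε₁ with h | h
    · exfalso
      rw [h] at hg
      exact ar_three_eps hg hg₂ hg₃ hε₂ hε₃ hd₁ hd₂ hd₃ hle3
    · exact h
  have he₂ : ε₂ = 2 := by
    rcases hε₂ with h | h
    · exfalso
      rw [h] at hg₂
      exact ar_three_eps hg₂ hg hg₃ hε₁ hε₃ hd₂ hd₁ hd₃ (by omega)
    · exact h
  have he₃ : ε₃ = 2 := by
    rcases hε₃ with h | h
    · exfalso
      rw [h] at hg₃
      exact ar_three_eps hg₃ hg hg₂ hε₁ hε₂ hd₃ hd₁ hd₂ (by omega)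
    · exact h
  by_cases h3 : T3.ncard = 0
  · have e : 1 + m₁ * d₁ + m₂ * d₂ + m₃ * d₃ = g :=
      Nat.eq_of_mul_eq_mul_left hzpos (by linarith)
    have hcover : ∀ y ∈ H, y ∉ center (SpecialLinearGroup (Fin 2) F) →
        y ∈ U₁ ∨ y ∈ U₂ ∨ y ∈ U₃ := by
      intro y hy hyc
      by_contra hcon
      push Not at hcon
      have : y ∈ T3 := ⟨⟨⟨⟨hy, hyc⟩, hcon.1⟩, hcon.2.1⟩, hcon.2.2⟩
      rw [empty_of h3] at this
      exact this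
    have hg' := hg
    rw [he₁] at hg' hCD₁ hn₁
    rw [he₂] at hg₂ hCD₂ hn₂
    rw [he₃] at hg₃ hCD₃ hn₃
    rcases ar_three hg' hg₂ hg₃ hd₁ hd₂ hd₃ hm₁ hm₂ hm₃ e with (h | h | h) | ⟨h12, h⟩ |
      ⟨h24, a, b, c⟩ | ⟨h60, a, b, c⟩
    · left; exact torus hx₁H hx₁s hN₁ (by rw [he₁]; exact hn₁) h
    · left; exact torus hx₂H hx₂s hN₂ (by rw [he₂]; exact hn₂) h
    · left; exact torus hx₃H hx₃s hN₃ (by rw [he₃]; exact hn₃) h
    · exfalso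
      have hN12 : Nat.card H = z * 12 := by rw [hN₁, h12]
      rcases h with ⟨rfl, rfl⟩ | ⟨rfl, rfl⟩ | ⟨rfl, rfl⟩
      · exact excl_index_two H hZ hx₁H hx₁s hx₂H (nc_of hx₂s) hx₂T.2
          (by rw [hn₁, hN12]; ring) hc₂
      · exact excl_index_two H hZ hx₁H hx₁s hx₃H (nc_of hx₃s) hx₃T.1.2
          (by rw [hn₁, hN12]; ring) hc₃
      · exact excl_index_two H hZ hx₂H hx₂s hx₃H (nc_of hx₃s) hx₃T.2
          (by rw [hn₂, hN12]; ring) hc₃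
    · right; right; left
      refine ⟨by rw [hN₁, h24], fun y hy hyc => ?_⟩
      have conv : ∀ {d : ℕ} {x : SpecialLinearGroup (Fin 2) F}, (d = 1 ∨ d = 2 ∨ d = 3) →
          CD H (d + 1) 2 x → CD H 2 2 x ∨ CD H 3 2 x ∨ CD H 4 2 x := by
        intro d x hd hx
        rcases hd with rfl | rfl | rfl
        · left; exact hx
        · right; left; exact hx
        · right; right; exact hx
      rcases hcover y hy hyc with hu | hu | hu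
      · exact conv a (CD_of_mem_Ucl (nc_of hx₁s) hCD₁ hu)
      · exact conv b (CD_of_mem_Ucl (nc_of hx₂s) hCD₂ hu)
      · exact conv c (CD_of_mem_Ucl (nc_of hx₃s) hCD₃ hu)
    · right; right; right
      refine ⟨by rw [hN₁, h60], fun y hy hyc => ?_⟩
      have conv : ∀ {d : ℕ} {x : SpecialLinearGroup (Fin 2) F}, (d = 1 ∨ d = 2 ∨ d = 4) →
          CD H (d + 1) 2 x → CD H 2 2 x ∨ CD H 3 2 x ∨ CD H 5 2 x := by
        intro d x hd hx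
        rcases hd with rfl | rfl | rfl
        · left; exact hx
        · right; left; exact hx
        · right; right; exact hx
      rcases hcover y hy hyc with hu | hu | hu
      · exact conv a (CD_of_mem_Ucl (nc_of hx₁s) hCD₁ hu)
      · exact conv b (CD_of_mem_Ucl (nc_of hx₂s) hCD₂ hu)
      · exact conv c (CD_of_mem_Ucl (nc_of hx₃s) hCD₃ hu)
  · exfalso
    obtain ⟨x₄, hx₄T, d₄, ε₄, m₄, hd₄, hε₄, hm₄, hN₄, hU₄, hc₄, hn₄, hsat₄, hcard₄⟩ :=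
      peel H hZ T3 hsat₃ h3
    rw [← hzdef] at hN₄ hU₄
    have hg₄ : g = ε₄ * (d₄ + 1) * m₄ := Nat.eq_of_mul_eq_mul_left hzpos (hN₁.symm.trans hN₄)
    have hle4 : 1 + m₁ * d₁ + m₂ * d₂ + m₃ * d₃ + m₄ * d₄ ≤ g :=
      Nat.le_of_mul_le_mul_left (by linarith) hzpos
    exact ar_four (ar_w_ge hg hε₁ hd₁) (ar_w_ge hg₂ hε₂ hd₂) (ar_w_ge hg₃ hε₃ hd₃)
      (ar_w_ge hg₄ hε₄ hd₄) hle4

end Cfsg.Agent.Lib.Helper7
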