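import Mathlib
import Cfsg.Prelude.Def_Classical
import Cfsg.Agent.Lib.Helper7.Count

set_option autoImplicit false

namespace Cfsg.Agent.Lib.Helper7

variable {F : Type*} [Field F] [Fintype F]

theorem cnt_mul : Cnt (fun p : F × F => p.1 * p.2) (2 * (Fintype.card F : ℤ) - 1)
    ((Fintype.card F : ℤ) - 1) := by
  classical
  have h : ∀ c : F, c ≠ 0 → (Nat.card {p : F × F // p.1 * p.2 = c} : ℤ) = (Fintype.card F : ℤ) - 1 := by
    intro c hc
    have e : {p : F × F // p.1 * p.2 = c} ≃ Fˣ :=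
      { toFun := fun p => Units.mk0 p.1.1 (by
          intro h0; apply hc; rw [← p.2, h0, zero_mul])
        invFun := fun u => ⟨((u : F), c / u), by field_simp⟩
        left_inv := by
          rintro ⟨⟨x, y⟩, hxy⟩
          have hx : x ≠ 0 := by
            rintro rfl; apply hc; rw [← hxy]; simp
          simp only [Units.val_mk0, Subtype.mk.injEq, Prod.mk.injEq, true_and]
          rw [← hxy]; field_simp
        right_inv := fun u => by ext; rfl }
    rw [Nat.card_congr e, Nat.card_eq_fintype_card, Fintype.card_units, Nat.cast_sub Fintype.card_pos]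
    simp
  have := Cnt.of_nonzero h
  rw [Nat.card_prod, Nat.card_eq_fintype_card] at this
  convert this using 1
  push_cast
  ring

theorem cnt_hyp (m : ℕ) : Cnt (fun v : Fin m → F × F => ∑ i, (v i).1 * (v i).2)
    ((Fintype.card F : ℤ) ^ (2 * m - 1) + (Fintype.card F : ℤ) ^ m - (Fintype.card F : ℤ) ^ (m - 1))
    ((Fintype.card F : ℤ) ^ (2 * m - 1) - (Fintype.card F : ℤ) ^ (m - 1)) := by
  classical
  refine Cnt.sum_fin (h := fun p : F × F => p.1 * p.2) cnt_mul
    (fun m => (Fintype.card F : ℤ) ^ (2 * m - 1) + (Fintype.card F : ℤ) ^ m - (Fintype.card F : ℤ) ^ (m - 1))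
    (fun m => (Fintype.card F : ℤ) ^ (2 * m - 1) - (Fintype.card F : ℤ) ^ (m - 1)) (by simp) (by simp)
    ?_ ?_ m
  · intro m
    rcases m with _ | k
    · simp; ring
    · have e1 : 2 * (k + 1 + 1) - 1 = 2 * k + 3 := by omega
      have e2 : 2 * (k + 1) - 1 = 2 * k + 1 := by omega
      simp only [e1, e2, Nat.add_sub_cancel]
      ring
  · intro m
    rcases m with _ | k
    · simp
    · have e1 : 2 * (k + 1 + 1) - 1 = 2 * k + 3 := by omega
      have e2 : 2 * (k + 1) - 1 = 2 * k + 1 := by omega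
      simp only [e1, e2, Nat.add_sub_cancel]
      ring

/-- Pairs of coordinates. -/
def sumPairEquiv (m : ℕ) (F : Type*) : (Fin m ⊕ Fin m → F) ≃ (Fin m → F × F) where
  toFun v i := (v (.inl i), v (.inr i))
  invFun w := Sum.elim (fun i => (w i).1) (fun i => (w i).2)
  left_inv v := by funext x; rcases x with i | i <;> rfl
  right_inv w := rfl

theorem cnt_quadFormPlus (m : ℕ) : Cnt (Cfsg.quadFormPlus m F)
    ((Fintype.card F : ℤ) ^ (2 * m - 1) + (Fintype.card F : ℤ) ^ m - (Fintype.card F : ℤ) ^ (m - 1))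
    ((Fintype.card F : ℤ) ^ (2 * m - 1) - (Fintype.card F : ℤ) ^ (m - 1)) :=
  Cnt.congr (sumPairEquiv m F) (fun _ => rfl) (cnt_hyp m)

theorem Cnt.card_add_left {X W A : Type*} [Finite X] [Finite W] [AddCommGroup A] [Fintype A]
    [DecidableEq A] (φ : X → A) {g : W → A} {a b : ℤ} (hg : Cnt g a b) (c : A) :
    (Nat.card {x : X × W // φ x.1 + g x.2 = c} : ℤ)
      = (Nat.card {x // φ x = c} : ℤ) * a + ((Nat.card X : ℤ) - (Nat.card {x // φ x = c} : ℤ)) * b := by
  rw [card_add_eq, card_total φ, ← Finset.add_sum_erase _ _ (Finset.mem_univ c),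
    ← Finset.add_sum_erase (a := c) _ (fun d => Nat.card {x // φ x = d}) (Finset.mem_univ c)]
  push_cast
  rw [sub_self, hg.1, Finset.sum_congr rfl (fun d hd => by
    rw [hg.2 (c - d) (sub_ne_zero.2 (Finset.ne_of_mem_erase hd).symm)]), ← Finset.sum_mul]
  ring

end Cfsg.Agent.Lib.Helper7
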