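import Mathlib
import Cfsg.Prelude.Def_Classical
import Cfsg.Agent.Lib.Helper7.CountQuad

set_option autoImplicit false

namespace Cfsg.Agent.Lib.Helper7

variable {F : Type*} [Field F] [Fintype F]

open MvPolynomial in
theorem exists_aniso_eq {a b : F}
    (hab : ∀ z₁ z₂ : F, z₁ ^ 2 + a * z₁ * z₂ + b * z₂ ^ 2 = 0 → z₁ = 0 ∧ z₂ = 0) (c : F) :
    ∃ z₁ z₂ : F, z₁ ^ 2 + a * z₁ * z₂ + b * z₂ ^ 2 = c := by
  classical
  obtain ⟨p, hp⟩ := CharP.exists F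
  have hpp : p.Prime := CharP.char_is_prime F p
  haveI : Fact p.Prime := ⟨hpp⟩
  let f : MvPolynomial (Fin 3) F := X 0 ^ 2 + C a * X 0 * X 1 + C b * X 1 ^ 2 - C c * X 2 ^ 2
  have hX : ∀ i : Fin 3, (X i ^ 2 : MvPolynomial (Fin 3) F).totalDegree ≤ 2 := fun i =>
    (totalDegree_pow _ _).trans (by rw [totalDegree_X])
  have hdeg : f.totalDegree < Fintype.card (Fin 3) := by
    have : f.totalDegree ≤ 2 := by
      refine (totalDegree_sub _ _).trans (max_le ((totalDegree_add _ _).trans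
        (max_le ((totalDegree_add _ _).trans (max_le (hX 0) ?_)) ?_)) ?_)
      · refine (totalDegree_mul _ _).trans ?_
        have h1 : (C a * X 0 : MvPolynomial (Fin 3) F).totalDegree ≤ 1 := by
          refine (totalDegree_mul _ _).trans ?_
          rw [totalDegree_C, totalDegree_X]
        rw [totalDegree_X]
        omega
      · refine (totalDegree_mul _ _).trans ?_
        rw [totalDegree_C]
        simpa using hX 1
      · refine (totalDegree_mul _ _).trans ?_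
        rw [totalDegree_C]
        simpa using hX 2
    simpa using Nat.lt_succ_of_le this
  have hdvd := char_dvd_card_solutions p hdeg
  have h0 : eval (0 : Fin 3 → F) f = 0 := by simp [f]
  have hpos : 0 < Fintype.card {x : Fin 3 → F // eval x f = 0} := Fintype.card_pos_iff.2 ⟨⟨0, h0⟩⟩
  have h1 : 1 < Fintype.card {x : Fin 3 → F // eval x f = 0} :=
    lt_of_lt_of_le hpp.one_lt (Nat.le_of_dvd hpos hdvd)
  obtain ⟨⟨x, hx⟩, hne⟩ := Fintype.exists_ne_of_one_lt_card h1 ⟨0, h0⟩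
  have hx' : x 0 ^ 2 + a * x 0 * x 1 + b * x 1 ^ 2 - c * x 2 ^ 2 = 0 := by simpa [f] using hx
  have hx2 : x 2 ≠ 0 := by
    intro h2
    rw [h2] at hx'
    obtain ⟨h3, h4⟩ := hab (x 0) (x 1) (by linear_combination hx')
    apply hne
    apply Subtype.ext
    funext i
    fin_cases i
    · exact h3
    · exact h4
    · exact h2
  refine ⟨x 0 / x 2, x 1 / x 2, ?_⟩
  field_simp
  linear_combination hx'

theorem card_aniso_le {a b : F}
    (hab : ∀ z₁ z₂ : F, z₁ ^ 2 + a * z₁ * z₂ + b * z₂ ^ 2 = 0 → z₁ = 0 ∧ z₂ = 0) {c d : F}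
    (hc : c ≠ 0) (hd : d ≠ 0) :
    Nat.card {z : F × F // z.1 ^ 2 + a * z.1 * z.2 + b * z.2 ^ 2 = c}
      ≤ Nat.card {z : F × F // z.1 ^ 2 + a * z.1 * z.2 + b * z.2 ^ 2 = d} := by
  obtain ⟨w₁, w₂, hw⟩ := exists_aniso_eq hab (d / c)
  have hmul : ∀ z₁ z₂ : F, (z₁ * w₁ - b * z₂ * w₂) ^ 2
      + a * (z₁ * w₁ - b * z₂ * w₂) * (z₁ * w₂ + z₂ * w₁ + a * z₂ * w₂)
      + b * (z₁ * w₂ + z₂ * w₁ + a * z₂ * w₂) ^ 2
      = (z₁ ^ 2 + a * z₁ * z₂ + b * z₂ ^ 2) * (d / c) := by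
    intro z₁ z₂
    rw [← hw]; ring
  refine Nat.card_le_card_of_injective
    (fun z => ⟨(z.1.1 * w₁ - b * z.1.2 * w₂, z.1.1 * w₂ + z.1.2 * w₁ + a * z.1.2 * w₂), ?_⟩) ?_
  · show (z.1.1 * w₁ - b * z.1.2 * w₂) ^ 2
      + a * (z.1.1 * w₁ - b * z.1.2 * w₂) * (z.1.1 * w₂ + z.1.2 * w₁ + a * z.1.2 * w₂)
      + b * (z.1.1 * w₂ + z.1.2 * w₁ + a * z.1.2 * w₂) ^ 2 = d
    rw [hmul, z.2]
    field_simp
  · rintro ⟨⟨x₁, x₂⟩, hx⟩ ⟨⟨y₁, y₂⟩, hy⟩ hxy
    simp only [Subtype.mk.injEq, Prod.mk.injEq] at hxy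
    obtain ⟨h1, h2⟩ := hxy
    have h3 := hmul (x₁ - y₁) (x₂ - y₂)
    have e1 : (x₁ - y₁) * w₁ - b * (x₂ - y₂) * w₂ = 0 := by linear_combination h1
    have e2 : (x₁ - y₁) * w₂ + (x₂ - y₂) * w₁ + a * (x₂ - y₂) * w₂ = 0 := by linear_combination h2
    rw [e1, e2] at h3
    have h4 : (x₁ - y₁) ^ 2 + a * (x₁ - y₁) * (x₂ - y₂) + b * (x₂ - y₂) ^ 2 = 0 := by
      have : d / c ≠ 0 := div_ne_zero hd hc
      have h5 : ((x₁ - y₁) ^ 2 + a * (x₁ - y₁) * (x₂ - y₂) + b * (x₂ - y₂) ^ 2) * (d / c) = 0 := by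
        rw [← h3]; ring
      exact (mul_eq_zero.1 h5).resolve_right this
    obtain ⟨h6, h7⟩ := hab _ _ h4
    simp only [Subtype.mk.injEq, Prod.mk.injEq]
    exact ⟨sub_eq_zero.1 h6, sub_eq_zero.1 h7⟩

theorem cnt_aniso {a b : F}
    (hab : ∀ z₁ z₂ : F, z₁ ^ 2 + a * z₁ * z₂ + b * z₂ ^ 2 = 0 → z₁ = 0 ∧ z₂ = 0) :
    Cnt (fun z : F × F => z.1 ^ 2 + a * z.1 * z.2 + b * z.2 ^ 2) 1 ((Fintype.card F : ℤ) + 1) := by
  classical
  have h0 : Nat.card {z : F × F // z.1 ^ 2 + a * z.1 * z.2 + b * z.2 ^ 2 = 0} = 1 := by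
    have : Unique {z : F × F // z.1 ^ 2 + a * z.1 * z.2 + b * z.2 ^ 2 = 0} :=
      { default := ⟨(0, 0), by simp⟩
        uniq := fun z => Subtype.ext (Prod.ext (hab _ _ z.2).1 (hab _ _ z.2).2) }
    exact Nat.card_unique
  have h1 : Cnt (fun z : F × F => z.1 ^ 2 + a * z.1 * z.2 + b * z.2 ^ 2) 1
      (Nat.card {z : F × F // z.1 ^ 2 + a * z.1 * z.2 + b * z.2 ^ 2 = 1} : ℤ) := by
    refine ⟨by rw [h0]; rfl, fun c hc => ?_⟩
    exact_mod_cast le_antisymm (card_aniso_le hab hc one_ne_zero) (card_aniso_le hab one_ne_zero hc)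
  have h2 := h1.total
  rw [Nat.card_prod, Nat.card_eq_fintype_card] at h2
  have hq : (Fintype.card F : ℤ) - 1 ≠ 0 := by
    have : 1 < Fintype.card F := Fintype.one_lt_card
    have : (1 : ℤ) < (Fintype.card F : ℤ) := by exact_mod_cast this
    omega
  have h3 : (Nat.card {z : F × F // z.1 ^ 2 + a * z.1 * z.2 + b * z.2 ^ 2 = 1} : ℤ)
      = (Fintype.card F : ℤ) + 1 := by
    apply mul_left_cancel₀ hq
    push_cast at h2
    linear_combination -h2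
  rw [← h3]
  exact h1

/-- Splitting off the last two coordinates. -/
def minusEquiv (k : ℕ) (F : Type*) : ((Fin k ⊕ Fin k) ⊕ Fin 2 → F) ≃ (Fin k ⊕ Fin k → F) × (F × F) where
  toFun v := (fun i => v (.inl i), (v (.inr 0), v (.inr 1)))
  invFun w := Sum.elim w.1 ![w.2.1, w.2.2]
  left_inv v := by
    funext x
    rcases x with i | i
    · rfl
    · fin_cases i <;> rfl
  right_inv w := rfl

theorem cnt_quadFormMinus (k : ℕ) {a b : F}
    (hab : ∀ z₁ z₂ : F, z₁ ^ 2 + a * z₁ * z₂ + b * z₂ ^ 2 = 0 → z₁ = 0 ∧ z₂ = 0) :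
    Cnt (Cfsg.quadFormMinus k F a b)
      ((Fintype.card F : ℤ) ^ (2 * k + 1) + (Fintype.card F : ℤ) ^ k - (Fintype.card F : ℤ) ^ (k + 1))
      ((Fintype.card F : ℤ) ^ (2 * k + 1) + (Fintype.card F : ℤ) ^ k) := by
  classical
  have h := Cnt.congr (f := Cfsg.quadFormMinus k F a b) (minusEquiv k F) (fun _ => rfl)
    ((cnt_quadFormPlus (F := F) k).add (cnt_aniso hab))
  convert h using 1
  · rcases k with _ | k
    · simp
    · have e2 : 2 * (k + 1) - 1 = 2 * k + 1 := by omega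
      simp only [e2, Nat.add_sub_cancel]
      ring
  · rcases k with _ | k
    · simp
    · have e2 : 2 * (k + 1) - 1 = 2 * k + 1 := by omega
      simp only [e2, Nat.add_sub_cancel]
      ring

end Cfsg.Agent.Lib.Helper7
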