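import Mathlib
import Cfsg.Agent.Lib.Helper7.SL2
import Cfsg.Agent.Lib.Helper7.CountAniso

set_option autoImplicit false
set_option linter.unusedSimpArgs false
set_option linter.unusedSectionVars false

namespace Cfsg.Agent.Lib.Helper7

open Matrix

/-- If a subgroup `C` contains the full `r`-part of the order, a Sylow `r`-subgroup embeds in `C`. -/
theorem sylow_le_conj_of_dvd {G : Type*} [Group G] [Finite G] {r : ℕ} [Fact r.Prime]
    (C : Subgroup G) (hdvd : r ^ (Nat.card G).factorization r ∣ Nat.card C) (R : Sylow r G) :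
    ∃ Q : Sylow r G, (Q : Subgroup G) ≤ C ∧ Nonempty (R ≃* Q) := by
  obtain ⟨K, hK⟩ := Sylow.exists_subgroup_card_pow_prime r hdvd
  have hK' : Nat.card (K.map C.subtype) = r ^ (Nat.card G).factorization r := by
    rw [Subgroup.card_map_of_injective C.subtype_injective, hK]
  obtain ⟨Q, hQ⟩ := (IsPGroup.of_card hK').exists_le_sylow
  have hQe : K.map C.subtype = Q := Subgroup.eq_of_le_of_card_ge hQ (by
    rw [hK']; exact (Sylow.card_eq_multiplicity Q).le)
  refine ⟨Q, ?_, ⟨Sylow.equiv R Q⟩⟩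
  rw [← hQe]
  exact Subgroup.map_subtype_le K

theorem sylow_isCyclic_of_dvd {G : Type*} [Group G] [Finite G] {r : ℕ} [Fact r.Prime]
    (C : Subgroup G) [IsCyclic C] (hdvd : r ^ (Nat.card G).factorization r ∣ Nat.card C)
    (R : Sylow r G) : IsCyclic R := by
  obtain ⟨Q, hQ, ⟨e⟩⟩ := sylow_le_conj_of_dvd C hdvd R
  have : IsCyclic Q := isCyclic_of_injective (Subgroup.inclusion hQ) (Subgroup.inclusion_injective hQ)
  exact e.symm.isCyclic.1 this

variable {F : Type*} [Field F]

/-- Constructor for `SL`. -/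
def mkSL {n : Type*} [Fintype n] [DecidableEq n] (M : Matrix n n F) (h : M.det = 1) :
    SpecialLinearGroup n F := ⟨M, h⟩

theorem mkSL_val {n : Type*} [Fintype n] [DecidableEq n] (M : Matrix n n F) (h : M.det = 1) :
    ((mkSL M h : SpecialLinearGroup n F) : Matrix n n F) = M := rfl

/-- The split torus as a homomorphism. -/
def splitHom (F : Type*) [Field F] : Fˣ →* SpecialLinearGroup (Fin 2) F where
  toFun a := mkSL !![(a : F), 0; 0, ((a⁻¹ : Fˣ) : F)] (by simp [det_fin_two])
  map_one' := by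
    apply sl_ext
    rw [mkSL_val, Matrix.SpecialLinearGroup.coe_one, Matrix.one_fin_two]
    apply mat2_ext <;> simp
  map_mul' a b := by
    apply sl_ext
    rw [Matrix.SpecialLinearGroup.coe_mul, mkSL_val, mkSL_val, mkSL_val, Matrix.mul_fin_two]
    apply mat2_ext <;> simp [mul_comm]

theorem splitHom_val (a : Fˣ) :
    ((splitHom F a : SpecialLinearGroup (Fin 2) F) : Matrix (Fin 2) (Fin 2) F)
      = !![(a : F), 0; 0, ((a⁻¹ : Fˣ) : F)] := rfl

theorem splitHom_injective : Function.Injective (splitHom F) := by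
  intro a b h
  have := sl_entry_eq h 0 0
  simp [splitHom_val] at this
  exact Units.ext this

theorem card_range_splitHom [Fintype F] : Nat.card (splitHom F).range = Fintype.card F - 1 := by
  classical
  rw [← Nat.card_congr (MonoidHom.ofInjective splitHom_injective).toEquiv, Nat.card_eq_fintype_card,
    Fintype.card_units]

theorem isCyclic_range_splitHom [Finite F] : IsCyclic (splitHom F).range :=
  isCyclic_of_surjective (splitHom F).rangeRestrict (splitHom F).rangeRestrict_surjective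

/-- Existence of an anisotropic binary form. -/
theorem exists_aniso [Finite F] : ∃ a b : F, ∀ z₁ z₂ : F, z₁ ^ 2 + a * z₁ * z₂ + b * z₂ ^ 2 = 0 → z₁ = 0 ∧ z₂ = 0 := by
  have hni : ¬ Function.Injective (fun p : F × F => (p.1 + p.2, p.1 * p.2)) := by
    intro h
    have := @h (0, 1) (1, 0) (by simp)
    simp at this
  rw [Finite.injective_iff_surjective] at hni
  simp only [Function.Surjective, not_forall, not_exists] at hni
  obtain ⟨⟨a, b⟩, hab⟩ := hni
  refine ⟨a, b, fun z₁ z₂ h => ?_⟩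
  by_cases hz : z₂ = 0
  · subst hz
    simp at h
    exact ⟨h, rfl⟩
  · exfalso
    apply hab (-z₁ / z₂, a + z₁ / z₂)
    simp only [Prod.mk.injEq]
    constructor
    · field_simp; ring
    · field_simp
      linear_combination -h

/-- The nonsplit torus attached to the form `z₁² + a z₁ z₂ + b z₂²`. -/
def nonsplit (a b : F) : Subgroup (SpecialLinearGroup (Fin 2) F) where
  carrier := {g | g.1 0 1 = -b * g.1 1 0 ∧ g.1 1 1 = g.1 0 0 + a * g.1 1 0}
  mul_mem' {g h} hg hh := by
    simp only [Set.mem_setOf_eq, Matrix.SpecialLinearGroup.coe_mul, Matrix.mul_apply,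
      Fin.sum_univ_two] at hg hh ⊢
    rw [hg.1, hg.2, hh.1, hh.2]
    constructor <;> ring
  one_mem' := by simp
  inv_mem' {g} hg := by
    have hi := Matrix.SpecialLinearGroup.SL2_inv_expl g
    have hg1 : g.1 0 1 = -b * g.1 1 0 := hg.1
    have hg2 : g.1 1 1 = g.1 0 0 + a * g.1 1 0 := hg.2
    show (g⁻¹).1 0 1 = -b * (g⁻¹).1 1 0 ∧ (g⁻¹).1 1 1 = (g⁻¹).1 0 0 + a * (g⁻¹).1 1 0
    rw [hi]
    simp only [of_apply, cons_val', cons_val_zero, cons_val_one, cons_val_fin_one]
    rw [hg1, hg2]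
    constructor <;> ring

theorem mem_nonsplit {a b : F} {g : SpecialLinearGroup (Fin 2) F} :
    g ∈ nonsplit a b ↔ g.1 0 1 = -b * g.1 1 0 ∧ g.1 1 1 = g.1 0 0 + a * g.1 1 0 := Iff.rfl

/-- The nonsplit torus is in bijection with the norm one vectors. -/
def nonsplitEquiv (a b : F) :
    nonsplit a b ≃ {z : F × F // z.1 ^ 2 + a * z.1 * z.2 + b * z.2 ^ 2 = 1} where
  toFun g := ⟨(g.1.1 0 0, g.1.1 1 0), by
    have hdet : g.1.1.det = 1 := g.1.2
    rw [det_fin_two, (mem_nonsplit.1 g.2).1, (mem_nonsplit.1 g.2).2] at hdet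
    show g.1.1 0 0 ^ 2 + a * g.1.1 0 0 * g.1.1 1 0 + b * g.1.1 1 0 ^ 2 = 1
    linear_combination hdet⟩
  invFun z := ⟨mkSL !![z.1.1, -b * z.1.2; z.1.2, z.1.1 + a * z.1.2] (by
    rw [det_fin_two_of]
    linear_combination z.2), by
    rw [mem_nonsplit]
    exact ⟨rfl, rfl⟩⟩
  left_inv g := by
    apply Subtype.ext
    apply sl_ext
    show !![g.1.1 0 0, -b * g.1.1 1 0; g.1.1 1 0, g.1.1 0 0 + a * g.1.1 1 0] = g.1.1
    rw [← (mem_nonsplit.1 g.2).1, ← (mem_nonsplit.1 g.2).2]
    exact (Matrix.eta_fin_two g.1.1).symm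
  right_inv z := rfl

theorem card_nonsplit [Fintype F] {a b : F}
    (hab : ∀ z₁ z₂ : F, z₁ ^ 2 + a * z₁ * z₂ + b * z₂ ^ 2 = 0 → z₁ = 0 ∧ z₂ = 0) :
    Nat.card (nonsplit a b) = Fintype.card F + 1 := by
  rw [Nat.card_congr (nonsplitEquiv a b)]
  have := (cnt_aniso hab).2 1 one_ne_zero
  exact_mod_cast this

theorem isCyclic_nonsplit [Finite F] {a b : F}
    (hab : ∀ z₁ z₂ : F, z₁ ^ 2 + a * z₁ * z₂ + b * z₂ ^ 2 = 0 → z₁ = 0 ∧ z₂ = 0) :
    IsCyclic (nonsplit a b) := by
  let K := AlgebraicClosure F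
  obtain ⟨θ, hθ⟩ := IsAlgClosed.exists_root
    (Polynomial.C (1 : K) * Polynomial.X ^ 2 + Polynomial.C (-(algebraMap F K a)) * Polynomial.X
      + Polynomial.C (algebraMap F K b)) (by
      rw [Polynomial.degree_quadratic one_ne_zero]; decide)
  have hθ' : θ ^ 2 = algebraMap F K a * θ - algebraMap F K b := by
    simp only [Polynomial.IsRoot, Polynomial.eval_add, Polynomial.eval_mul, Polynomial.eval_C,
      Polynomial.eval_pow, Polynomial.eval_X] at hθ
    linear_combination hθ
  let φ : nonsplit a b →* K :=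
    { toFun := fun g => algebraMap F K (g.1.1 0 0) + algebraMap F K (g.1.1 1 0) * θ
      map_one' := by simp
      map_mul' := fun g h => by
        simp only [Subgroup.coe_mul, Matrix.SpecialLinearGroup.coe_mul, Matrix.mul_apply,
          Fin.sum_univ_two]
        rw [(mem_nonsplit.1 g.2).1, (mem_nonsplit.1 g.2).2]
        simp only [map_add, map_mul, map_neg]
        linear_combination (-(algebraMap F K (g.1.1 1 0)) * algebraMap F K (h.1.1 1 0)) * hθ' }
  refine isCyclic_of_injective_ringHom φ ?_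
  intro g h hgh
  have hgh' : algebraMap F K (g.1.1 0 0) + algebraMap F K (g.1.1 1 0) * θ
      = algebraMap F K (h.1.1 0 0) + algebraMap F K (h.1.1 1 0) * θ := hgh
  have h10 : g.1.1 1 0 = h.1.1 1 0 := by
    by_contra hne
    have hne' : g.1.1 1 0 - h.1.1 1 0 ≠ 0 := sub_ne_zero.2 hne
    have hK : algebraMap F K (g.1.1 1 0 - h.1.1 1 0) ≠ 0 := by
      rwa [Ne, map_eq_zero]
    have hθ2 : θ = algebraMap F K (-(g.1.1 0 0 - h.1.1 0 0) / (g.1.1 1 0 - h.1.1 1 0)) := by
      rw [map_div₀, eq_div_iff hK]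
      simp only [map_sub, map_neg]
      linear_combination hgh'
    set t := -(g.1.1 0 0 - h.1.1 0 0) / (g.1.1 1 0 - h.1.1 1 0) with ht
    have h3 : algebraMap F K (t ^ 2 + a * t * (-1) + b * (-1) ^ 2) = 0 := by
      simp only [map_add, map_mul, map_pow, map_neg, map_one]
      rw [← hθ2]
      linear_combination hθ'
    rw [map_eq_zero] at h3
    have := (hab _ _ h3).2
    simp at this
  have h00 : g.1.1 0 0 = h.1.1 0 0 := by
    rw [h10] at hgh'
    exact (algebraMap F K).injective (add_right_cancel hgh')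
  apply Subtype.ext
  ext i j
  fin_cases i <;> fin_cases j
  · exact h00
  · show g.1.1 0 1 = h.1.1 0 1
    rw [(mem_nonsplit.1 g.2).1, (mem_nonsplit.1 h.2).1, h10]
  · exact h10
  · show g.1.1 1 1 = h.1.1 1 1
    rw [(mem_nonsplit.1 g.2).2, (mem_nonsplit.1 h.2).2, h10, h00]

end Cfsg.Agent.Lib.Helper7
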