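import Mathlib

set_option autoImplicit false

namespace Cfsg.Agent.Lib.Helper7

open Matrix

variable {l : Type*} [Fintype l] [DecidableEq l] {F : Type*} [Field F]

/-- The symplectic form attached to `J`. -/
noncomputable def om (l : Type*) [Fintype l] [DecidableEq l] (F : Type*) [Field F] :
    LinearMap.BilinForm F (l ⊕ l → F) := Matrix.toBilin' (J l F)

theorem om_apply (x y : l ⊕ l → F) :
    om l F x y = ∑ i, (x (.inr i) * y (.inl i) - x (.inl i) * y (.inr i)) := by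
  rw [om, Matrix.toBilin'_apply', dotProduct, Fintype.sum_sum_type, Finset.sum_sub_distrib]
  have h1 : ∀ i : l, (J l F *ᵥ y) (.inl i) = - y (.inr i) := by
    intro i
    simp [J, Matrix.mulVec, dotProduct, Fintype.sum_sum_type, Matrix.one_apply]
  have h2 : ∀ i : l, (J l F *ᵥ y) (.inr i) = y (.inl i) := by
    intro i
    simp [J, Matrix.mulVec, dotProduct, Fintype.sum_sum_type, Matrix.one_apply]
  simp only [h1, h2, mul_neg, Finset.sum_neg_distrib]
  ring

theorem om_self (x : l ⊕ l → F) : om l F x x = 0 := by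
  rw [om_apply]
  exact Finset.sum_eq_zero fun i _ => by ring

theorem om_swap (x y : l ⊕ l → F) : om l F y x = - om l F x y := by
  rw [om_apply, om_apply, ← Finset.sum_neg_distrib]
  exact Finset.sum_congr rfl fun i _ => by ring

theorem mem_sp_iff {A : Matrix (l ⊕ l) (l ⊕ l) F} :
    A ∈ symplecticGroup l F ↔ ∀ x y, om l F (A *ᵥ x) (A *ᵥ y) = om l F x y := by
  rw [SymplecticGroup.mem_iff']
  constructor
  · intro h x y
    have := Matrix.toBilin'_comp (J l F) A A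
    rw [h] at this
    have h2 := congrArg (fun B : LinearMap.BilinForm F (l ⊕ l → F) => B x y) this
    simpa [om] using h2
  · intro h
    apply Matrix.toBilin'.injective
    rw [← Matrix.toBilin'_comp]
    refine LinearMap.ext₂ fun x y => ?_
    show Matrix.toBilin' (J l F) (Matrix.toLin' A x) (Matrix.toLin' A y) = _
    rw [Matrix.toLin'_apply, Matrix.toLin'_apply]
    exact h x y

/-- Build a symplectic matrix from a linear isometry. -/
noncomputable def spOfLin (f : (l ⊕ l → F) →ₗ[F] (l ⊕ l → F))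
    (hf : ∀ x y, om l F (f x) (f y) = om l F x y) : symplecticGroup l F :=
  ⟨LinearMap.toMatrix' f, mem_sp_iff.2 fun x y => by
    simpa [LinearMap.toMatrix'_mulVec] using hf x y⟩

theorem spOfLin_mulVec (f : (l ⊕ l → F) →ₗ[F] (l ⊕ l → F))
    (hf : ∀ x y, om l F (f x) (f y) = om l F x y) (x : l ⊕ l → F) :
    (spOfLin f hf).1 *ᵥ x = f x := by
  simp [spOfLin, LinearMap.toMatrix'_mulVec]

theorem sp_ext {g h : symplecticGroup l F} (H : ∀ x, g.1 *ᵥ x = h.1 *ᵥ x) : g = h :=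
  Subtype.ext (Matrix.ext_iff_mulVec.2 H)

theorem sp_om (g : symplecticGroup l F) (x y : l ⊕ l → F) :
    om l F (g.1 *ᵥ x) (g.1 *ᵥ y) = om l F x y := mem_sp_iff.1 g.2 x y

theorem sp_mul_mulVec (g h : symplecticGroup l F) (x : l ⊕ l → F) :
    (g * h).1 *ᵥ x = g.1 *ᵥ (h.1 *ᵥ x) := by
  rw [Matrix.mulVec_mulVec]; rfl

theorem sp_one_mulVec (x : l ⊕ l → F) : (1 : symplecticGroup l F).1 *ᵥ x = x := by
  show (1 : Matrix _ _ F) *ᵥ x = x
  simp

theorem sp_inv_mulVec (g : symplecticGroup l F) (x : l ⊕ l → F) :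
    g⁻¹.1 *ᵥ (g.1 *ᵥ x) = x := by
  rw [← sp_mul_mulVec, inv_mul_cancel, sp_one_mulVec]

theorem sp_mulVec_inv (g : symplecticGroup l F) (x : l ⊕ l → F) :
    g.1 *ᵥ (g⁻¹.1 *ᵥ x) = x := by
  rw [← sp_mul_mulVec, mul_inv_cancel, sp_one_mulVec]

/-- The linear map underlying a symplectic transvection. -/
noncomputable def tvLin (u : l ⊕ l → F) (c : F) : (l ⊕ l → F) →ₗ[F] (l ⊕ l → F) :=
  LinearMap.id + c • ((om l F).flip u).smulRight u

theorem tvLin_apply (u : l ⊕ l → F) (c : F) (x : l ⊕ l → F) :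
    tvLin u c x = x + (c * om l F x u) • u := by
  simp [tvLin, smul_smul]

theorem tvLin_om (u : l ⊕ l → F) (c : F) (x y : l ⊕ l → F) :
    om l F (tvLin u c x) (tvLin u c y) = om l F x y := by
  simp only [tvLin_apply, map_add, map_smul, LinearMap.add_apply, LinearMap.smul_apply, smul_eq_mul,
    om_self, om_swap y u]
  ring

/-- The symplectic transvection `x ↦ x + c ω(x,u) u`. -/
noncomputable def tv (u : l ⊕ l → F) (c : F) : symplecticGroup l F := spOfLin (tvLin u c) (tvLin_om u c)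

theorem tv_mulVec (u : l ⊕ l → F) (c : F) (x : l ⊕ l → F) :
    (tv u c).1 *ᵥ x = x + (c * om l F x u) • u := by
  rw [tv, spOfLin_mulVec, tvLin_apply]

theorem tv_mul (u : l ⊕ l → F) (c d : F) : tv u c * tv u d = tv u (c + d) := by
  apply sp_ext
  intro x
  simp only [sp_mul_mulVec, tv_mulVec, map_add, map_smul, LinearMap.add_apply, LinearMap.smul_apply,
    smul_eq_mul, om_self, mul_zero, add_zero]
  rw [add_assoc, ← add_smul]
  congr 2
  ring

theorem tv_zero (u : l ⊕ l → F) : tv u 0 = 1 := by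
  apply sp_ext
  intro x
  simp [tv_mulVec]

theorem tv_inv (u : l ⊕ l → F) (c : F) : (tv u c)⁻¹ = tv u (-c) := by
  rw [inv_eq_iff_mul_eq_one, tv_mul, add_neg_cancel, tv_zero]

theorem tv_conj (g : symplecticGroup l F) (u : l ⊕ l → F) (c : F) :
    g * tv u c * g⁻¹ = tv (g.1 *ᵥ u) c := by
  apply sp_ext
  intro x
  simp only [sp_mul_mulVec, tv_mulVec, Matrix.mulVec_add, Matrix.mulVec_smul, sp_mulVec_inv]
  congr 3
  rw [← sp_om g, sp_mulVec_inv]

theorem tv_smul (u : l ⊕ l → F) (a c : F) : tv (a • u) c = tv u (a ^ 2 * c) := by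
  apply sp_ext
  intro x
  simp only [tv_mulVec, map_smul, smul_eq_mul, smul_smul]
  congr 2
  ring

/-- Nondegeneracy of the symplectic form. -/
theorem exists_om_ne_zero {v : l ⊕ l → F} (hv : v ≠ 0) : ∃ z, om l F v z ≠ 0 := by
  obtain ⟨i, hi⟩ := Function.ne_iff.1 hv
  rcases i with i | i
  · refine ⟨Pi.single (.inr i) 1, ?_⟩
    rw [om_apply, Finset.sum_eq_single i]
    · simpa using hi
    · intro j _ hj
      simp [hj]
    · simp
  · refine ⟨Pi.single (.inl i) 1, ?_⟩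
    rw [om_apply, Finset.sum_eq_single i]
    · simpa using hi
    · intro j _ hj
      simp [hj]
    · simp

/-- The subgroup generated by the transvections along vectors of `W`. -/
noncomputable def TW (W : Submodule F (l ⊕ l → F)) : Subgroup (symplecticGroup l F) :=
  Subgroup.closure {t | ∃ u ∈ W, ∃ c : F, t = tv u c}

theorem tv_mem_TW {W : Submodule F (l ⊕ l → F)} {u : l ⊕ l → F} (hu : u ∈ W) (c : F) :
    tv u c ∈ TW W := Subgroup.subset_closure ⟨u, hu, c, rfl⟩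

theorem TW_preserves {W : Submodule F (l ⊕ l → F)} {t : symplecticGroup l F} (ht : t ∈ TW W)
    {x : l ⊕ l → F} (hx : x ∈ W) : t.1 *ᵥ x ∈ W := by
  induction ht using Subgroup.closure_induction'' generalizing x with
  | mem t ht =>
    obtain ⟨u, hu, c, rfl⟩ := ht
    rw [tv_mulVec]
    exact W.add_mem hx (W.smul_mem _ hu)
  | inv_mem t ht =>
    obtain ⟨u, hu, c, rfl⟩ := ht
    rw [tv_inv, tv_mulVec]
    exact W.add_mem hx (W.smul_mem _ hu)
  | one => rwa [sp_one_mulVec]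
  | mul a b _ _ iha ihb =>
    rw [sp_mul_mulVec]
    exact iha (ihb hx)

theorem TW_fixes {W : Submodule F (l ⊕ l → F)} {t : symplecticGroup l F} (ht : t ∈ TW W)
    {x : l ⊕ l → F} (hx : ∀ w ∈ W, om l F x w = 0) : t.1 *ᵥ x = x := by
  induction ht using Subgroup.closure_induction'' with
  | mem t ht =>
    obtain ⟨u, hu, c, rfl⟩ := ht
    rw [tv_mulVec, hx u hu]; simp
  | inv_mem t ht =>
    obtain ⟨u, hu, c, rfl⟩ := ht
    rw [tv_inv, tv_mulVec, hx u hu]; simp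
  | one => rw [sp_one_mulVec]
  | mul a b _ _ iha ihb =>
    rw [sp_mul_mulVec, ihb, iha]

/-- One transvection moves `v` to `w` when `ω(v,w) ≠ 0`. -/
theorem tv_move {v w : l ⊕ l → F} (h : om l F v w ≠ 0) :
    (tv (v - w) (om l F v w)⁻¹).1 *ᵥ v = w := by
  rw [tv_mulVec, map_sub, om_self, zero_sub, mul_neg, inv_mul_cancel₀ h]
  simp

theorem TW_transitive {W : Submodule F (l ⊕ l → F)}
    (hW : ∀ v ∈ W, v ≠ 0 → ∃ z ∈ W, om l F v z ≠ 0) {v w : l ⊕ l → F} (hv : v ∈ W) (hw : w ∈ W)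
    (hv0 : v ≠ 0) (hw0 : w ≠ 0) : ∃ t ∈ TW W, t.1 *ᵥ v = w := by
  by_cases h : om l F v w = 0
  · obtain ⟨a, haW, ha⟩ := hW v hv hv0
    obtain ⟨b, hbW, hb⟩ := hW w hw hw0
    obtain ⟨z, hzW, hz1, hz2⟩ : ∃ z ∈ W, om l F v z ≠ 0 ∧ om l F z w ≠ 0 := by
      have hb' : om l F b w ≠ 0 := by rw [om_swap]; exact neg_ne_zero.2 hb
      by_cases h1 : om l F a w = 0
      · by_cases h2 : om l F v b = 0
        · refine ⟨a + b, W.add_mem haW hbW, ?_, ?_⟩
          · rw [map_add, h2, add_zero]; exact ha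
          · rw [map_add, LinearMap.add_apply, h1, zero_add]; exact hb'
        · exact ⟨b, hbW, h2, hb'⟩
      · exact ⟨a, haW, ha, h1⟩
    refine ⟨tv (z - w) (om l F z w)⁻¹ * tv (v - z) (om l F v z)⁻¹,
      (TW W).mul_mem (tv_mem_TW (W.sub_mem hzW hw) _) (tv_mem_TW (W.sub_mem hv hzW) _), ?_⟩
    rw [sp_mul_mulVec, tv_move hz1, tv_move hz2]
  · exact ⟨_, tv_mem_TW (W.sub_mem hv hw) _, tv_move h⟩

theorem TW_transitive_pair_aux {W : Submodule F (l ⊕ l → F)} {u v v' : l ⊕ l → F} (hu : u ∈ W)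
    (hv : v ∈ W) (hv' : v' ∈ W) (h1 : om l F u v = 1) (h2 : om l F u v' = 1) :
    ∃ t ∈ TW W, t.1 *ᵥ u = u ∧ t.1 *ᵥ v = v' := by
  have key : ∀ {a b : l ⊕ l → F}, a ∈ W → b ∈ W → om l F u a = 1 → om l F u b = 1 → om l F a b ≠ 0 →
      ∃ t ∈ TW W, t.1 *ᵥ u = u ∧ t.1 *ᵥ a = b := by
    intro a b ha hb h1 h2 h
    refine ⟨_, tv_mem_TW (W.sub_mem ha hb) _, ?_, tv_move h⟩
    rw [tv_mulVec, map_sub, h1, h2]; simp
  by_cases h : om l F v v' = 0
  · obtain ⟨t1, ht1, e1, e2⟩ := key hv (W.add_mem hu hv) h1 (by rw [map_add, om_self, h1, zero_add])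
      (by rw [map_add, om_self, add_zero, om_swap, h1]; simp)
    obtain ⟨t2, ht2, e3, e4⟩ := key (W.add_mem hu hv) hv' (by rw [map_add, om_self, h1, zero_add]) h2
      (by rw [map_add, LinearMap.add_apply, h2, h]; simp)
    exact ⟨t2 * t1, (TW W).mul_mem ht2 ht1, by rw [sp_mul_mulVec, e1, e3], by
      rw [sp_mul_mulVec, e2, e4]⟩
  · exact key hv hv' h1 h2 h

theorem TW_transitive_pair {W : Submodule F (l ⊕ l → F)}
    (hW : ∀ v ∈ W, v ≠ 0 → ∃ z ∈ W, om l F v z ≠ 0) {u v u' v' : l ⊕ l → F} (hu : u ∈ W)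
    (hv : v ∈ W) (hu' : u' ∈ W) (hv' : v' ∈ W) (h1 : om l F u v = 1) (h2 : om l F u' v' = 1) :
    ∃ t ∈ TW W, t.1 *ᵥ u = u' ∧ t.1 *ᵥ v = v' := by
  have hu0 : u ≠ 0 := by rintro rfl; simp at h1
  have hu0' : u' ≠ 0 := by rintro rfl; simp at h2
  obtain ⟨t1, ht1, e1⟩ := TW_transitive hW hu hu' hu0 hu0'
  obtain ⟨t2, ht2, e2, e3⟩ := TW_transitive_pair_aux hu' (TW_preserves ht1 hv) hv'
    (by rw [← e1, sp_om, h1]) h2
  exact ⟨t2 * t1, (TW W).mul_mem ht2 ht1, by rw [sp_mul_mulVec, e1, e2], by rw [sp_mul_mulVec, e3]⟩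

end Cfsg.Agent.Lib.Helper7
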