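import Mathlib
import Cfsg.Agent.Lib.Helper7.Sp

set_option autoImplicit false

namespace Cfsg.Agent.Lib.Helper7

open Matrix

variable {l : Type*} [Fintype l] [DecidableEq l] {F : Type*} [Field F]

/-- Standard basis vectors. -/
def eL (F : Type*) [Field F] (i : l) : l ⊕ l → F := Pi.single (.inl i) 1
def eR (F : Type*) [Field F] (i : l) : l ⊕ l → F := Pi.single (.inr i) 1

theorem om_eL (x : l ⊕ l → F) (i : l) : om l F x (eL F i) = x (.inr i) := by
  rw [om_apply, Finset.sum_eq_single i]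
  · simp [eL]
  · intro j _ hj
    simp [eL, hj]
  · simp

theorem om_eR (x : l ⊕ l → F) (i : l) : om l F x (eR F i) = - x (.inl i) := by
  rw [om_apply, Finset.sum_eq_single i]
  · simp [eR]
  · intro j _ hj
    simp [eR, hj]
  · simp

/-- Vectors supported on the coordinates in `s`. -/
def WS (F : Type*) [Field F] (s : Finset l) : Submodule F (l ⊕ l → F) where
  carrier := {x | ∀ i, i ∉ s → x (.inl i) = 0 ∧ x (.inr i) = 0}
  add_mem' {a b} ha hb i hi := by simp [ha i hi, hb i hi]
  zero_mem' i _ := by simp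
  smul_mem' c x hx i hi := by simp [hx i hi]

theorem mem_WS {s : Finset l} {x : l ⊕ l → F} :
    x ∈ WS F s ↔ ∀ i, i ∉ s → x (.inl i) = 0 ∧ x (.inr i) = 0 := Iff.rfl

theorem eL_mem_WS {s : Finset l} {i : l} (hi : i ∈ s) : eL F i ∈ WS F s := by
  intro j hj
  have : j ≠ i := fun h => hj (h ▸ hi)
  simp [eL, this]

theorem eR_mem_WS {s : Finset l} {i : l} (hi : i ∈ s) : eR F i ∈ WS F s := by
  intro j hj
  have : j ≠ i := fun h => hj (h ▸ hi)
  simp [eR, this]

theorem WS_nondeg (s : Finset l) : ∀ v ∈ WS F s, v ≠ 0 → ∃ z ∈ WS F s, om l F v z ≠ 0 := by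
  intro v hv hv0
  obtain ⟨i, hi⟩ := Function.ne_iff.1 hv0
  rcases i with i | i
  · have his : i ∈ s := by
      by_contra h; exact hi (hv i h).1
    exact ⟨eR F i, eR_mem_WS his, by rw [om_eR]; exact neg_ne_zero.2 hi⟩
  · have his : i ∈ s := by
      by_contra h; exact hi (hv i h).2
    exact ⟨eL F i, eL_mem_WS his, by rw [om_eL]; exact hi⟩

theorem om_WS_eL {s : Finset l} {i : l} (hi : i ∉ s) : ∀ w ∈ WS F s, om l F (eL F i) w = 0 := by
  intro w hw
  rw [om_swap, om_eL, (hw i hi).2, neg_zero]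

theorem om_WS_eR {s : Finset l} {i : l} (hi : i ∉ s) : ∀ w ∈ WS F s, om l F (eR F i) w = 0 := by
  intro w hw
  rw [om_swap, om_eR, (hw i hi).1]; simp

theorem TW_mono {W W' : Submodule F (l ⊕ l → F)} (h : W ≤ W') : TW W ≤ TW W' :=
  Subgroup.closure_mono fun _ ⟨u, hu, c, ht⟩ => ⟨u, h hu, c, ht⟩

theorem sp_eq_one_of_fix {g : symplecticGroup l F}
    (h : ∀ i, g.1 *ᵥ eL F i = eL F i ∧ g.1 *ᵥ eR F i = eR F i) : g = 1 := by
  apply Subtype.ext
  ext a b
  show g.1 a b = (1 : Matrix _ _ F) a b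
  rcases b with i | i
  · have := congrFun (h i).1 a
    rw [eL, Matrix.mulVec_single_one] at this
    rw [Matrix.one_apply, ← Pi.single_apply]
    simpa [Pi.single_apply, eq_comm] using this
  · have := congrFun (h i).2 a
    rw [eR, Matrix.mulVec_single_one] at this
    simpa [Matrix.one_apply, Pi.single_apply, eq_comm] using this

theorem mem_TW_of_fix (s : Finset l) : ∀ g : symplecticGroup l F,
    (∀ i, i ∉ s → g.1 *ᵥ eL F i = eL F i ∧ g.1 *ᵥ eR F i = eR F i) → g ∈ TW (⊤ : Submodule F (l ⊕ l → F)) := by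
  induction s using Finset.induction_on with
  | empty =>
    intro g hg
    rw [sp_eq_one_of_fix fun i => hg i (by simp)]
    exact Subgroup.one_mem _
  | insert a s ha ih =>
    intro g hg
    have hmem : ∀ x : l ⊕ l → F, x ∈ WS F (insert a s) → g.1 *ᵥ x ∈ WS F (insert a s) := by
      intro x hx i hi
      constructor
      · have h1 := om_eR (g.1 *ᵥ x) i
        rw [← (hg i hi).2, sp_om, om_eR, (hx i hi).1] at h1
        simpa using h1.symm
      · have h1 := om_eL (g.1 *ᵥ x) i
        rw [← (hg i hi).1, sp_om, om_eL, (hx i hi).2] at h1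
        exact h1.symm
    have haa : a ∈ insert a s := Finset.mem_insert_self a s
    have h1 : om l F (eR F a) (eL F a) = 1 := by rw [om_eL]; simp [eR]
    obtain ⟨t, ht, e1, e2⟩ := TW_transitive_pair (WS_nondeg (F := F) (insert a s))
      (hmem _ (eR_mem_WS haa)) (hmem _ (eL_mem_WS haa)) (eR_mem_WS haa) (eL_mem_WS haa)
      (by rw [sp_om, h1]) h1
    have h2 : t * g ∈ TW (⊤ : Submodule F (l ⊕ l → F)) := by
      apply ih
      intro i hi
      by_cases hia : i = a
      · subst hia
        exact ⟨by rw [sp_mul_mulVec, e2], by rw [sp_mul_mulVec, e1]⟩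
      · have hi' : i ∉ insert a s := by simp [hia, hi]
        exact ⟨by rw [sp_mul_mulVec, (hg i hi').1, TW_fixes ht (om_WS_eL hi')],
          by rw [sp_mul_mulVec, (hg i hi').2, TW_fixes ht (om_WS_eR hi')]⟩
    have h3 : t ∈ TW (⊤ : Submodule F (l ⊕ l → F)) := TW_mono le_top ht
    have : g = t⁻¹ * (t * g) := by group
    rw [this]
    exact Subgroup.mul_mem _ (Subgroup.inv_mem _ h3) h2

/-- The symplectic group is generated by transvections. -/
theorem TW_top : TW (⊤ : Submodule F (l ⊕ l → F)) = ⊤ := by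
  rw [eq_top_iff]
  intro g _
  exact mem_TW_of_fix Finset.univ g (fun i hi => absurd (Finset.mem_univ i) hi)

end Cfsg.Agent.Lib.Helper7
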