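import Mathlib
import Cfsg.Agent.Lib.Helper7.SpGen

set_option autoImplicit false
set_option linter.unusedSimpArgs false
set_option linter.unusedSectionVars false

namespace Cfsg.Agent.Lib.Helper7

open Matrix

variable {l : Type*} [Fintype l] [DecidableEq l] {F : Type*} [Field F]

theorem sp_transitive {v w : l ⊕ l → F} (hv : v ≠ 0) (hw : w ≠ 0) :
    ∃ g : symplecticGroup l F, g.1 *ᵥ v = w := by
  obtain ⟨t, -, ht⟩ := TW_transitive (W := (⊤ : Submodule F (l ⊕ l → F)))
    (fun v _ hv0 => by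
      obtain ⟨z, hz⟩ := exists_om_ne_zero hv0
      exact ⟨z, trivial, hz⟩) (v := v) (w := w) trivial trivial hv hw
  exact ⟨t, ht⟩

theorem ab_tv_eq {u u' : l ⊕ l → F} (hu : u ≠ 0) (hu' : u' ≠ 0) (c : F) :
    Abelianization.of (tv u c) = Abelianization.of (tv u' c) := by
  obtain ⟨g, hg⟩ := sp_transitive hu hu'
  rw [← hg, ← tv_conj, map_mul, map_mul, map_inv, mul_comm, inv_mul_cancel_left]

theorem tv_zero_vec (c : F) : tv (0 : l ⊕ l → F) c = 1 := by
  apply sp_ext
  intro x
  simp [tv_mulVec]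

theorem commutator_eq_top_of_ab_tv
    (h : ∀ (u : l ⊕ l → F) (c : F), u ≠ 0 → Abelianization.of (tv u c) = 1) :
    commutator (symplecticGroup l F) = ⊤ := by
  rw [← Abelianization.ker_of, eq_top_iff, ← TW_top, TW, Subgroup.closure_le]
  rintro _ ⟨u, -, c, rfl⟩
  by_cases hu : u = 0
  · subst hu
    rw [tv_zero_vec]; exact Subgroup.one_mem _
  · exact MonoidHom.mem_ker.2 (h u c hu)

/-- Case of a field with an element `a ≠ 0`, `a² ≠ 1`. -/
theorem sp_perfect_of_sq {a : F} (ha : a ≠ 0) (ha2 : a ^ 2 ≠ 1) :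
    commutator (symplecticGroup l F) = ⊤ := by
  apply commutator_eq_top_of_ab_tv
  intro u c hu
  have h1 := ab_tv_eq (smul_ne_zero ha hu) hu (c / (a ^ 2 - 1))
  rw [tv_smul] at h1
  have h2 : a ^ 2 * (c / (a ^ 2 - 1)) = c + c / (a ^ 2 - 1) := by
    have : a ^ 2 - 1 ≠ 0 := sub_ne_zero.2 ha2
    field_simp
    ring
  rw [h2, ← tv_mul, map_mul] at h1
  exact mul_eq_right.1 h1

theorem tv_four {u v : l ⊕ l → F} (huv : om l F u v = 0) (c : F) :
    tv (u + v) c * tv (u - v) c = tv u (2 * c) * tv v (2 * c) := by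
  have hvu : om l F v u = 0 := by rw [om_swap, huv, neg_zero]
  apply sp_ext
  intro x
  simp only [sp_mul_mulVec, tv_mulVec, map_add, map_sub, map_smul, LinearMap.add_apply,
    LinearMap.sub_apply, LinearMap.smul_apply, smul_eq_mul, om_self, huv, hvu, mul_zero, add_zero,
    sub_zero, zero_add, zero_sub, sub_self, neg_zero]
  module

/-- Odd characteristic and two independent orthogonal vectors. -/
theorem sp_perfect_of_two {u v : l ⊕ l → F} (h2 : (2 : F) ≠ 0) (huv : om l F u v = 0)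
    (hu : u ≠ 0) (hv : v ≠ 0) (h1 : u + v ≠ 0) (h3 : u - v ≠ 0) :
    commutator (symplecticGroup l F) = ⊤ := by
  apply commutator_eq_top_of_ab_tv
  intro w c hw
  have h := congrArg Abelianization.of (tv_four huv (c / 2))
  rw [map_mul, map_mul, ab_tv_eq h1 hw, ab_tv_eq h3 hw, ab_tv_eq hu hw, ab_tv_eq hv hw,
    mul_div_cancel₀ c h2, ← map_mul, tv_mul,
    show c / 2 + c / 2 = c by rw [← add_div, ← two_mul, mul_div_cancel_left₀ c h2]] at h
  exact (mul_eq_left.1 h.symm)

theorem tv_nine {u v w : l ⊕ l → F} (huv : om l F u v = 0) (huw : om l F u w = 0)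
    (hvw : om l F v w = 0) (c : F) :
    tv (u + w + v) c * tv (u + w) (-c) * tv v (-c)
      = tv (u + v) c * tv u (-c) * tv v (-c) * (tv (w + v) c * tv w (-c) * tv v (-c)) := by
  have hvu : om l F v u = 0 := by rw [om_swap, huv, neg_zero]
  have hwu : om l F w u = 0 := by rw [om_swap, huw, neg_zero]
  have hwv : om l F w v = 0 := by rw [om_swap, hvw, neg_zero]
  apply sp_ext
  intro x
  simp only [sp_mul_mulVec, tv_mulVec, map_add, map_sub, map_smul, LinearMap.add_apply,
    LinearMap.sub_apply, LinearMap.smul_apply, smul_eq_mul, om_self, huv, hvu, huw, hwu, hvw, hwv,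
    mul_zero, add_zero, sub_zero, zero_add, zero_sub, sub_self, neg_zero]
  module

/-- Three independent mutually orthogonal vectors. -/
theorem sp_perfect_of_three {u v w : l ⊕ l → F} (huv : om l F u v = 0) (huw : om l F u w = 0)
    (hvw : om l F v w = 0) (hu : u ≠ 0) (hv : v ≠ 0) (hw : w ≠ 0) (h1 : u + v ≠ 0) (h2 : u + w ≠ 0)
    (h3 : w + v ≠ 0) (h4 : u + w + v ≠ 0) :
    commutator (symplecticGroup l F) = ⊤ := by
  apply commutator_eq_top_of_ab_tv
  intro z c hz
  have h := congrArg Abelianization.of (tv_nine huv huw hvw c)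
  simp only [map_mul] at h
  rw [ab_tv_eq h4 hz, ab_tv_eq h2 hz, ab_tv_eq hv hz, ab_tv_eq h1 hz, ab_tv_eq hu hz,
    ab_tv_eq h3 hz, ab_tv_eq hw hz, ← tv_inv, map_inv] at h
  have h5 : (Abelianization.of (tv z c))⁻¹ = (Abelianization.of (tv z c))⁻¹ * (Abelianization.of (tv z c))⁻¹ := by
    simpa using h
  have h6 := mul_eq_left.1 h5.symm
  exact inv_eq_one.1 h6

end Cfsg.Agent.Lib.Helper7
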