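import Mathlib

set_option autoImplicit false
set_option linter.unusedSimpArgs false
set_option linter.unusedSectionVars false

namespace Cfsg.Agent.Lib.Helper7

open QuaternionGroup

section
variable {G : Type*} [Group G] {n : ℕ} {x w : G}

theorem pow_mod_two_n (hx : orderOf x = 2 * n) (m : ℕ) : x ^ (m % (2 * n)) = x ^ m := by
  have := pow_mod_orderOf x m
  rwa [hx] at this

theorem pow_val_add (hx : orderOf x = 2 * n) (i j : ZMod (2 * n)) [NeZero (2 * n)] :
    x ^ (i + j).val = x ^ i.val * x ^ j.val := by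
  rw [ZMod.val_add, ← pow_add, pow_mod_two_n hx]

theorem pow_val_sub (hx : orderOf x = 2 * n) (i j : ZMod (2 * n)) [NeZero (2 * n)] :
    x ^ (j - i).val = (x ^ i.val)⁻¹ * x ^ j.val := by
  rw [eq_inv_mul_iff_mul_eq, ← pow_val_add hx, add_sub_cancel]

theorem pow_val_natCast (hx : orderOf x = 2 * n) [NeZero (2 * n)] :
    x ^ ((n : ZMod (2 * n))).val = x ^ n := by
  rw [ZMod.val_natCast, pow_mod_two_n hx]

theorem conj_pow_eq (hc : w * x * w⁻¹ = x⁻¹) (k : ℕ) : x ^ k * w = w * (x ^ k)⁻¹ := by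
  have h1 : w * x ^ k * w⁻¹ = (x ^ k)⁻¹ := by
    rw [← conj_pow, hc, inv_pow]
  generalize x ^ k = y at *
  have h2 : w * y⁻¹ * w⁻¹ = y := by
    have := congrArg (·⁻¹) h1
    simpa [mul_assoc] using this
  calc y * w = (w * y⁻¹ * w⁻¹) * w := by rw [h2]
    _ = w * y⁻¹ := by group

/-- The map from the quaternion group determined by `x` and `w`. -/
def quatFun (x w : G) : QuaternionGroup n → G
  | a i => x ^ i.val
  | xa i => w * x ^ i.val

theorem quatFun_mul (hn : n ≠ 0) (hx : orderOf x = 2 * n) (hw : w ^ 2 = x ^ n)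
    (hc : w * x * w⁻¹ = x⁻¹) (g h : QuaternionGroup n) :
    quatFun x w (g * h) = quatFun x w g * quatFun x w h := by
  have : NeZero (2 * n) := ⟨by omega⟩
  rcases g with i | i <;> rcases h with j | j
  · simp only [a_mul_a, quatFun, pow_val_add hx]
  · simp only [a_mul_xa, quatFun, pow_val_sub hx]
    rw [← mul_assoc (x ^ i.val), conj_pow_eq hc, mul_assoc]
  · simp only [xa_mul_a, quatFun, pow_val_add hx, mul_assoc]
  · simp only [xa_mul_xa, quatFun]
    rw [add_sub_assoc, pow_val_add hx, pow_val_sub hx, pow_val_natCast hx, ← hw, sq,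
      mul_assoc w (x ^ i.val), ← mul_assoc (x ^ i.val), conj_pow_eq hc]
    simp only [mul_assoc]

theorem exists_quaternion_hom (hn : 2 ≤ n) (hx : orderOf x = 2 * n) (hw : w ^ 2 = x ^ n)
    (hc : w * x * w⁻¹ = x⁻¹) : ∃ f : QuaternionGroup n →* G, Function.Injective f := by
  have : NeZero (2 * n) := ⟨by omega⟩
  refine ⟨MonoidHom.mk' (quatFun x w) (quatFun_mul (by omega) hx hw hc), ?_⟩
  rw [injective_iff_map_eq_one]
  intro g hg
  rcases g with i | i
  · have h1 : x ^ i.val = 1 := hg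
    have h2 : orderOf x ∣ i.val := orderOf_dvd_of_pow_eq_one h1
    have h3 : i.val < 2 * n := ZMod.val_lt i
    have h4 : i.val = 0 := Nat.eq_zero_of_dvd_of_lt h2 (by rw [hx]; exact h3)
    rw [ZMod.val_eq_zero] at h4
    rw [h4]; rfl
  · exfalso
    have h1 : w * x ^ i.val = 1 := hg
    have h2 : w = (x ^ i.val)⁻¹ := eq_inv_of_mul_eq_one_left h1
    have h3 : w * x * w⁻¹ = x := by
      rw [h2, inv_inv, ← inv_pow]
      have : Commute (x⁻¹ ^ i.val) x := (Commute.refl x).inv_left.pow_left _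
      rw [this.eq, mul_assoc, inv_pow, inv_mul_cancel, mul_one]
    rw [hc] at h3
    have h4 : x ^ 2 = 1 := by
      rw [sq]; nth_rewrite 1 [← h3]; simp
    have h5 := orderOf_dvd_of_pow_eq_one h4
    rw [hx] at h5
    have := Nat.le_of_dvd (by norm_num) h5
    omega

end

/-- A finite group with a quaternion-type pair of the full `2`-power order has quaternion Sylow
`2`-subgroups. -/
theorem sylow_two_quaternion {G : Type*} [Group G] [Finite G] {k : ℕ} (hk : 1 ≤ k) {x w : G}
    (hx : orderOf x = 2 * 2 ^ k) (hw : w ^ 2 = x ^ (2 ^ k)) (hc : w * x * w⁻¹ = x⁻¹)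
    (hcard : (Nat.card G).factorization 2 = k + 2) (P : Sylow 2 G) :
    Nonempty (P ≃* QuaternionGroup (2 ^ k)) := by
  have h2 : 2 ≤ 2 ^ k := by
    calc 2 = 2 ^ 1 := by norm_num
      _ ≤ 2 ^ k := Nat.pow_le_pow_right (by norm_num) hk
  obtain ⟨f, hf⟩ := exists_quaternion_hom h2 hx hw hc
  have : NeZero (2 ^ k) := ⟨by positivity⟩
  have hr : Nat.card f.range = 2 ^ (k + 2) := by
    rw [← Nat.card_congr (MonoidHom.ofInjective hf).toEquiv, Nat.card_eq_fintype_card,
      QuaternionGroup.card]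
    ring
  obtain ⟨Q, hQ⟩ := (IsPGroup.of_card hr).exists_le_sylow
  have hQe : f.range = Q := Subgroup.eq_of_le_of_card_ge hQ (by
    rw [hr, ← hcard]; exact (Sylow.card_eq_multiplicity Q).le)
  have e1 : P ≃* Q := Sylow.equiv P Q
  have e2 : QuaternionGroup (2 ^ k) ≃* f.range := MonoidHom.ofInjective hf
  have e3 : f.range ≃* (Q : Subgroup G) := MulEquiv.subgroupCongr hQe
  exact ⟨e1.trans (e3.symm.trans e2.symm)⟩

end Cfsg.Agent.Lib.Helper7
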