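import Cfsg.Agent.Lib.Helper58.BG1212Defs
import Cfsg.Agent.Lib.Helper13.BG127Main
import Cfsg.Agent.Lib.Helper2.BG96D
import Cfsg.Agent.S3769
import Cfsg.Agent.S1417
import Cfsg.Agent.S1418

/-!
Ladder BG1212 (statement S1421), rung FROB.
-/

set_option autoImplicit false

namespace Cfsg.Agent.Lib.Helper7.BG1212

open Subgroup Cfsg.Agent.Lib.Helper30 Cfsg.Agent.Lib.Helper58.BG1212

universe u

variable {G : Type u} [Group G]

theorem t1417 [Finite G] (hG : Cfsg.IsMinSimpleOddOrder G) :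
    Cfsg.Agent.Lib.Helper28.BG12.T1417 G :=
  fun M hM p _ hp A hA => Cfsg.Agent.S1417.result hG M hM p hp A hA

theorem centralizer_zpowers_eq (e : G) :
    centralizer ((zpowers e : Subgroup G) : Set G) = centralizer ({e} : Set G) := by
  apply le_antisymm
  · exact centralizer_le (by
      intro x hx
      rw [Set.mem_singleton_iff] at hx
      rw [hx]
      exact mem_zpowers e)
  · intro g hg
    rw [mem_centralizer_iff] at hg ⊢
    have h1 : e * g = g * e := hg e (Set.mem_singleton e)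
    intro x hx
    obtain ⟨k, rfl⟩ := mem_zpowers_iff.mp hx
    exact ((Commute.zpow_left (show Commute e g from h1) k)).eq

theorem coprime_compl [Finite G] (hG : Cfsg.IsMinSimpleOddOrder G) {M E : Subgroup G}
    (hM : IsCoatom M) (hE : Cfsg.IsComplIn E (Cfsg.sigmaCore M) M) {H : Subgroup G} (hH : H ≤ E) :
    (Nat.card H).Coprime (Nat.card (Cfsg.sigmaCore M)) := by
  apply Nat.Coprime.symm
  apply Nat.Coprime.symm
  rw [Nat.coprime_iff_gcd_eq_one] 
  by_contra hne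
  obtain ⟨q, hq, hqd⟩ := Nat.exists_prime_and_dvd hne
  have h1 : q ∣ Nat.card H := hqd.trans (Nat.gcd_dvd_left _ _)
  have h2 : q ∣ Nat.card (Cfsg.sigmaCore M) := hqd.trans (Nat.gcd_dvd_right _ _)
  have h3 : q ∣ Nat.card E := h1.trans (card_dvd_of_le hH)
  exact Cfsg.Agent.Lib.Helper28.BG12.not_mem_sigma_of_dvd_compl hG hM hE hq h3
    ((Cfsg.Agent.Lib.Helper28.BG12.sigmaCore_hall hG hM).2.1 q hq h2)

theorem relIndex_sup_of_normalizer {A R : Subgroup G} (hR : R ≤ normalizer (A : Set G))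
    (hAR : A ⊓ R = ⊥) : A.relIndex (A ⊔ R) = Nat.card R := by
  have hH : A ⊔ R ≤ normalizer (A : Set G) := sup_le le_normalizer hR
  have : (A.subgroupOf (A ⊔ R)).Normal :=
    (normal_subgroupOf_iff_le_normalizer le_sup_left).mpr hH
  have h1 : A.subgroupOf (A ⊔ R) ⊔ R.subgroupOf (A ⊔ R) = ⊤ := by
    rw [← subgroupOf_sup le_sup_left le_sup_right, subgroupOf_self]
  have h2 : (A.subgroupOf (A ⊔ R)).relIndex (A.subgroupOf (A ⊔ R) ⊔ R.subgroupOf (A ⊔ R)) =
      (A.subgroupOf (A ⊔ R)).relIndex (R.subgroupOf (A ⊔ R)) := relIndex_sup_left _ _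
  rw [h1, relIndex_top_right] at h2
  have h3 : A.subgroupOf (A ⊔ R) ⊓ R.subgroupOf (A ⊔ R) = ⊥ := by
    rw [eq_bot_iff]
    rintro x ⟨hx1, hx2⟩
    have : (x : G) ∈ A ⊓ R := ⟨mem_subgroupOf.mp hx1, mem_subgroupOf.mp hx2⟩
    rw [hAR, mem_bot] at this
    exact Subtype.ext this
  rw [relIndex, h2, ← inf_relIndex_right, h3, relIndex_bot_left]
  exact Nat.card_congr (subgroupOfEquivOfLe le_sup_right).toEquiv

theorem frob [Finite G] (hG : Cfsg.IsMinSimpleOddOrder G) {M E : Subgroup G} (hM : IsCoatom M)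
    (hE : Cfsg.IsComplIn E (Cfsg.sigmaCore M) M) {p : ℕ} [Fact p.Prime] (hp : p ∈ Cfsg.tau2 M)
    {A : Subgroup G} (hAE : A ≤ E) (hA : Cfsg.IsElementaryAbelian p A) (hA2 : Nat.card A = p ^ 2)
    {e : G} (heE : e ∈ E) (her : (orderOf e).Prime)
    (hfpf : A ⊓ centralizer ({e} : Set G) = ⊥) :
    Cfsg.sigmaCore M ⊓ centralizer ({e} : Set G) ≠ ⊥ := by
  intro hcon
  have hpp : p.Prime := Fact.out
  have h18 := Cfsg.Agent.S1418.result hG M hM E hE p hp A ⟨hAE, hA, hA2⟩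
  have hAM : A ≤ M := hAE.trans hE.1
  have h17 := Cfsg.Agent.S1417.result hG M hM p hp A ⟨hAM, hA, hA2⟩
  have hA1 : A ≠ ⊥ := Cfsg.Agent.Lib.Helper13.BG127.ne_bot_of_card_sq hA2
  have hMs1 : Cfsg.sigmaCore M ≠ ⊥ :=
    Cfsg.Agent.Lib.Helper13.BG127.ms_ne_bot hG hM hE hA1 hAM h18.2.1.2.1 h18.2.1.2.2
  have hCA : Cfsg.sigmaCore M ⊓ centralizer (A : Set G) = ⊥ := h17.2.2.2.1
  have hEN : E ≤ normalizer (A : Set G) := h18.1.1
  set R : Subgroup G := zpowers e with hR
  have hRE : R ≤ E := zpowers_le.mpr heE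
  have hRcard : Nat.card R = orderOf e := Nat.card_zpowers e
  have hCR : centralizer (R : Set G) = centralizer ({e} : Set G) := centralizer_zpowers_eq e
  -- the order of `e` is not `p`
  have hne : orderOf e ≠ p := by
    intro h
    have h1 : e ∈ centralizer (A : Set G) :=
      Cfsg.Agent.Lib.Helper13.BG127.pelt_centralizes hG (t1417 hG) hM hp.2.1 hAM hA (hE.1 heE)
        (hEN heE) (k := 1) (by rw [pow_one, ← h]; exact pow_orderOf_eq_one e)
    apply hA1
    rw [eq_bot_iff, ← hfpf]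
    intro a ha
    refine ⟨ha, ?_⟩
    change a ∈ centralizer ({e} : Set G)
    rw [mem_centralizer_iff]
    intro x hx
    rw [Set.mem_singleton_iff] at hx
    rw [hx]
    exact (mem_centralizer_iff.mp h1 a ha).symm
  have hcopRA : (Nat.card R).Coprime (Nat.card A) := by
    rw [hRcard, hA2]
    exact Nat.Coprime.pow_right 2 ((Nat.coprime_primes her hpp).mpr hne)
  set H : Subgroup G := A ⊔ R with hH
  have hHE : H ≤ E := sup_le hAE hRE
  have hHM : H ≤ M := hHE.trans hE.1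
  have hHsol : Group.IsSolvable H :=
    isSolvable_of_le hHM (solvable_of_ne_top hG hM.1)
  have hHodd : Odd (Nat.card H) := hG.1.of_dvd_nat (card_subgroup_dvd_card H)
  have hHMs : H ≤ normalizer (Cfsg.sigmaCore M : Set G) :=
    hHM.trans (Cfsg.Agent.Lib.Helper28.BG12.le_normalizer_sigmaCore M)
  have hcopH : (Nat.card H).Coprime (Nat.card (Cfsg.sigmaCore M)) := coprime_compl hG hM hE hHE
  -- a prime divisor of `M_σ`
  have hcard1 : Nat.card (Cfsg.sigmaCore M) ≠ 1 := by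
    intro h
    exact hMs1 ((Subgroup.card_eq_one).mp h)
  obtain ⟨l, hl, hld⟩ := Nat.exists_prime_and_dvd hcard1
  haveI : Fact l.Prime := ⟨hl⟩
  obtain ⟨Q, hQ, hHQ⟩ := exists_invariant_isSylowIn hHMs hcopH (Or.inl hHsol) l
  have hQ1 : Q ≠ ⊥ := Cfsg.Agent.Lib.Helper58.BG13.ne_bot_of_isSylowIn_of_dvd hQ hld
  set V : Subgroup G := Cfsg.Agent.Lib.Helper2.BG96.omZ l Q with hV
  have hV1 : V ≠ ⊥ := Cfsg.Agent.Lib.Helper2.BG96.omZ_ne_bot hQ.isPGroup hQ1
  have hVQ : V ≤ Q := Cfsg.Agent.Lib.Helper2.BG96.omZ_le l Q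
  have hVMs : V ≤ Cfsg.sigmaCore M := hVQ.trans hQ.le
  have hVea : Cfsg.IsElementaryAbelian l V := Cfsg.Agent.Lib.Helper2.BG96.omZ_ea l Q
  have hHV : H ≤ normalizer (V : Set G) :=
    hHQ.trans (Cfsg.Agent.Lib.Helper2.BG96.normalizer_le_normalizer_omZ l Q)
  have hlH : ¬ l ∣ Nat.card H := by
    intro h
    have := Nat.dvd_gcd h hld
    rw [Nat.coprime_iff_gcd_eq_one.mp hcopH] at this
    exact hl.one_lt.ne' (Nat.dvd_one.mp this)
  have hAR : A ⊓ R = ⊥ := inf_eq_bot_of_coprime hcopRA.symm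
  have hHNA : H ≤ normalizer (A : Set G) := hHE.trans hEN
  have hrel : A.relIndex H = Nat.card R := relIndex_sup_of_normalizer (hRE.trans hEN) hAR
  have key := Cfsg.Agent.S3769.result H hHsol hHodd V hl hVea hlH hHV A R le_sup_left hHNA
    (by rw [hrel]; exact hcopRA.symm) le_sup_right (by rw [hRcard]; exact her) hAR rfl
    (by
      rw [hCR, eq_bot_iff, ← hcon]
      exact inf_le_inf_right _ hVMs)
  have hRNA : R ≤ normalizer (A : Set G) := hRE.trans hEN
  have h5 := commutator_sup_centralizer hRNA hcopRA (Or.inr (isSolvable_of_le hAM (solvable_of_ne_top hG hM.1)))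
  rw [hCR, hfpf, sup_bot_eq] at h5
  rw [commutator_comm, h5] at key
  apply hV1
  rw [eq_bot_iff, ← hCA]
  intro v hv
  refine ⟨hVMs hv, ?_⟩
  change v ∈ centralizer (A : Set G)
  rw [mem_centralizer_iff]
  intro a ha
  exact (mem_centralizer_iff.mp (key ha) v hv).symm

end Cfsg.Agent.Lib.Helper7.BG1212
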