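import Mathlib
import Cfsg.Agent.Lib.Helper7.SL2KeyZ
import Cfsg.Agent.Lib.Helper18.SL2.PartC

set_option autoImplicit false
set_option linter.unusedSimpArgs false
set_option linter.unusedSectionVars false
set_option linter.unusedVariables false

/-! The key consequence of Dickson's analysis: the upper unitriangular part of a subgroup of
`SL₂(q)` with a non-normal Sylow `p`-subgroup of order at least `4` is a multiple of a subfield. -/

namespace Cfsg.Agent.Lib.Helper7

open Matrix Subgroup Cfsg.Agent.Lib.Helper46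

variable {F : Type*} [Field F] [Fintype F]

theorem mem_of_mem_sup_center' (p : ℕ) [Fact p.Prime] [CharP F p]
    {H : Subgroup (SpecialLinearGroup (Fin 2) F)} {w : SpecialLinearGroup (Fin 2) F}
    (hw : w ∈ H ⊔ center (SpecialLinearGroup (Fin 2) F)) (ht : tr w = 2) : w ∈ H := by
  by_cases hp : p = 2
  · subst hp
    have h2 : (2 : F) = 0 := by
      have := CharP.cast_eq_zero F 2
      exact_mod_cast this
    have hb : center (SpecialLinearGroup (Fin 2) F) = ⊥ :=
      Subgroup.eq_bot_of_card_eq _ (zc_of_two_eq h2)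
    rwa [hb, sup_bot_eq] at hw
  · exact mem_of_mem_sup_center p hp hw ht

/-- the point `0` lies in the orbit of `∞` -/
theorem zero_mem_ptsOf (p : ℕ) [Fact p.Prime] [CharP F p]
    (H : Subgroup (SpecialLinearGroup (Fin 2) F)) {a₀ b₀ : F} (ha₀ : a₀ ≠ 0) (hb₀ : b₀ ≠ 0)
    (hu : uu a₀ ∈ H) (hl : ll b₀ ∈ H) : (0 : F) ∈ ptsOf H := by
  obtain ⟨h, hh, hc⟩ := exists_conj_commute p H hl hu (tr_ll b₀) (tr_uu a₀)
  have h10 := ((commute_uu_iff ha₀ _).1 hc).1
  simp only [mul_10, mul_11, mul_00, mul_01, inv_00, inv_01, inv_10, inv_11, ll, mk2_00, mk2_01,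
    mk2_10, mk2_11] at h10
  have h11 : h.1 1 1 = 0 := by
    have : b₀ * (h.1 1 1) ^ 2 = 0 := by linear_combination h10
    have := (mul_eq_zero.1 this).resolve_left hb₀
    exact pow_eq_zero_iff (two_ne_zero) |>.1 this
  have hd := det2 h
  rw [h11] at hd
  refine ⟨h⁻¹, H.inv_mem hh, ?_, ?_⟩
  · rw [inv_10]
    intro h0
    have h0' : h.1 1 0 = 0 := by linear_combination -h0
    rw [h0'] at hd
    simp at hd
  · rw [inv_00, h11]; ring

/-- **Key theorem.**  If `G ≤ SL₂(F)` contains non-trivial upper and lower unitriangular elements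
and at least four upper unitriangular elements, then (after adding the centre) it is in the
normalised situation of Dickson's theorem. -/
theorem normalized_of_four (p : ℕ) [Fact p.Prime] [CharP F p]
    (G : Subgroup (SpecialLinearGroup (Fin 2) F)) {a₀ b₀ : F} (ha₀ : a₀ ≠ 0) (hb₀ : b₀ ≠ 0)
    (hu : uu a₀ ∈ G) (hl : ll b₀ ∈ G) (h4 : 4 ≤ Nat.card (addOf G)) :
    Cfsg.Agent.Lib.Helper18.SL2.Normalized (G ⊔ center (SpecialLinearGroup (Fin 2) F)) := by
  set H := G ⊔ center (SpecialLinearGroup (Fin 2) F) with hH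
  have hGH : G ≤ H := le_sup_left
  have hZ : center (SpecialLinearGroup (Fin 2) F) ≤ H := le_sup_right
  have hadd : addOf H = addOf G := by
    ext a
    rw [mem_addOf, mem_addOf]
    exact ⟨fun h => mem_of_mem_sup_center' p h (tr_uu a), fun h => hGH h⟩
  have h0 := zero_mem_ptsOf p H ha₀ hb₀ (hGH hu) (hGH hl)
  rcases main_analysisZ p H hZ ha₀ hb₀ (hGH hu) (hGH hl) (by rw [hadd]; omega) with h | ⟨h, -⟩
  · refine ⟨⟨b₀, hb₀, hGH hl⟩, fun g hg => ?_⟩
    by_cases g10 : g.1 1 0 = 0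
    · left; exact g10
    · right
      have hm : g.1 0 0 / g.1 1 0 ∈ ptsOf H := ⟨g, hg, g10, by field_simp⟩
      have := h _ hm _ h0
      rwa [sub_zero] at this
  · rw [hadd] at h; omega

theorem key_subfield (p : ℕ) [Fact p.Prime] [CharP F p]
    (G : Subgroup (SpecialLinearGroup (Fin 2) F)) {a₀ b₀ : F} (ha₀ : a₀ ≠ 0) (hb₀ : b₀ ≠ 0)
    (hu : uu a₀ ∈ G) (hl : ll b₀ ∈ G) (h4 : 4 ≤ Nat.card (addOf G)) :
    ∃ (K : Subfield F) (c : F), c ≠ 0 ∧ ∀ x, uu (c * x) ∈ G ↔ x ∈ K := by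
  obtain ⟨K, c, hc, hmem, -⟩ := (normalized_of_four p G ha₀ hb₀ hu hl h4).main
  refine ⟨K, c, hc, fun x => ?_⟩
  rw [← hmem]
  exact ⟨fun h => (le_sup_left : G ≤ _) h, fun h => mem_of_mem_sup_center' p h (tr_uu _)⟩

end Cfsg.Agent.Lib.Helper7
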