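import Mathlib
import Cfsg.Agent.Lib.Helper7.SL2PPrime

set_option autoImplicit false
set_option linter.unusedSimpArgs false
set_option linter.unusedSectionVars false
set_option linter.unusedVariables false

/-! The class equation analysis with the class data in the exceptional case, and the case of a
Sylow subgroup of order two. -/

namespace Cfsg.Agent.Lib.Helper7

open Matrix Subgroup Cfsg.Agent.Lib.Helper46

variable {F : Type*} [Field F] [Fintype F]

theorem norIn_card_of_class (H : Subgroup (SpecialLinearGroup (Fin 2) F))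
    (hZ : center (SpecialLinearGroup (Fin 2) F) ≤ H) {x : SpecialLinearGroup (Fin 2) F}
    (hx : x ∈ H) (hs : tr x ^ 2 ≠ 4) {c : ℕ} (hc : 2 ≤ c)
    (hcard : Nat.card (cenIn H x) = zc F * c)
    (hcl : (Ucl H (cenIn H x)).ncard * (2 * c) = Nat.card H * (c - 1)) :
    Nat.card (norIn H (cenIn H x)) = 2 * (zc F * c) := by
  obtain ⟨c', ε', hc', hε', hcard', hnor', hU'⟩ := ss_classZ H hZ hx hs
  have hcc : c' = c := Nat.eq_of_mul_eq_mul_left (zc_pos F) (hcard'.symm.trans hcard)
  subst hcc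
  rcases hε' with rfl | rfl
  · exfalso
    have hN : 0 < Nat.card H := Nat.card_pos
    have h1 : 0 < Nat.card H * (c' - 1) := Nat.mul_pos hN (by omega)
    have h2 : (Ucl H (cenIn H x)).ncard * (2 * c') = 2 * ((Ucl H (cenIn H x)).ncard * (1 * c')) := by
      ring
    rw [h2, hU'] at hcl
    omega
  · exact hnor'

set_option maxHeartbeats 1000000 in
/-- The class equation analysis, any characteristic. -/
theorem main_analysisZ' (p : ℕ) [Fact p.Prime] [CharP F p]
    (H : Subgroup (SpecialLinearGroup (Fin 2) F))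
    (hZ : center (SpecialLinearGroup (Fin 2) F) ≤ H) {a₀ b₀ : F} (ha₀ : a₀ ≠ 0) (hb₀ : b₀ ≠ 0)
    (hu : uu a₀ ∈ H) (hl : ll b₀ ∈ H) (hπ3 : 3 ≤ Nat.card (addOf H)) :
    (∀ c ∈ ptsOf H, ∀ c' ∈ ptsOf H, c - c' ∈ addOf H) ∨
    (Nat.card (addOf H) = 3 ∧ Nat.card H = zc F * 60 ∧
      ∀ y ∈ H, y ∉ center (SpecialLinearGroup (Fin 2) F) →
        CD H 2 2 y ∨ CD H 3 2 y ∨ CD H 5 2 y) := by
  classical
  obtain ⟨D, hDpos, hDz⟩ := exists_scale F
  have hzpos := zc_pos F
  have hcz : Nat.card (center (SpecialLinearGroup (Fin 2) F)) = zc F := rfl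
  set z := zc F with hzdef
  set π := Nat.card (addOf H) with hπdef
  have hπpos : 0 < π := Nat.card_pos
  obtain ⟨k, hk1, hkπ, hBk⟩ := card_bor_fiber ha₀ hu
  rw [card_cenIn_uuZ hZ ha₀, ← hπdef, ← hzdef] at hBk
  have hBD := card_bor_diag H
  rw [← hπdef] at hBD
  have hDg : Nat.card (diagOf H) = z * k := by
    apply Nat.eq_of_mul_eq_mul_right hπpos
    rw [← hBD, hBk]; ring
  have hN := card_H_pts H
  obtain ⟨r, hΩ, hr1⟩ := card_pts H
  rw [← hπdef] at hΩ
  have hr : 1 ≤ r := by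
    have hmem : 1 / b₀ ∈ ptsOf H := ⟨ll b₀, hl, by simpa [ll] using hb₀, by simp [ll, hb₀]⟩
    have hpos : 0 < (ptsOf H).ncard := (Set.ncard_pos (Set.toFinite _)).2 ⟨_, hmem⟩
    rcases Nat.eq_zero_or_pos r with rfl | h
    · simp at hΩ; omega
    · exact h
  have hUP := card_Ucl_cenIn commTrans_SL2 H (uu_not_center ha₀)
  rw [norIn_cenIn_uu ha₀ hu, cenIn_inf_center hZ, hcz, card_cenIn_uuZ hZ ha₀, ← hπdef, ← hzdef]
    at hUP
  set UPs := Ucl H (cenIn H (uu a₀)) with hUPs
  set T0 : Set (SpecialLinearGroup (Fin 2) F) :=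
    (H : Set _) \ ((center (SpecialLinearGroup (Fin 2) F) : Set _) ∪ UPs) with hT0def
  have hHcard : (H : Set (SpecialLinearGroup (Fin 2) F)).ncard = Nat.card H :=
    (Nat.card_coe_set_eq _).symm
  have hT0card : T0.ncard + (z + UPs.ncard) = Nat.card H := by
    have hsub : ((center (SpecialLinearGroup (Fin 2) F) : Set _) ∪ UPs) ⊆ (H : Set _) :=
      Set.union_subset hZ (Ucl_subset (cenIn_le H _))
    have h1 := Set.ncard_sdiff_add_ncard_of_subset hsub (Set.toFinite _)
    have hdisj : Disjoint (center (SpecialLinearGroup (Fin 2) F) : Set _) UPs := by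
      rw [Set.disjoint_left]
      intro w hw hw'
      exact not_center_of_mem_Ucl hw' hw
    rw [Set.ncard_union_eq hdisj (Set.toFinite _) (Set.toFinite _), hHcard] at h1
    have h3 : ((center (SpecialLinearGroup (Fin 2) F) : Subgroup _) :
        Set (SpecialLinearGroup (Fin 2) F)).ncard = z := by
      exact ((Nat.card_coe_set_eq _).symm).trans hcz
    rw [h3] at h1
    exact h1
  have hT0sat : ∀ x ∈ T0, x ∈ H ∧ tr x ^ 2 ≠ 4 ∧ Ucl H (cenIn H x) ⊆ T0 := by
    rintro x ⟨hxH, hxn⟩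
    have hxc : x ∉ center (SpecialLinearGroup (Fin 2) F) := fun h => hxn (Or.inl h)
    have hxU : x ∉ UPs := fun h => hxn (Or.inr h)
    refine ⟨hxH, fun ht => hxU (parabolic_mem_Ucl p hZ ha₀ hu hxH hxc ht), ?_⟩
    intro w hw
    refine ⟨Ucl_subset (cenIn_le H _) hw, ?_⟩
    rintro (h | h)
    · exact not_center_of_mem_Ucl hw h
    · exact Set.disjoint_left.1
        (Ucl_cenIn_disjoint commTrans_SL2 (uu_not_center ha₀) hxc hxH hxU) hw h
  -- scaled quantities
  obtain ⟨hT0v, hNv⟩ := arithT0 (Bc := D * Nat.card (H ⊓ BorS F : Subgroup _)) (N := D * Nat.card H)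
    (Ω := (ptsOf H).ncard) (UP := D * UPs.ncard) (T0 := D * T0.ncard) hπ3 hk1
    (by rw [hBk, ← hDz]; ring) (by rw [hN]; ring) hΩ
    (by
      have e : 2 * π - 2 = D * (z * π - z) := by
        rw [Nat.mul_sub, ← mul_assoc, hDz]
      rw [e]
      calc D * UPs.ncard * (D * Nat.card (H ⊓ BorS F : Subgroup _))
          = D * D * (UPs.ncard * Nat.card (H ⊓ BorS F : Subgroup _)) := by ring
        _ = D * D * (Nat.card H * (z * π - z)) := by rw [hUP]
        _ = _ := by ring)
    (by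
      rw [← hT0card]
      have : D * (T0.ncard + (z + UPs.ncard)) = D * T0.ncard + (D * z + D * UPs.ncard) := by ring
      rw [this, hDz])
  by_cases hk : k = 1
  · -- the case k = 1
    left
    apply hr1
    subst hk
    simp only [Nat.sub_self, mul_zero, zero_add, mul_one] at hT0v hNv
    obtain ⟨x, -, c, hc, -, -, hcl⟩ := one_classZ H hZ T0 hT0sat
      (by
        have := arithP1 hπ3 hr
        rw [← hT0v] at this
        exact Nat.pos_of_mul_pos_left this |> fun h => by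
          rcases Nat.eq_zero_or_pos T0.ncard with h0 | h0
          · rw [h0] at this; simp at this
          · exact h0)
      (by
        have := arithP2 hπ3 hr (le_refl 1)
        rw [mul_one, ← hT0v, ← hNv] at this
        have h' : D * (2 * T0.ncard) < D * Nat.card H := by
          calc D * (2 * T0.ncard) = 2 * (D * T0.ncard) := by ring
            _ < _ := this
        exact Nat.lt_of_mul_lt_mul_left h')
    exact arithA hπ3 hr hc (arithC1 hπ3 hr hc hT0v hNv (scale_class hcl))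
  · have hk2 : 2 ≤ k := by omega
    obtain ⟨y₀, hy₀H, hy₀s, hy₀c⟩ := exists_torusZ H (by
      rw [hDg, ← hzdef]
      calc z = z * 1 := (mul_one z).symm
        _ < z * k := Nat.mul_lt_mul_of_pos_left (by omega) hzpos)
    rw [hDg] at hy₀c
    obtain ⟨cK, ε, hcK, hε, hcardK, hnorK, hUK⟩ := ss_classZ H hZ hy₀H hy₀s
    have hcKk : cK = k := by
      rw [hy₀c, ← hzdef] at hcardK
      exact (Nat.eq_of_mul_eq_mul_left hzpos hcardK).symm
    subst hcKk
    have hy₀c' : y₀ ∉ center (SpecialLinearGroup (Fin 2) F) :=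
      fun h => hy₀s (tr_sq_of_mem_center y₀ h)
    have hy₀T0 : y₀ ∈ T0 := by
      refine ⟨hy₀H, ?_⟩
      rintro (h | h)
      · exact hy₀c' h
      · exact hy₀s (tr_of_mem_Ucl_uu ha₀ h)
    set UKs := Ucl H (cenIn H y₀) with hUKs
    have hUKsub : UKs ⊆ T0 := (hT0sat y₀ hy₀T0).2.2
    set T1 : Set (SpecialLinearGroup (Fin 2) F) := T0 \ UKs with hT1def
    have hT1card : T1.ncard + UKs.ncard = T0.ncard :=
      Set.ncard_sdiff_add_ncard_of_subset hUKsub (Set.toFinite _)
    have hT1card' : D * T1.ncard + D * UKs.ncard = D * T0.ncard := by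
      rw [← hT1card]; ring
    have hT1sat : ∀ x ∈ T1, x ∈ H ∧ tr x ^ 2 ≠ 4 ∧ Ucl H (cenIn H x) ⊆ T1 := by
      rintro x ⟨hxT0, hxU⟩
      obtain ⟨hxH, hxs, hxsub⟩ := hT0sat x hxT0
      have hxc : x ∉ center (SpecialLinearGroup (Fin 2) F) :=
        fun h => hxs (tr_sq_of_mem_center x h)
      refine ⟨hxH, hxs, fun w hw => ⟨hxsub hw, fun h => ?_⟩⟩
      exact Set.disjoint_left.1 (Ucl_cenIn_disjoint commTrans_SL2 hy₀c' hxc hxH hxU) hw h
    have pos_of : ∀ {t v : ℕ}, D * t = v → 0 < v → 0 < t := by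
      intro t v h1 h2
      rcases Nat.eq_zero_or_pos t with h0 | h0
      · rw [h0] at h1; simp at h1; omega
      · exact h0
    have lt_of : ∀ {t v n : ℕ}, D * t = v → D * Nat.card H = n → 2 * v < n →
        2 * t < Nat.card H := by
      intro t v n h1 h2 h3
      rw [← h1, ← h2] at h3
      have h' : D * (2 * t) < D * Nat.card H := by
        calc D * (2 * t) = 2 * (D * t) := by ring
          _ < _ := h3
      exact Nat.lt_of_mul_lt_mul_left h'
    rcases hε with rfl | rfl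
    · exfalso
      have hT1v := arithUK1 hπ3 hk2 hT0v hNv (scale_class hUK) hT1card'
      obtain ⟨x, -, c, hc, -, -, hcl⟩ := one_classZ H hZ T1 hT1sat
        (pos_of hT1v (arithP1 hπ3 hr))
        (lt_of hT1v hNv (arithP2 hπ3 hr hk1))
      exact arithB1 hπ3 hr hc hk2 (arithC2 hπ3 hT1v hNv (scale_class hcl))
    · have hT1v := arithUK2 hπ3 hk2 hT0v hNv (scale_class hUK) hT1card'
      obtain ⟨x₁, hx₁T1, c, hc, hT1eq, hcard₁, hcl⟩ := one_classZ H hZ T1 hT1sat
        (pos_of hT1v (arithP3 hπ3 hr))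
        (lt_of hT1v hNv (arithP4 hπ3 hr hk2))
      rcases arithB2 hπ3 hr hk2 hkπ (arithC3 hπ3 hk2 hc hT1v hNv (scale_class hcl)) with
        h | ⟨e1, e2, e3, e4⟩
      · left; exact hr1 h
      · right
        refine ⟨e1, ?_, ?_⟩
        · rw [e1, e2, e3] at hNv
          apply Nat.eq_of_mul_eq_mul_left hDpos
          rw [hNv, ← mul_assoc, hDz]
          norm_num
        · obtain ⟨hx₁H, hx₁s, -⟩ := hT1sat x₁ hx₁T1
          have hx₁c : x₁ ∉ center (SpecialLinearGroup (Fin 2) F) :=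
            fun h => hx₁s (tr_sq_of_mem_center x₁ h)
          rw [hT1eq] at hcl
          have hCD₁ : CD H 5 2 x₁ := by
            rw [← e4]
            exact ⟨hcard₁, norIn_card_of_class H hZ hx₁H hx₁s hc hcard₁ hcl⟩
          have hCDy : CD H 2 2 y₀ := by
            rw [e2] at hcardK hnorK
            exact ⟨hcardK, hnorK⟩
          have hCDu : CD H 3 2 (uu a₀) := by
            refine ⟨by rw [card_cenIn_uuZ hZ ha₀, ← hπdef, e1], ?_⟩
            rw [norIn_cenIn_uu ha₀ hu, hBk, e1, e2]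
          intro y hy hyc
          by_cases hyU : y ∈ UPs
          · right; left; exact CD_of_mem_Ucl (uu_not_center ha₀) hCDu hyU
          · by_cases hyK : y ∈ UKs
            · left; exact CD_of_mem_Ucl hy₀c' hCDy hyK
            · right; right
              have hyT1 : y ∈ T1 := by
                refine ⟨⟨hy, ?_⟩, hyK⟩
                rintro (h | h)
                · exact hyc h
                · exact hyU h
              rw [hT1eq] at hyT1
              exact CD_of_mem_Ucl hx₁c hCD₁ hyT1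


theorem ar_pi2 {z N B Ω r U T0 : ℕ} (hz : 0 < z) (hB : B = 1 * (z * 2))
    (hN : N = B * (1 + Ω)) (hΩ : Ω = r * 2) (hU : U * B = N * (z * 2 - z))
    (hT : T0 + (z + U) = N) : T0 = 2 * z * r ∧ N = 2 * z * (1 + 2 * r) := by
  have e : z * 2 - z = z := by omega
  rw [e] at hU
  subst hB hΩ
  have hN' : N = 2 * z * (1 + 2 * r) := by rw [hN]; ring
  have hU' : U * 2 = N := by
    apply Nat.eq_of_mul_eq_mul_left hz
    calc z * (U * 2) = U * (1 * (z * 2)) := by ring
      _ = N * z := hU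
      _ = z * N := by ring
  refine ⟨?_, hN'⟩
  have h3 : 2 * z * (1 + 2 * r) = 2 * z + 4 * (z * r) := by ring
  have h4 : 2 * z * r = 2 * (z * r) := by ring
  rw [h4]
  omega

theorem ar_pi2' {z r c T0 N : ℕ} (hz : 0 < z) (hc : 2 ≤ c) (hT : T0 = 2 * z * r)
    (hN : N = 2 * z * (1 + 2 * r)) (hcl : T0 * (2 * c) = N * (c - 1)) : N = 2 * (z * c) := by
  obtain ⟨e, rfl⟩ : ∃ e, c = e + 1 := ⟨c - 1, by omega⟩
  rw [Nat.add_sub_cancel, hT, hN] at hcl
  have h1 : 2 * r * (e + 1) = (1 + 2 * r) * e := by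
    apply Nat.eq_of_mul_eq_mul_left (show 0 < 2 * z by omega)
    calc 2 * z * (2 * r * (e + 1)) = 2 * z * r * (2 * (e + 1)) := by ring
      _ = 2 * z * (1 + 2 * r) * e := hcl
      _ = _ := by ring
  have h2 : e = 2 * r := by nlinarith
  rw [hN, h2]; ring

set_option maxHeartbeats 1000000 in
/-- a non-normal Sylow subgroup of order two: the group normalises a torus -/
theorem analysis_two (p : ℕ) [Fact p.Prime] [CharP F p]
    (H : Subgroup (SpecialLinearGroup (Fin 2) F))
    (hZ : center (SpecialLinearGroup (Fin 2) F) ≤ H) {a₀ b₀ : F} (ha₀ : a₀ ≠ 0) (hb₀ : b₀ ≠ 0)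
    (hu : uu a₀ ∈ H) (hl : ll b₀ ∈ H) (hπ2 : Nat.card (addOf H) = 2) :
    ∃ x ∈ H, tr x ^ 2 ≠ 4 ∧ Nat.card (norIn H (cenIn H x)) = Nat.card H := by
  classical
  have hzpos := zc_pos F
  have hcz : Nat.card (center (SpecialLinearGroup (Fin 2) F)) = zc F := rfl
  set z := zc F with hzdef
  obtain ⟨k, hk1, hkπ, hBk⟩ := card_bor_fiber ha₀ hu
  rw [card_cenIn_uuZ hZ ha₀, hπ2, ← hzdef] at hBk
  rw [hπ2] at hkπ
  have hk : k = 1 := by omega
  subst hk
  have hN := card_H_pts H
  obtain ⟨r, hΩ, -⟩ := card_pts H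
  rw [hπ2] at hΩ
  have hr : 1 ≤ r := by
    have hmem : 1 / b₀ ∈ ptsOf H := ⟨ll b₀, hl, by simpa [ll] using hb₀, by simp [ll, hb₀]⟩
    have hpos : 0 < (ptsOf H).ncard := (Set.ncard_pos (Set.toFinite _)).2 ⟨_, hmem⟩
    rcases Nat.eq_zero_or_pos r with rfl | h
    · simp at hΩ; omega
    · exact h
  have hUP := card_Ucl_cenIn commTrans_SL2 H (uu_not_center ha₀)
  rw [norIn_cenIn_uu ha₀ hu, cenIn_inf_center hZ, hcz, card_cenIn_uuZ hZ ha₀, hπ2, ← hzdef]
    at hUP
  set UPs := Ucl H (cenIn H (uu a₀)) with hUPs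
  set T0 : Set (SpecialLinearGroup (Fin 2) F) :=
    (H : Set _) \ ((center (SpecialLinearGroup (Fin 2) F) : Set _) ∪ UPs) with hT0def
  have hHcard : (H : Set (SpecialLinearGroup (Fin 2) F)).ncard = Nat.card H :=
    (Nat.card_coe_set_eq _).symm
  have hT0card : T0.ncard + (z + UPs.ncard) = Nat.card H := by
    have hsub : ((center (SpecialLinearGroup (Fin 2) F) : Set _) ∪ UPs) ⊆ (H : Set _) :=
      Set.union_subset hZ (Ucl_subset (cenIn_le H _))
    have h1 := Set.ncard_sdiff_add_ncard_of_subset hsub (Set.toFinite _)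
    have hdisj : Disjoint (center (SpecialLinearGroup (Fin 2) F) : Set _) UPs := by
      rw [Set.disjoint_left]
      intro w hw hw'
      exact not_center_of_mem_Ucl hw' hw
    rw [Set.ncard_union_eq hdisj (Set.toFinite _) (Set.toFinite _), hHcard] at h1
    have h3 : ((center (SpecialLinearGroup (Fin 2) F) : Subgroup _) :
        Set (SpecialLinearGroup (Fin 2) F)).ncard = z := by
      exact ((Nat.card_coe_set_eq _).symm).trans hcz
    rw [h3] at h1
    exact h1
  have hT0sat : ∀ x ∈ T0, x ∈ H ∧ tr x ^ 2 ≠ 4 ∧ Ucl H (cenIn H x) ⊆ T0 := by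
    rintro x ⟨hxH, hxn⟩
    have hxc : x ∉ center (SpecialLinearGroup (Fin 2) F) := fun h => hxn (Or.inl h)
    have hxU : x ∉ UPs := fun h => hxn (Or.inr h)
    refine ⟨hxH, fun ht => hxU (parabolic_mem_Ucl p hZ ha₀ hu hxH hxc ht), ?_⟩
    intro w hw
    refine ⟨Ucl_subset (cenIn_le H _) hw, ?_⟩
    rintro (h | h)
    · exact not_center_of_mem_Ucl hw h
    · exact Set.disjoint_left.1
        (Ucl_cenIn_disjoint commTrans_SL2 (uu_not_center ha₀) hxc hxH hxU) hw h
  obtain ⟨hT0v, hNv⟩ := ar_pi2 hzpos hBk hN hΩ hUP hT0card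
  have hzr : 0 < z * r := Nat.mul_pos hzpos hr
  obtain ⟨x, hxT, c, hc, hTeq, hcard, hcl⟩ := one_classZ H hZ T0 hT0sat
    (by rw [hT0v]; have : 2 * z * r = 2 * (z * r) := by ring
        omega)
    (by rw [hT0v, hNv]
        have e1 : 2 * (2 * z * r) = 4 * (z * r) := by ring
        have e2 : 2 * z * (1 + 2 * r) = 2 * z + 4 * (z * r) := by ring
        omega)
  obtain ⟨hxH, hxs, -⟩ := hT0sat x hxT
  refine ⟨x, hxH, hxs, ?_⟩
  have hN2 := ar_pi2' hzpos hc hT0v hNv hcl
  rw [hTeq] at hcl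
  rw [norIn_card_of_class H hZ hxH hxs hc hcard hcl, hN2]

end Cfsg.Agent.Lib.Helper7
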