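import Mathlib
import Cfsg.Agent.Lib.Helper7.SL2KeyZ2
import Cfsg.Agent.Lib.Helper7.SL2Key

set_option autoImplicit false
set_option linter.unusedSimpArgs false
set_option linter.unusedSectionVars false
set_option linter.unusedVariables false

/-! **Dickson's theorem** for subgroups of `SL₂(q)` containing the centre, in every characteristic. -/

namespace Cfsg.Agent.Lib.Helper7

open Matrix Subgroup Cfsg.Agent.Lib.Helper46 Cfsg.Agent.Lib.Helper18.SL2

section general

variable {G : Type*} [Group G]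

theorem cenIn_map (φ : G ≃* G) (H : Subgroup G) (y : G) :
    cenIn (H.map φ.toMonoidHom) (φ y) = (cenIn H y).map φ.toMonoidHom := by
  ext w
  rw [Subgroup.mem_map_equiv, mem_cenIn, mem_cenIn, Subgroup.mem_map_equiv]
  refine and_congr Iff.rfl ?_
  constructor
  · intro h
    have := h.map φ.symm
    simpa using this
  · intro h
    have := h.map φ
    simpa using this

theorem norIn_map (φ : G ≃* G) (H A : Subgroup G) :
    norIn (H.map φ.toMonoidHom) (A.map φ.toMonoidHom) = (norIn H A).map φ.toMonoidHom := by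
  ext g
  rw [Subgroup.mem_map_equiv, mem_norIn, mem_norIn, Subgroup.mem_map_equiv]
  refine and_congr Iff.rfl ?_
  constructor
  · intro h v
    have := h (φ v)
    rw [Subgroup.mem_map_equiv, Subgroup.mem_map_equiv] at this
    simpa using this
  · intro h w
    rw [Subgroup.mem_map_equiv, Subgroup.mem_map_equiv]
    have := h (φ.symm w)
    simpa using this

end general

variable {F : Type*} [Field F] [Fintype F]

theorem CD_map (φ : SpecialLinearGroup (Fin 2) F ≃* SpecialLinearGroup (Fin 2) F)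
    (H : Subgroup (SpecialLinearGroup (Fin 2) F)) (c ε : ℕ) (y : SpecialLinearGroup (Fin 2) F)
    (h : CD (H.map φ.toMonoidHom) c ε (φ y)) : CD H c ε y := by
  obtain ⟨h1, h2⟩ := h
  rw [cenIn_map] at h1 h2
  rw [norIn_map] at h2
  rw [Subgroup.card_map_of_injective φ.injective] at h1 h2
  exact ⟨h1, h2⟩

/-- the exceptional subgroups, with their class data -/
def Exc (G : Subgroup (SpecialLinearGroup (Fin 2) F)) : Prop :=
  (Nat.card G = zc F * 12 ∧ ∀ y ∈ G, y ∉ center (SpecialLinearGroup (Fin 2) F) →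
      CD G 2 2 y ∨ CD G 3 1 y) ∨
  (Nat.card G = zc F * 24 ∧ ∀ y ∈ G, y ∉ center (SpecialLinearGroup (Fin 2) F) →
      CD G 2 2 y ∨ CD G 3 2 y ∨ CD G 4 2 y) ∨
  (Nat.card G = zc F * 60 ∧ ∀ y ∈ G, y ∉ center (SpecialLinearGroup (Fin 2) F) →
      CD G 2 2 y ∨ CD G 3 2 y ∨ CD G 5 2 y)

/-- `G` normalises the torus of the semisimple element `x` -/
def Tor (G : Subgroup (SpecialLinearGroup (Fin 2) F)) : Prop :=
  ∃ x ∈ G, tr x ^ 2 ≠ 4 ∧ ∀ h ∈ G, Commute h x ∨ h * x * h⁻¹ = x⁻¹

theorem Tor_of_card {G : Subgroup (SpecialLinearGroup (Fin 2) F)}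
    (h : ∃ x ∈ G, tr x ^ 2 ≠ 4 ∧ Nat.card (norIn G (cenIn G x)) = Nat.card G) : Tor G := by
  obtain ⟨x, hx, hs, hn⟩ := h
  refine ⟨x, hx, hs, fun h hh => ?_⟩
  have he : norIn G (cenIn G x) = G := eq_of_le_of_card_ge (norIn_le _ _) hn.ge
  rcases norIn_cen_or_inv G hx hs (he ▸ hh) with h1 | h1
  · left; exact (mem_cenIn.1 h1).2
  · right; exact h1

theorem Tor_conj {G : Subgroup (SpecialLinearGroup (Fin 2) F)} (g : SpecialLinearGroup (Fin 2) F)
    (h : Tor (G.map (MulAut.conj g).toMonoidHom)) : Tor G := by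
  obtain ⟨x', hx', hs, hall⟩ := h
  obtain ⟨x, hx, rfl⟩ := hx'
  simp only [MulEquiv.coe_toMonoidHom, MulAut.conj_apply] at hs hall
  rw [tr_conj] at hs
  refine ⟨x, hx, hs, fun h hh => ?_⟩
  rcases hall (g * h * g⁻¹) ⟨h, hh, by simp⟩ with h1 | h1
  · left
    have h2 : g * h * g⁻¹ * (g * x * g⁻¹) = g * x * g⁻¹ * (g * h * g⁻¹) := h1
    have h4 : g * (h * x) * g⁻¹ = g * (x * h) * g⁻¹ := by
      simpa [mul_assoc] using h2
    exact mul_left_cancel (mul_right_cancel h4)
  · right
    have h4 : g * (h * x * h⁻¹) * g⁻¹ = g * x⁻¹ * g⁻¹ := by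
      simpa [mul_assoc] using h1
    exact mul_left_cancel (mul_right_cancel h4)

theorem Exc_conj {G : Subgroup (SpecialLinearGroup (Fin 2) F)} (g : SpecialLinearGroup (Fin 2) F)
    (h : Exc (G.map (MulAut.conj g).toMonoidHom)) : Exc G := by
  have hmem : ∀ y ∈ G, MulAut.conj g y ∈ G.map (MulAut.conj g).toMonoidHom :=
    fun y hy => ⟨y, hy, rfl⟩
  have hnc : ∀ y, y ∉ center (SpecialLinearGroup (Fin 2) F) →
      MulAut.conj g y ∉ center (SpecialLinearGroup (Fin 2) F) := by
    intro y hy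
    rw [MulAut.conj_apply]
    exact (conj_mem_center_iff g y).not.2 hy
  rw [Exc, card_map_conj] at h
  rcases h with ⟨h1, h2⟩ | ⟨h1, h2⟩ | ⟨h1, h2⟩
  · left
    refine ⟨h1, fun y hy hyc => ?_⟩
    rcases h2 _ (hmem y hy) (hnc y hyc) with h | h
    · left; exact CD_map _ _ _ _ _ h
    · right; exact CD_map _ _ _ _ _ h
  · right; left
    refine ⟨h1, fun y hy hyc => ?_⟩
    rcases h2 _ (hmem y hy) (hnc y hyc) with h | h | h
    · left; exact CD_map _ _ _ _ _ h
    · right; left; exact CD_map _ _ _ _ _ h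
    · right; right; exact CD_map _ _ _ _ _ h
  · right; right
    refine ⟨h1, fun y hy hyc => ?_⟩
    rcases h2 _ (hmem y hy) (hnc y hyc) with h | h | h
    · left; exact CD_map _ _ _ _ _ h
    · right; left; exact CD_map _ _ _ _ _ h
    · right; right; exact CD_map _ _ _ _ _ h

omit [Fintype F] in
theorem tr_uu_conj (a : F) (w : SpecialLinearGroup (Fin 2) F) :
    tr (uu a * (w * uu a * w⁻¹)) = 2 - a ^ 2 * (w.1 1 0) ^ 2 := by
  rw [tr_uu_mul, tr_conj, tr_uu]
  simp only [mul_10, mul_11, mul_00, mul_01, inv_00, inv_01, inv_10, inv_11, uu, mk2_00, mk2_01,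
    mk2_10, mk2_11]
  ring

/-- **Dickson's theorem** for subgroups of `SL₂(q)` containing the centre. -/
theorem dickson_full (p : ℕ) [Fact p.Prime] [CharP F p]
    (G : Subgroup (SpecialLinearGroup (Fin 2) F))
    (hZ : center (SpecialLinearGroup (Fin 2) F) ≤ G) :
    (∃ g : SpecialLinearGroup (Fin 2) F, ∀ x ∈ G, (g * x * g⁻¹).1 1 0 = 0) ∨
    Tor G ∨ Exc G ∨ (∃ (K : Subfield F) (D : GL (Fin 2) F), InSub K D G) := by
  by_cases hss : ∀ x ∈ G, x ∉ center (SpecialLinearGroup (Fin 2) F) → tr x ^ 2 ≠ 4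
  · rcases pprime_analysis G hZ hss with h | h | h | h | h
    · left
      refine ⟨1, fun x hx => ?_⟩
      rw [h] at hx
      simpa using ((mem_center_iff2 x).1 hx).2.1
    · right; left; exact Tor_of_card h
    · right; right; left; left; exact h
    · right; right; left; right; left; exact h
    · right; right; left; right; right; exact h
  push Not at hss
  obtain ⟨x, hxG, hxc, hxt⟩ := hss
  -- a unipotent element
  obtain ⟨u, huG, huc, hut⟩ : ∃ u ∈ G, u ∉ center (SpecialLinearGroup (Fin 2) F) ∧ tr u = 2 := by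
    have h' : (tr x - 2) * (tr x + 2) = 0 := by linear_combination hxt
    rcases mul_eq_zero.1 h' with h1 | h1
    · exact ⟨x, hxG, hxc, by linear_combination h1⟩
    · refine ⟨negOne * x, G.mul_mem (hZ negOne_mem_center) hxG, ?_, ?_⟩
      · intro h
        apply hxc
        have := (center _).mul_mem ((center _).inv_mem negOne_mem_center) h
        simpa using this
      · rw [tr_negOne_mul]; linear_combination -h1
  by_cases hfix : ∀ h ∈ G, tr (u * (h * u * h⁻¹)) = 2
  · left
    obtain ⟨g, a, hg⟩ := exists_conj_uu hut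
    have ha : a ≠ 0 := by
      rintro rfl
      rw [uu_zero] at hg
      apply huc
      have : u = 1 := by
        have := congrArg (fun w => g⁻¹ * w * g) hg
        simpa [mul_assoc] using this
      rw [this]; exact one_mem _
    refine ⟨g, fun w hw => ?_⟩
    have h1 := tr_uu_conj a (g * w * g⁻¹)
    have h2 : uu a * (g * w * g⁻¹ * uu a * (g * w * g⁻¹)⁻¹) = g * (u * (w * u * w⁻¹)) * g⁻¹ := by
      rw [← hg]; group
    rw [h2, tr_conj, hfix w hw] at h1
    have h3 : (a * (g * w * g⁻¹).1 1 0) ^ 2 = 0 := by linear_combination h1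
    have h4 := pow_eq_zero_iff (two_ne_zero) |>.1 h3
    exact (mul_eq_zero.1 h4).resolve_left ha
  push Not at hfix
  obtain ⟨h, hhG, hne⟩ := hfix
  obtain ⟨g, a, b, hga, hgb, hab⟩ := exists_conj_uu_ll hut (by rw [tr_conj]; exact hut) hne
  have hab0 : a * b ≠ 0 := by
    rw [hab]; exact sub_ne_zero.2 hne
  have ha : a ≠ 0 := left_ne_zero_of_mul hab0
  have hb : b ≠ 0 := right_ne_zero_of_mul hab0
  set G' := G.map (MulAut.conj g).toMonoidHom with hG'
  have hZ' : center (SpecialLinearGroup (Fin 2) F) ≤ G' := by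
    intro w hw
    refine ⟨w, hZ hw, ?_⟩
    simp only [MulEquiv.coe_toMonoidHom, MulAut.conj_apply]
    rw [mem_center_iff.1 hw g]; group
  have hu' : uu a ∈ G' := ⟨u, huG, by simpa using hga⟩
  have hl' : ll b ∈ G' := ⟨h * u * h⁻¹, G.mul_mem (G.mul_mem hhG huG) (G.inv_mem hhG), by
    simpa using hgb⟩
  have hπ : 2 ≤ Nat.card (addOf G') := by
    have : Nontrivial (addOf G') := ⟨⟨⟨a, hu'⟩, 0, fun h => ha (congrArg Subtype.val h)⟩⟩
    exact Finite.one_lt_card
  rcases Nat.lt_or_ge (Nat.card (addOf G')) 3 with h3 | h3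
  · right; left
    exact Tor_conj g (Tor_of_card (analysis_two p G' hZ' ha hb hu' hl' (by omega)))
  · have h0 := zero_mem_ptsOf p G' ha hb hu' hl'
    rcases main_analysisZ' p G' hZ' ha hb hu' hl' h3 with hh | ⟨-, h60, hdata⟩
    · right; right; right
      have hN : Normalized G' := by
        refine ⟨⟨b, hb, hl'⟩, fun w hw => ?_⟩
        by_cases w10 : w.1 1 0 = 0
        · left; exact w10
        · right
          have hm : w.1 0 0 / w.1 1 0 ∈ ptsOf G' := ⟨w, hw, w10, by field_simp⟩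
          have := hh _ hm _ h0
          rwa [sub_zero] at this
      obtain ⟨K, c, hc, -, hIn⟩ := hN.main
      exact ⟨K, _, InSub.conj g hIn⟩
    · right; right; left
      exact Exc_conj g (Or.inr (Or.inr ⟨h60, hdata⟩))

end Cfsg.Agent.Lib.Helper7
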