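import Mathlib
import Cfsg.Agent.Lib.Helper7.SL2Full

set_option autoImplicit false
set_option linter.unusedSimpArgs false
set_option linter.unusedSectionVars false
set_option linter.unusedVariables false

/-! Complements to Dickson's theorem: semisimple elements are inverted; the subfield in the last
case has at least three elements. -/

namespace Cfsg.Agent.Lib.Helper7

open Matrix Subgroup Cfsg.Agent.Lib.Helper46 Cfsg.Agent.Lib.Helper18.SL2

variable {F : Type*} [Field F] [Fintype F]

set_option maxHeartbeats 1000000 in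
/-- every semisimple element is inverted -/
theorem all_inverted (p : ℕ) [Fact p.Prime] [CharP F p]
    (H : Subgroup (SpecialLinearGroup (Fin 2) F))
    (hZ : center (SpecialLinearGroup (Fin 2) F) ≤ H) {a₀ b₀ : F} (ha₀ : a₀ ≠ 0) (hb₀ : b₀ ≠ 0)
    (hu : uu a₀ ∈ H) (hl : ll b₀ ∈ H) (hπ3 : 3 ≤ Nat.card (addOf H)) :
    ∀ y ∈ H, tr y ^ 2 ≠ 4 → Nat.card (norIn H (cenIn H y)) = 2 * Nat.card (cenIn H y) := by
  classical
  obtain ⟨D, hDpos, hDz⟩ := exists_scale F
  have hzpos := zc_pos F
  have hcz : Nat.card (center (SpecialLinearGroup (Fin 2) F)) = zc F := rfl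
  set z := zc F with hzdef
  set π := Nat.card (addOf H) with hπdef
  have hπpos : 0 < π := Nat.card_pos
  obtain ⟨k, hk1, hkπ, hBk⟩ := card_bor_fiber ha₀ hu
  rw [card_cenIn_uuZ hZ ha₀, ← hπdef, ← hzdef] at hBk
  have hBD := card_bor_diag H
  rw [← hπdef] at hBD
  have hDg : Nat.card (diagOf H) = z * k := by
    apply Nat.eq_of_mul_eq_mul_right hπpos
    rw [← hBD, hBk]; ring
  have hN := card_H_pts H
  obtain ⟨r, hΩ, hr1⟩ := card_pts H
  rw [← hπdef] at hΩ
  have hr : 1 ≤ r := by
    have hmem : 1 / b₀ ∈ ptsOf H := ⟨ll b₀, hl, by simpa [ll] using hb₀, by simp [ll, hb₀]⟩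
    have hpos : 0 < (ptsOf H).ncard := (Set.ncard_pos (Set.toFinite _)).2 ⟨_, hmem⟩
    rcases Nat.eq_zero_or_pos r with rfl | h
    · simp at hΩ; omega
    · exact h
  have hUP := card_Ucl_cenIn commTrans_SL2 H (uu_not_center ha₀)
  rw [norIn_cenIn_uu ha₀ hu, cenIn_inf_center hZ, hcz, card_cenIn_uuZ hZ ha₀, ← hπdef, ← hzdef]
    at hUP
  set UPs := Ucl H (cenIn H (uu a₀)) with hUPs
  set T0 : Set (SpecialLinearGroup (Fin 2) F) :=
    (H : Set _) \ ((center (SpecialLinearGroup (Fin 2) F) : Set _) ∪ UPs) with hT0def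
  have hHcard : (H : Set (SpecialLinearGroup (Fin 2) F)).ncard = Nat.card H :=
    (Nat.card_coe_set_eq _).symm
  have hT0card : T0.ncard + (z + UPs.ncard) = Nat.card H := by
    have hsub : ((center (SpecialLinearGroup (Fin 2) F) : Set _) ∪ UPs) ⊆ (H : Set _) :=
      Set.union_subset hZ (Ucl_subset (cenIn_le H _))
    have h1 := Set.ncard_sdiff_add_ncard_of_subset hsub (Set.toFinite _)
    have hdisj : Disjoint (center (SpecialLinearGroup (Fin 2) F) : Set _) UPs := by
      rw [Set.disjoint_left]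
      intro w hw hw'
      exact not_center_of_mem_Ucl hw' hw
    rw [Set.ncard_union_eq hdisj (Set.toFinite _) (Set.toFinite _), hHcard] at h1
    have h3 : ((center (SpecialLinearGroup (Fin 2) F) : Subgroup _) :
        Set (SpecialLinearGroup (Fin 2) F)).ncard = z := by
      exact ((Nat.card_coe_set_eq _).symm).trans hcz
    rw [h3] at h1
    exact h1
  have hT0sat : ∀ x ∈ T0, x ∈ H ∧ tr x ^ 2 ≠ 4 ∧ Ucl H (cenIn H x) ⊆ T0 := by
    rintro x ⟨hxH, hxn⟩
    have hxc : x ∉ center (SpecialLinearGroup (Fin 2) F) := fun h => hxn (Or.inl h)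
    have hxU : x ∉ UPs := fun h => hxn (Or.inr h)
    refine ⟨hxH, fun ht => hxU (parabolic_mem_Ucl p hZ ha₀ hu hxH hxc ht), ?_⟩
    intro w hw
    refine ⟨Ucl_subset (cenIn_le H _) hw, ?_⟩
    rintro (h | h)
    · exact not_center_of_mem_Ucl hw h
    · exact Set.disjoint_left.1
        (Ucl_cenIn_disjoint commTrans_SL2 (uu_not_center ha₀) hxc hxH hxU) hw h
  -- scaled quantities
  obtain ⟨hT0v, hNv⟩ := arithT0 (Bc := D * Nat.card (H ⊓ BorS F : Subgroup _)) (N := D * Nat.card H)
    (Ω := (ptsOf H).ncard) (UP := D * UPs.ncard) (T0 := D * T0.ncard) hπ3 hk1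
    (by rw [hBk, ← hDz]; ring) (by rw [hN]; ring) hΩ
    (by
      have e : 2 * π - 2 = D * (z * π - z) := by
        rw [Nat.mul_sub, ← mul_assoc, hDz]
      rw [e]
      calc D * UPs.ncard * (D * Nat.card (H ⊓ BorS F : Subgroup _))
          = D * D * (UPs.ncard * Nat.card (H ⊓ BorS F : Subgroup _)) := by ring
        _ = D * D * (Nat.card H * (z * π - z)) := by rw [hUP]
        _ = _ := by ring)
    (by
      rw [← hT0card]
      have : D * (T0.ncard + (z + UPs.ncard)) = D * T0.ncard + (D * z + D * UPs.ncard) := by ring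
      rw [this, hDz])
  by_cases hk : k = 1
  · -- the case k = 1
    subst hk
    simp only [Nat.sub_self, mul_zero, zero_add, mul_one] at hT0v hNv
    obtain ⟨x, hxT, c, hc, hTeq, hcard, hcl⟩ := one_classZ H hZ T0 hT0sat
      (by
        have := arithP1 hπ3 hr
        rw [← hT0v] at this
        exact Nat.pos_of_mul_pos_left this |> fun h => by
          rcases Nat.eq_zero_or_pos T0.ncard with h0 | h0
          · rw [h0] at this; simp at this
          · exact h0)
      (by
        have := arithP2 hπ3 hr (le_refl 1)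
        rw [mul_one, ← hT0v, ← hNv] at this
        have h' : D * (2 * T0.ncard) < D * Nat.card H := by
          calc D * (2 * T0.ncard) = 2 * (D * T0.ncard) := by ring
            _ < _ := this
        exact Nat.lt_of_mul_lt_mul_left h')
    obtain ⟨hxH, hxs, -⟩ := hT0sat x hxT
    have hxc : x ∉ center (SpecialLinearGroup (Fin 2) F) :=
      fun h => hxs (tr_sq_of_mem_center x h)
    rw [hTeq] at hcl
    have hn := norIn_card_of_class H hZ hxH hxs hc hcard hcl
    intro y hy hys
    have hyT : y ∈ T0 := by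
      refine ⟨hy, ?_⟩
      rintro (h | h)
      · exact hys (tr_sq_of_mem_center y h)
      · exact hys (tr_of_mem_Ucl_uu ha₀ h)
    rw [hTeq] at hyT
    obtain ⟨e1, e2⟩ := card_of_mem_Ucl commTrans_SL2 hxc hyT
    rw [e1, e2, hn, hcard]
  · have hk2 : 2 ≤ k := by omega
    obtain ⟨y₀, hy₀H, hy₀s, hy₀c⟩ := exists_torusZ H (by
      rw [hDg, ← hzdef]
      calc z = z * 1 := (mul_one z).symm
        _ < z * k := Nat.mul_lt_mul_of_pos_left (by omega) hzpos)
    rw [hDg] at hy₀c
    obtain ⟨cK, ε, hcK, hε, hcardK, hnorK, hUK⟩ := ss_classZ H hZ hy₀H hy₀s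
    have hcKk : cK = k := by
      rw [hy₀c, ← hzdef] at hcardK
      exact (Nat.eq_of_mul_eq_mul_left hzpos hcardK).symm
    subst hcKk
    have hy₀c' : y₀ ∉ center (SpecialLinearGroup (Fin 2) F) :=
      fun h => hy₀s (tr_sq_of_mem_center y₀ h)
    have hy₀T0 : y₀ ∈ T0 := by
      refine ⟨hy₀H, ?_⟩
      rintro (h | h)
      · exact hy₀c' h
      · exact hy₀s (tr_of_mem_Ucl_uu ha₀ h)
    set UKs := Ucl H (cenIn H y₀) with hUKs
    have hUKsub : UKs ⊆ T0 := (hT0sat y₀ hy₀T0).2.2
    set T1 : Set (SpecialLinearGroup (Fin 2) F) := T0 \ UKs with hT1def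
    have hT1card : T1.ncard + UKs.ncard = T0.ncard :=
      Set.ncard_sdiff_add_ncard_of_subset hUKsub (Set.toFinite _)
    have hT1card' : D * T1.ncard + D * UKs.ncard = D * T0.ncard := by
      rw [← hT1card]; ring
    have hT1sat : ∀ x ∈ T1, x ∈ H ∧ tr x ^ 2 ≠ 4 ∧ Ucl H (cenIn H x) ⊆ T1 := by
      rintro x ⟨hxT0, hxU⟩
      obtain ⟨hxH, hxs, hxsub⟩ := hT0sat x hxT0
      have hxc : x ∉ center (SpecialLinearGroup (Fin 2) F) :=
        fun h => hxs (tr_sq_of_mem_center x h)
      refine ⟨hxH, hxs, fun w hw => ⟨hxsub hw, fun h => ?_⟩⟩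
      exact Set.disjoint_left.1 (Ucl_cenIn_disjoint commTrans_SL2 hy₀c' hxc hxH hxU) hw h
    have pos_of : ∀ {t v : ℕ}, D * t = v → 0 < v → 0 < t := by
      intro t v h1 h2
      rcases Nat.eq_zero_or_pos t with h0 | h0
      · rw [h0] at h1; simp at h1; omega
      · exact h0
    have lt_of : ∀ {t v n : ℕ}, D * t = v → D * Nat.card H = n → 2 * v < n →
        2 * t < Nat.card H := by
      intro t v n h1 h2 h3
      rw [← h1, ← h2] at h3
      have h' : D * (2 * t) < D * Nat.card H := by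
        calc D * (2 * t) = 2 * (D * t) := by ring
          _ < _ := h3
      exact Nat.lt_of_mul_lt_mul_left h'
    rcases hε with rfl | rfl
    · exfalso
      have hT1v := arithUK1 hπ3 hk2 hT0v hNv (scale_class hUK) hT1card'
      obtain ⟨x, -, c, hc, -, -, hcl⟩ := one_classZ H hZ T1 hT1sat
        (pos_of hT1v (arithP1 hπ3 hr))
        (lt_of hT1v hNv (arithP2 hπ3 hr hk1))
      exact arithB1 hπ3 hr hc hk2 (arithC2 hπ3 hT1v hNv (scale_class hcl))
    · have hT1v := arithUK2 hπ3 hk2 hT0v hNv (scale_class hUK) hT1card'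
      obtain ⟨x₁, hx₁T1, c, hc, hT1eq, hcard₁, hcl⟩ := one_classZ H hZ T1 hT1sat
        (pos_of hT1v (arithP3 hπ3 hr))
        (lt_of hT1v hNv (arithP4 hπ3 hr hk2))
      obtain ⟨hx₁H, hx₁s, -⟩ := hT1sat x₁ hx₁T1
      have hx₁c : x₁ ∉ center (SpecialLinearGroup (Fin 2) F) :=
        fun h => hx₁s (tr_sq_of_mem_center x₁ h)
      rw [hT1eq] at hcl
      have hn := norIn_card_of_class H hZ hx₁H hx₁s hc hcard₁ hcl
      intro y hy hys
      by_cases hyK : y ∈ UKs
      · obtain ⟨e1, e2⟩ := card_of_mem_Ucl commTrans_SL2 hy₀c' hyK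
        rw [e1, e2, hnorK, hcardK]
      · have hyT1 : y ∈ T1 := by
          refine ⟨⟨hy, ?_⟩, hyK⟩
          rintro (h | h)
          · exact hys (tr_sq_of_mem_center y h)
          · exact hys (tr_of_mem_Ucl_uu ha₀ h)
        rw [hT1eq] at hyT1
        obtain ⟨e1, e2⟩ := card_of_mem_Ucl commTrans_SL2 hx₁c hyT1
        rw [e1, e2, hn, hcard₁]

/-- **Dickson's theorem** for subgroups of `SL₂(q)` containing the centre. -/
theorem dickson_full' (p : ℕ) [Fact p.Prime] [CharP F p]
    (G : Subgroup (SpecialLinearGroup (Fin 2) F))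
    (hZ : center (SpecialLinearGroup (Fin 2) F) ≤ G) :
    (∃ g : SpecialLinearGroup (Fin 2) F, ∀ x ∈ G, (g * x * g⁻¹).1 1 0 = 0) ∨
    Tor G ∨ Exc G ∨ (∃ (K : Subfield F) (D : GL (Fin 2) F), InSub K D G ∧ 3 ≤ Nat.card K) := by
  by_cases hss : ∀ x ∈ G, x ∉ center (SpecialLinearGroup (Fin 2) F) → tr x ^ 2 ≠ 4
  · rcases pprime_analysis G hZ hss with h | h | h | h | h
    · left
      refine ⟨1, fun x hx => ?_⟩
      rw [h] at hx
      simpa using ((mem_center_iff2 x).1 hx).2.1
    · right; left; exact Tor_of_card h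
    · right; right; left; left; exact h
    · right; right; left; right; left; exact h
    · right; right; left; right; right; exact h
  push Not at hss
  obtain ⟨x, hxG, hxc, hxt⟩ := hss
  -- a unipotent element
  obtain ⟨u, huG, huc, hut⟩ : ∃ u ∈ G, u ∉ center (SpecialLinearGroup (Fin 2) F) ∧ tr u = 2 := by
    have h' : (tr x - 2) * (tr x + 2) = 0 := by linear_combination hxt
    rcases mul_eq_zero.1 h' with h1 | h1
    · exact ⟨x, hxG, hxc, by linear_combination h1⟩
    · refine ⟨negOne * x, G.mul_mem (hZ negOne_mem_center) hxG, ?_, ?_⟩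
      · intro h
        apply hxc
        have := (center _).mul_mem ((center _).inv_mem negOne_mem_center) h
        simpa using this
      · rw [tr_negOne_mul]; linear_combination -h1
  by_cases hfix : ∀ h ∈ G, tr (u * (h * u * h⁻¹)) = 2
  · left
    obtain ⟨g, a, hg⟩ := exists_conj_uu hut
    have ha : a ≠ 0 := by
      rintro rfl
      rw [uu_zero] at hg
      apply huc
      have : u = 1 := by
        have := congrArg (fun w => g⁻¹ * w * g) hg
        simpa [mul_assoc] using this
      rw [this]; exact one_mem _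
    refine ⟨g, fun w hw => ?_⟩
    have h1 := tr_uu_conj a (g * w * g⁻¹)
    have h2 : uu a * (g * w * g⁻¹ * uu a * (g * w * g⁻¹)⁻¹) = g * (u * (w * u * w⁻¹)) * g⁻¹ := by
      rw [← hg]; group
    rw [h2, tr_conj, hfix w hw] at h1
    have h3 : (a * (g * w * g⁻¹).1 1 0) ^ 2 = 0 := by linear_combination h1
    have h4 := pow_eq_zero_iff (two_ne_zero) |>.1 h3
    exact (mul_eq_zero.1 h4).resolve_left ha
  push Not at hfix
  obtain ⟨h, hhG, hne⟩ := hfix
  obtain ⟨g, a, b, hga, hgb, hab⟩ := exists_conj_uu_ll hut (by rw [tr_conj]; exact hut) hne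
  have hab0 : a * b ≠ 0 := by
    rw [hab]; exact sub_ne_zero.2 hne
  have ha : a ≠ 0 := left_ne_zero_of_mul hab0
  have hb : b ≠ 0 := right_ne_zero_of_mul hab0
  set G' := G.map (MulAut.conj g).toMonoidHom with hG'
  have hZ' : center (SpecialLinearGroup (Fin 2) F) ≤ G' := by
    intro w hw
    refine ⟨w, hZ hw, ?_⟩
    simp only [MulEquiv.coe_toMonoidHom, MulAut.conj_apply]
    rw [mem_center_iff.1 hw g]; group
  have hu' : uu a ∈ G' := ⟨u, huG, by simpa using hga⟩
  have hl' : ll b ∈ G' := ⟨h * u * h⁻¹, G.mul_mem (G.mul_mem hhG huG) (G.inv_mem hhG), by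
    simpa using hgb⟩
  have hπ : 2 ≤ Nat.card (addOf G') := by
    have : Nontrivial (addOf G') := ⟨⟨⟨a, hu'⟩, 0, fun h => ha (congrArg Subtype.val h)⟩⟩
    exact Finite.one_lt_card
  rcases Nat.lt_or_ge (Nat.card (addOf G')) 3 with h3 | h3
  · right; left
    exact Tor_conj g (Tor_of_card (analysis_two p G' hZ' ha hb hu' hl' (by omega)))
  · have h0 := zero_mem_ptsOf p G' ha hb hu' hl'
    rcases main_analysisZ' p G' hZ' ha hb hu' hl' h3 with hh | ⟨-, h60, hdata⟩
    · right; right; right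
      have hN : Normalized G' := by
        refine ⟨⟨b, hb, hl'⟩, fun w hw => ?_⟩
        by_cases w10 : w.1 1 0 = 0
        · left; exact w10
        · right
          have hm : w.1 0 0 / w.1 1 0 ∈ ptsOf G' := ⟨w, hw, w10, by field_simp⟩
          have := hh _ hm _ h0
          rwa [sub_zero] at this
      obtain ⟨K, c, hc, hmem, hIn⟩ := hN.main
      refine ⟨K, _, InSub.conj g hIn, ?_⟩
      have hcard : Nat.card K = Nat.card (addOf G') := by
        apply Nat.card_eq_of_bijective (fun y : K => (⟨c * y.1, (hmem _).2 y.2⟩ : addOf G'))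
        constructor
        · intro y y' h
          have h1 : c * y.1 = c * y'.1 := congrArg Subtype.val h
          exact Subtype.ext (mul_left_cancel₀ hc h1)
        · rintro ⟨a', ha'⟩
          have h1 : c * (a' / c) = a' := by field_simp
          refine ⟨⟨a' / c, (hmem _).1 (by rw [h1]; exact ha')⟩, ?_⟩
          exact Subtype.ext h1
      rw [hcard]; exact h3
    · right; right; left
      exact Exc_conj g (Or.inr (Or.inr ⟨h60, hdata⟩))


end Cfsg.Agent.Lib.Helper7
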