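import Mathlib
import Cfsg.Agent.Lib.Helper7.SL2Full2
import Cfsg.Agent.Lib.Helper47.SL2Class
import Cfsg.Agent.S0265

set_option autoImplicit false
set_option linter.unusedSimpArgs false
set_option linter.unusedSectionVars false
set_option linter.unusedVariables false

/-! Dickson's theorem for subgroups of `PSL₂(q)`, in a form suited to maximality proofs. -/

namespace Cfsg.Agent.Lib.Helper7.PMax

open Matrix MatrixGroups Subgroup Cfsg.Agent.Lib.Helper46 Cfsg.Agent.Lib.Helper18.SL2
open Cfsg.Agent.Lib.Helper7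

variable {F : Type*} [Field F]

/-- the preimage in `SL₂(F)` of a subgroup of `PSL₂(F)` -/
def pre (M : Subgroup (ProjectiveSpecialLinearGroup (Fin 2) F)) :
    Subgroup (SpecialLinearGroup (Fin 2) F) :=
  M.comap (QuotientGroup.mk' (center (SpecialLinearGroup (Fin 2) F)))

theorem mem_pre {M : Subgroup (ProjectiveSpecialLinearGroup (Fin 2) F)}
    {g : SpecialLinearGroup (Fin 2) F} :
    g ∈ pre M ↔ (QuotientGroup.mk g : ProjectiveSpecialLinearGroup (Fin 2) F) ∈ M := Iff.rfl

theorem center_le_pre (M : Subgroup (ProjectiveSpecialLinearGroup (Fin 2) F)) :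
    center (SpecialLinearGroup (Fin 2) F) ≤ pre M := by
  intro z hz
  rw [mem_pre]
  have : (QuotientGroup.mk z : ProjectiveSpecialLinearGroup (Fin 2) F) = 1 :=
    (QuotientGroup.eq_one_iff z).2 hz
  rw [this]; exact M.one_mem

theorem card_pre [Fintype F] (M : Subgroup (ProjectiveSpecialLinearGroup (Fin 2) F)) :
    Nat.card (pre M) = zc F * Nat.card M := by
  have h1 := (pre M).card_mul_index
  have h2 := M.card_mul_index
  have h3 : (pre M).index = M.index :=
    Subgroup.index_comap_of_surjective M (QuotientGroup.mk'_surjective _)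
  have h4 := Subgroup.card_eq_card_quotient_mul_card_subgroup
    (center (SpecialLinearGroup (Fin 2) F))
  have hpos : 0 < M.index := Nat.pos_of_ne_zero Subgroup.index_ne_zero_of_finite
  apply Nat.eq_of_mul_eq_mul_right hpos
  rw [← h3, h1, h4, h3]
  have h5 : Nat.card (SpecialLinearGroup (Fin 2) F ⧸ center (SpecialLinearGroup (Fin 2) F)) =
      Nat.card M * M.index := h2.symm
  rw [h5]
  show Nat.card M * M.index * zc F = _
  ring

theorem card_PSL [Fintype F] :
    zc F * Nat.card (ProjectiveSpecialLinearGroup (Fin 2) F) =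
      Fintype.card F * (Fintype.card F ^ 2 - 1) := by
  have h4 := Subgroup.card_eq_card_quotient_mul_card_subgroup
    (center (SpecialLinearGroup (Fin 2) F))
  rw [card_SL2] at h4
  rw [h4, mul_comm]
  rfl

/-! ### the triangular case -/

/-- `G` is conjugate to a group of upper triangular matrices -/
def BorType (G : Subgroup (SpecialLinearGroup (Fin 2) F)) : Prop :=
  ∃ g : SpecialLinearGroup (Fin 2) F, ∀ x ∈ G, (g * x * g⁻¹).1 1 0 = 0

theorem bor_commutator {x y : SpecialLinearGroup (Fin 2) F} (hx : x.1 1 0 = 0) (hy : y.1 1 0 = 0) :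
    ∃ e : F, x * y * x⁻¹ * y⁻¹ = uu e := by
  have dx := bor_det hx
  have dy := bor_det hy
  refine ⟨_, eq_uu_of_tr ?_ ?_⟩
  · simp only [tr, mul_10, mul_11, mul_00, mul_01, inv_00, inv_01, inv_10, inv_11, hx, hy]
    linear_combination (2 * x.1 0 0 * x.1 1 1) * dy + 2 * dx
  · simp only [mul_10, mul_11, mul_00, mul_01, inv_00, inv_01, inv_10, inv_11, hx, hy]
    ring

theorem BorType.commutator {G : Subgroup (SpecialLinearGroup (Fin 2) F)} (h : BorType G) :
    ∃ g : SpecialLinearGroup (Fin 2) F, ∀ x ∈ G, ∀ y ∈ G, ∃ e : F,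
      x * y * x⁻¹ * y⁻¹ = g⁻¹ * uu e * g := by
  obtain ⟨g, hg⟩ := h
  refine ⟨g, fun x hx y hy => ?_⟩
  obtain ⟨e, he⟩ := bor_commutator (hg x hx) (hg y hy)
  refine ⟨e, ?_⟩
  rw [← he]; group

theorem BorType.card_le [Fintype F] {G : Subgroup (SpecialLinearGroup (Fin 2) F)}
    (h : BorType G) : Nat.card G ≤ Fintype.card F * (Fintype.card F - 1) := by
  obtain ⟨g, hg⟩ := h
  set G' := G.map (MulAut.conj g).toMonoidHom with hG'
  have hle : G' ≤ BorS F := by
    rintro _ ⟨x, hx, rfl⟩
    exact hg x hx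
  have h1 : Nat.card G = Nat.card (G' ⊓ BorS F : Subgroup _) := by
    rw [inf_eq_left.2 hle, hG', card_map_conj]
  rw [h1, card_bor_diag, mul_comm]
  apply Nat.mul_le_mul
  · rw [← Nat.card_eq_fintype_card]
    exact Nat.card_le_card_of_injective _ Subtype.val_injective
  · have : Nat.card Fˣ = Fintype.card F - 1 := by
      rw [Nat.card_units, Nat.card_eq_fintype_card]
    rw [← this]
    exact Nat.card_le_card_of_injective _ Subtype.val_injective

/-! ### the toral case -/

theorem Tor.sq_comm [Fintype F] {G : Subgroup (SpecialLinearGroup (Fin 2) F)} (h : Tor G) :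
    ∀ a ∈ G, ∀ b ∈ G, Commute (a ^ 2) (b ^ 2) := by
  obtain ⟨x, hx, hs, hall⟩ := h
  have hxc : x ∉ center (SpecialLinearGroup (Fin 2) F) := fun h => hs (tr_sq_of_mem_center x h)
  have key : ∀ a ∈ G, Commute (a ^ 2) x := by
    intro a ha
    rcases hall a ha with h1 | h1
    · exact h1.pow_left 2
    · have e1 : a * x = x⁻¹ * a := by
        have := congrArg (· * a) h1
        simpa using this
      have e2 : a * x⁻¹ = x * a := by
        have e : a * x⁻¹ * a⁻¹ = x := by
          have := congrArg (·⁻¹) h1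
          simpa [mul_assoc] using this
        have := congrArg (· * a) e
        simpa using this
      show a ^ 2 * x = x * a ^ 2
      calc a ^ 2 * x = a * (a * x) := by rw [pow_two, mul_assoc]
        _ = a * (x⁻¹ * a) := by rw [e1]
        _ = (a * x⁻¹) * a := by rw [mul_assoc]
        _ = (x * a) * a := by rw [e2]
        _ = x * a ^ 2 := by rw [pow_two, mul_assoc]
  intro a ha b hb
  exact commTrans_SL2 x _ _ hxc (key a ha) (key b hb)

theorem Tor.card_le [Fintype F] {G : Subgroup (SpecialLinearGroup (Fin 2) F)} (h : Tor G) :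
    Nat.card G ≤ 2 * (Fintype.card F + 1) := by
  obtain ⟨x, hx, hs, hall⟩ := h
  have hxc : x ∉ center (SpecialLinearGroup (Fin 2) F) := fun h => hs (tr_sq_of_mem_center x h)
  have hA : Nat.card (cenIn G x) ≤ Fintype.card F + 1 := by
    have h1 : Nat.card (cenIn G x) ≤
        Nat.card (centralizer ({x} : Set (SpecialLinearGroup (Fin 2) F))) :=
      Subgroup.card_le_of_le inf_le_right
    rcases Cfsg.Agent.Lib.Helper47.card_centralizer_cases x hxc with ⟨-, h2⟩ | ⟨-, h2⟩ | ⟨h2, -⟩
    · omega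
    · omega
    · exact absurd h2 hs
  by_cases hall' : ∀ h ∈ G, h ∈ cenIn G x
  · have : G = cenIn G x := le_antisymm hall' (cenIn_le _ _)
    rw [this]; omega
  · push Not at hall'
    obtain ⟨h₀, h₀G, h₀A⟩ := hall'
    have inv_of : ∀ b ∈ G, b ∉ cenIn G x → b * x * b⁻¹ = x⁻¹ := by
      intro b hb hbA
      rcases hall b hb with h1 | h1
      · exact absurd (mem_cenIn.2 ⟨hb, h1⟩) hbA
      · exact h1
    have := card_eq_two_mul (cenIn_le G x) h₀G h₀A (fun b hb hbA => by
      refine mem_cenIn.2 ⟨G.mul_mem hb h₀G, ?_⟩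
      have e1 := inv_of b hb hbA
      have e2 := inv_of h₀ h₀G h₀A
      have e3 : b * x⁻¹ * b⁻¹ = x := by
        have := congrArg (·⁻¹) e1
        simpa [mul_assoc] using this
      have e4 : b * h₀ * x * (b * h₀)⁻¹ = x := by
        calc b * h₀ * x * (b * h₀)⁻¹ = b * (h₀ * x * h₀⁻¹) * b⁻¹ := by group
          _ = x := by rw [e2, e3]
      show b * h₀ * x = x * (b * h₀)
      exact mul_inv_eq_iff_eq_mul.1 e4)
    rw [this]; omega

/-! ### the theorem in `PSL₂` -/

theorem forall_mk {M : Subgroup (ProjectiveSpecialLinearGroup (Fin 2) F)}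
    {P : ProjectiveSpecialLinearGroup (Fin 2) F → Prop}
    (h : ∀ g ∈ pre M, P (QuotientGroup.mk g)) : ∀ a ∈ M, P a := by
  intro a ha
  induction a using QuotientGroup.induction_on with | H g =>
  exact h g ha

/-- the weak form of Dickson's theorem in `PSL₂(q)` -/
theorem psl_dickson [Fintype F] (p : ℕ) [Fact p.Prime] [CharP F p]
    (M : Subgroup (ProjectiveSpecialLinearGroup (Fin 2) F)) :
    ((∀ a ∈ M, ∀ b ∈ M, (a * b * a⁻¹ * b⁻¹) ^ p = 1) ∧
      (∀ a ∈ M, ∀ b ∈ M, ∀ c ∈ M, ∀ d ∈ M,
        Commute (a * b * a⁻¹ * b⁻¹) (c * d * c⁻¹ * d⁻¹)) ∧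
      zc F * Nat.card M ≤ Fintype.card F * (Fintype.card F - 1)) ∨
    ((∀ a ∈ M, ∀ b ∈ M, Commute (a ^ 2) (b ^ 2)) ∧
      zc F * Nat.card M ≤ 2 * (Fintype.card F + 1)) ∨
    (Nat.card M = 12 ∨ Nat.card M = 24 ∨ Nat.card M = 60) ∨
    (∃ K : Subfield F, 3 ≤ Nat.card K ∧
      (Nonempty (M ≃* ProjectiveSpecialLinearGroup (Fin 2) K) ∨
        Nonempty (M ≃* ProjGenLinGroup (Fin 2) K))) := by
  have hzpos := zc_pos F
  rcases dickson_full' p (pre M) (center_le_pre M) with h | h | h | ⟨K, D, hIn, hK⟩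
  · left
    have hB : BorType (pre M) := h
    obtain ⟨g, hg⟩ := hB.commutator
    refine ⟨?_, ?_, by rw [← card_pre]; exact hB.card_le⟩
    · apply forall_mk
      intro x hx
      apply forall_mk
      intro y hy
      obtain ⟨e, he⟩ := hg x hx y hy
      have h1 : (x * y * x⁻¹ * y⁻¹) ^ p = 1 := by
        have e1 : (g⁻¹ * uu e * g) ^ p = g⁻¹ * uu e ^ p * g := by
          have := conj_pow (a := g⁻¹) (b := uu e) (i := p)
          simpa using this
        rw [he, e1, uu_pow, CharP.cast_eq_zero, zero_mul, uu_zero]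
        group
      have := congrArg (fun w => (QuotientGroup.mk w : ProjectiveSpecialLinearGroup (Fin 2) F)) h1
      simpa using this
    · apply forall_mk
      intro x hx
      apply forall_mk
      intro y hy
      apply forall_mk
      intro z hz
      apply forall_mk
      intro w hw
      obtain ⟨e, he⟩ := hg x hx y hy
      obtain ⟨e', he'⟩ := hg z hz w hw
      have h1 : Commute (x * y * x⁻¹ * y⁻¹) (z * w * z⁻¹ * w⁻¹) := by
        rw [he, he']
        show g⁻¹ * uu e * g * (g⁻¹ * uu e' * g) = g⁻¹ * uu e' * g * (g⁻¹ * uu e * g)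
        have a1 : g⁻¹ * uu e * g * (g⁻¹ * uu e' * g) = g⁻¹ * (uu e * uu e') * g := by group
        have a2 : g⁻¹ * uu e' * g * (g⁻¹ * uu e * g) = g⁻¹ * (uu e' * uu e) * g := by group
        rw [a1, a2, uu_mul, uu_mul, add_comm]
      exact h1.map (QuotientGroup.mk' (center (SpecialLinearGroup (Fin 2) F)))
  · right; left
    have h : Tor (pre M) := h
    refine ⟨?_, by rw [← card_pre]; exact Tor.card_le h⟩
    apply forall_mk
    intro x hx
    apply forall_mk
    intro y hy
    exact (Tor.sq_comm h x hx y hy).map (QuotientGroup.mk' (center (SpecialLinearGroup (Fin 2) F)))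
  · right; right; left
    rcases h with ⟨h, -⟩ | ⟨h, -⟩ | ⟨h, -⟩
    · left; rw [card_pre] at h; exact Nat.eq_of_mul_eq_mul_left hzpos h
    · right; left; rw [card_pre] at h; exact Nat.eq_of_mul_eq_mul_left hzpos h
    · right; right; rw [card_pre] at h; exact Nat.eq_of_mul_eq_mul_left hzpos h
  · right; right; right
    exact ⟨K, hK, hIn.equiv M (fun g => Iff.rfl)⟩

end Cfsg.Agent.Lib.Helper7.PMax
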