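import Mathlib
import Cfsg.Agent.Lib.Helper7.PSL2Max

set_option autoImplicit false
set_option linter.unusedSimpArgs false
set_option linter.unusedSectionVars false
set_option linter.unusedVariables false

/-! Tools for maximality proofs in `PSL₂(q)`: numerical form of Dickson's theorem, transfer of
identities along isomorphisms, identities failing in `A₄`, `S₄`, `A₅`. -/

namespace Cfsg.Agent.Lib.Helper7.PMax

open Matrix MatrixGroups Subgroup Cfsg.Agent.Lib.Helper46 Cfsg.Agent.Lib.Helper18.SL2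
open Cfsg.Agent.Lib.Helper7

section perms

open Equiv Equiv.Perm

theorem S4_not_sq : ¬ ∀ σ τ : Perm (Fin 4), Commute (σ ^ 2) (τ ^ 2) := by
  intro h
  have := h c[0, 1, 2] c[1, 2, 3]
  revert this
  unfold Commute SemiconjBy
  decide

theorem S4_not_meta : ¬ ∀ σ₁ σ₂ σ₃ σ₄ : Perm (Fin 4),
    Commute (σ₁ * σ₂ * σ₁⁻¹ * σ₂⁻¹) (σ₃ * σ₄ * σ₃⁻¹ * σ₄⁻¹) := by
  intro h
  have := h (swap 0 1) (swap 0 2) (swap 1 2) (swap 1 3)
  revert this
  unfold Commute SemiconjBy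
  decide

theorem A4_not_sq : ¬ ∀ σ τ : alternatingGroup (Fin 4), Commute (σ ^ 2) (τ ^ 2) := by
  intro h
  have := congrArg Subtype.val (h ⟨c[0, 1, 2], mem_alternatingGroup.2 (by decide)⟩
    ⟨c[1, 2, 3], mem_alternatingGroup.2 (by decide)⟩).eq
  simp only [Subgroup.coe_mul, Subgroup.coe_pow] at this
  revert this
  decide

theorem A5_not_sq : ¬ ∀ σ τ : alternatingGroup (Fin 5), Commute (σ ^ 2) (τ ^ 2) := by
  intro h
  have := congrArg Subtype.val (h ⟨c[0, 1, 2], mem_alternatingGroup.2 (by decide)⟩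
    ⟨c[1, 2, 3], mem_alternatingGroup.2 (by decide)⟩).eq
  simp only [Subgroup.coe_mul, Subgroup.coe_pow] at this
  revert this
  decide

theorem A5_not_meta : ¬ ∀ σ₁ σ₂ σ₃ σ₄ : alternatingGroup (Fin 5),
    Commute (σ₁ * σ₂ * σ₁⁻¹ * σ₂⁻¹) (σ₃ * σ₄ * σ₃⁻¹ * σ₄⁻¹) := by
  intro h
  have := congrArg Subtype.val (h ⟨c[0, 1, 2], mem_alternatingGroup.2 (by decide)⟩
    ⟨c[0, 3, 4], mem_alternatingGroup.2 (by decide)⟩
    ⟨c[1, 2, 3], mem_alternatingGroup.2 (by decide)⟩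
    ⟨c[1, 4, 0], mem_alternatingGroup.2 (by decide)⟩).eq
  simp only [Subgroup.coe_mul, Subgroup.coe_inv] at this
  revert this
  decide

theorem A4_not_pow {p : ℕ} (hp : Odd p) :
    ¬ ∀ σ τ : alternatingGroup (Fin 4), (σ * τ * σ⁻¹ * τ⁻¹) ^ p = 1 := by
  intro h
  have h1 := congrArg Subtype.val (h ⟨c[0, 1, 2], mem_alternatingGroup.2 (by decide)⟩
    ⟨c[1, 2, 3], mem_alternatingGroup.2 (by decide)⟩)
  simp only [Subgroup.coe_mul, Subgroup.coe_inv, Subgroup.coe_pow, Subgroup.coe_one] at h1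
  set c : Perm (Fin 4) := c[0, 1, 2] * c[1, 2, 3] * c[0, 1, 2]⁻¹ * c[1, 2, 3]⁻¹ with hc
  have h2 : c ^ 2 = 1 := by rw [hc]; decide
  have h3 : c ≠ 1 := by rw [hc]; decide
  have h4 := pow_gcd_eq_one.2 ⟨h1, h2⟩
  have h5 : Nat.gcd p 2 = 1 := by
    obtain ⟨k, rfl⟩ := hp
    simp
  rw [h5, pow_one] at h4
  exact h3 h4

end perms

section transfer

variable {P S : Type*} [Group P] [Group S] {H M : Subgroup P}

theorem transfer_sq (hHM : H ≤ M) (e : H ≃* S)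
    (h : ∀ a ∈ M, ∀ b ∈ M, Commute (a ^ 2) (b ^ 2)) : ∀ σ τ : S, Commute (σ ^ 2) (τ ^ 2) := by
  intro σ τ
  have h1 := h _ (hHM (e.symm σ).2) _ (hHM (e.symm τ).2)
  have h2 : Commute ((e.symm σ) ^ 2) ((e.symm τ) ^ 2) := Subtype.ext h1.eq
  have h3 := h2.map e
  simpa using h3

theorem transfer_meta (hHM : H ≤ M) (e : H ≃* S)
    (h : ∀ a ∈ M, ∀ b ∈ M, ∀ c ∈ M, ∀ d ∈ M,
      Commute (a * b * a⁻¹ * b⁻¹) (c * d * c⁻¹ * d⁻¹)) :
    ∀ σ₁ σ₂ σ₃ σ₄ : S, Commute (σ₁ * σ₂ * σ₁⁻¹ * σ₂⁻¹) (σ₃ * σ₄ * σ₃⁻¹ * σ₄⁻¹) := by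
  intro σ₁ σ₂ σ₃ σ₄
  have h1 := h _ (hHM (e.symm σ₁).2) _ (hHM (e.symm σ₂).2) _ (hHM (e.symm σ₃).2)
    _ (hHM (e.symm σ₄).2)
  have h2 : Commute (e.symm σ₁ * e.symm σ₂ * (e.symm σ₁)⁻¹ * (e.symm σ₂)⁻¹)
      (e.symm σ₃ * e.symm σ₄ * (e.symm σ₃)⁻¹ * (e.symm σ₄)⁻¹) := Subtype.ext h1.eq
  have h3 := h2.map e
  simpa using h3

theorem transfer_pow (hHM : H ≤ M) (e : H ≃* S) (p : ℕ)
    (h : ∀ a ∈ M, ∀ b ∈ M, (a * b * a⁻¹ * b⁻¹) ^ p = 1) :
    ∀ σ τ : S, (σ * τ * σ⁻¹ * τ⁻¹) ^ p = 1 := by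
  intro σ τ
  have h1 := h _ (hHM (e.symm σ).2) _ (hHM (e.symm τ).2)
  have h2 : (e.symm σ * e.symm τ * (e.symm σ)⁻¹ * (e.symm τ)⁻¹) ^ p = 1 := Subtype.ext h1
  have h3 := congrArg e h2
  simpa using h3

end transfer

variable {F : Type*} [Field F]

theorem zc_subfield (K : Subfield F) : zc K = zc F := by
  by_cases h2 : (2 : F) = 0
  · rw [zc_of_two_eq h2, zc_of_two_eq]
    apply Subtype.ext
    show ((2 : K) : F) = ((0 : K) : F)
    push_cast
    exact h2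
  · rw [zc_of_two_ne h2, zc_of_two_ne]
    intro h
    apply h2
    have h3 : ((2 : K) : F) = ((0 : K) : F) := congrArg (fun z : K => (z : F)) h
    push_cast at h3
    exact h3

variable [Fintype F]

theorem card_of_equiv_psl {M : Subgroup (ProjectiveSpecialLinearGroup (Fin 2) F)} {K : Subfield F}
    (e : M ≃* ProjectiveSpecialLinearGroup (Fin 2) K) :
    zc F * Nat.card M = Nat.card K * (Nat.card K ^ 2 - 1) := by
  have := Fintype.ofFinite K
  rw [Nat.card_congr e.toEquiv, ← zc_subfield K, card_PSL, Nat.card_eq_fintype_card]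

theorem card_of_equiv_pgl {M : Subgroup (ProjectiveSpecialLinearGroup (Fin 2) F)} {K : Subfield F}
    (e : M ≃* ProjGenLinGroup (Fin 2) K) :
    Nat.card M = Nat.card K * (Nat.card K ^ 2 - 1) := by
  have := Fintype.ofFinite K
  rw [Nat.card_congr e.toEquiv, Cfsg.Agent.S0265.result, card_SL2, Nat.card_eq_fintype_card]

/-- the numerical form of Dickson's theorem in `PSL₂(q)` -/
theorem psl_dickson_num (p : ℕ) [Fact p.Prime] [CharP F p]
    (M : Subgroup (ProjectiveSpecialLinearGroup (Fin 2) F)) :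
    ((∀ a ∈ M, ∀ b ∈ M, (a * b * a⁻¹ * b⁻¹) ^ p = 1) ∧
      (∀ a ∈ M, ∀ b ∈ M, ∀ c ∈ M, ∀ d ∈ M,
        Commute (a * b * a⁻¹ * b⁻¹) (c * d * c⁻¹ * d⁻¹)) ∧
      zc F * Nat.card M ≤ Fintype.card F * (Fintype.card F - 1)) ∨
    ((∀ a ∈ M, ∀ b ∈ M, Commute (a ^ 2) (b ^ 2)) ∧
      zc F * Nat.card M ≤ 2 * (Fintype.card F + 1)) ∨
    (Nat.card M = 12 ∨ Nat.card M = 24 ∨ Nat.card M = 60) ∨
    (∃ q₀ m : ℕ, 3 ≤ q₀ ∧ Fintype.card F = q₀ ^ m ∧
      (zc F * Nat.card M = q₀ * (q₀ ^ 2 - 1) ∨ Nat.card M = q₀ * (q₀ ^ 2 - 1))) := by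
  rcases psl_dickson p M with h | h | h | ⟨K, hK, h⟩
  · left; exact h
  · right; left; exact h
  · right; right; left; exact h
  · right; right; right
    refine ⟨Nat.card K, Module.finrank K F, hK, ?_, ?_⟩
    · rw [← Module.natCard_eq_pow_finrank, Nat.card_eq_fintype_card]
    · rcases h with ⟨⟨e⟩⟩ | ⟨⟨e⟩⟩
      · left; exact card_of_equiv_psl e
      · right; exact card_of_equiv_pgl e

/-- a subgroup of the order of `PSL₂(q)` or more is everything -/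
theorem eq_top_of_card {M : Subgroup (ProjectiveSpecialLinearGroup (Fin 2) F)}
    (h : zc F * Nat.card M = Fintype.card F * (Fintype.card F ^ 2 - 1) ∨
      Nat.card M = Fintype.card F * (Fintype.card F ^ 2 - 1)) : M = ⊤ := by
  apply Subgroup.eq_top_of_le_card
  have h1 := card_PSL (F := F)
  have hz := zc_pos F
  rcases h with h | h
  · rw [← h1] at h
    exact (Nat.eq_of_mul_eq_mul_left hz h).ge
  · rw [h, ← h1]
    exact Nat.le_mul_of_pos_left _ hz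

theorem charP_of_card_prime {p : ℕ} [Fact p.Prime] (hF : Fintype.card F = p) : CharP F p := by
  obtain ⟨p', hchar⟩ := CharP.exists F
  obtain ⟨n, hp', hn⟩ := FiniteField.card F p'
  have h1 : p' ∣ p := by
    rw [← hF, hn]
    exact dvd_pow_self _ n.ne_zero
  have h2 : p' = p := (Nat.prime_dvd_prime_iff_eq hp' Fact.out).1 h1
  rw [← h2]; exact hchar

/-- over the prime field the last case of Dickson's theorem is the whole group -/
theorem base_eq_of_prime {p q₀ m : ℕ} (hp : p.Prime) (h3 : 3 ≤ q₀) (h : p = q₀ ^ m) : q₀ = p := by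
  have hm : m ≠ 0 := by
    rintro rfl
    rw [pow_zero] at h
    exact hp.one_lt.ne' h
  have h1 : q₀ ∣ p := by rw [h]; exact dvd_pow_self _ hm
  rcases (Nat.dvd_prime hp).1 h1 with h2 | h2
  · omega
  · exact h2

end Cfsg.Agent.Lib.Helper7.PMax
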