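import Mathlib
import Cfsg.Agent.Lib.Helper7.SL2Full2
import Cfsg.Agent.Lib.Helper47.SL2Class

set_option autoImplicit false
set_option linter.unusedSimpArgs false
set_option linter.unusedSectionVars false
set_option linter.unusedVariables false

/-! Centralisers of semisimple elements of `SL₂(q)` are cyclic. -/

namespace Cfsg.Agent.Lib.Helper7

open Matrix Subgroup Cfsg.Agent.Lib.Helper46

variable {F : Type*} [Field F]

/-- the coordinates of `h = X + Y g` -/
noncomputable def cX (g h : SpecialLinearGroup (Fin 2) F) : F :=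
  ((tr g ^ 2 - 2) * tr h - tr g * tr (h * g)) / (tr g ^ 2 - 4)

noncomputable def cY (g h : SpecialLinearGroup (Fin 2) F) : F :=
  (2 * tr (h * g) - tr g * tr h) / (tr g ^ 2 - 4)

/-- `h = x + y g` -/
def Rep (g h : SpecialLinearGroup (Fin 2) F) (x y : F) : Prop :=
  h.1 0 0 = x + y * g.1 0 0 ∧ h.1 0 1 = y * g.1 0 1 ∧ h.1 1 0 = y * g.1 1 0 ∧
    h.1 1 1 = x + y * g.1 1 1

theorem cXY_of_rep {g h : SpecialLinearGroup (Fin 2) F} (hs : tr g ^ 2 ≠ 4) {x y : F}
    (hr : Rep g h x y) : cX g h = x ∧ cY g h = y := by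
  obtain ⟨a00, a01, a10, a11⟩ := hr
  have hd := det2 g
  have hne : tr g ^ 2 - 4 ≠ 0 := sub_ne_zero.2 hs
  have t1 : tr h = 2 * x + y * tr g := by
    simp only [tr, a00, a11]; ring
  have t2 : tr (h * g) = x * tr g + y * (tr g ^ 2 - 2) := by
    simp only [tr, mul_00, mul_11, a00, a01, a10, a11]
    linear_combination (-2 * y) * hd
  constructor
  · rw [cX, t1, t2, div_eq_iff hne]; ring
  · rw [cY, t1, t2, div_eq_iff hne]; ring

theorem rep_of_comm {g h : SpecialLinearGroup (Fin 2) F} (hs : tr g ^ 2 ≠ 4)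
    (hc : h * g = g * h) : Rep g h (cX g h) (cY g h) := by
  have hg : g ∉ center (SpecialLinearGroup (Fin 2) F) := fun h' => hs (tr_sq_of_mem_center g h')
  obtain ⟨x, y, hr⟩ := commutant g h hg hc
  obtain ⟨e1, e2⟩ := cXY_of_rep hs (show Rep g h x y from hr)
  rw [e1, e2]; exact hr

theorem rep_mul {g h h' : SpecialLinearGroup (Fin 2) F} {x y x' y' : F} (hr : Rep g h x y)
    (hr' : Rep g h' x' y') : Rep g (h * h') (x * x' - y * y') (x * y' + x' * y + y * y' * tr g) := by
  obtain ⟨a00, a01, a10, a11⟩ := hr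
  obtain ⟨b00, b01, b10, b11⟩ := hr'
  have hd := det2 g
  refine ⟨?_, ?_, ?_, ?_⟩ <;>
    simp only [mul_00, mul_01, mul_10, mul_11, a00, a01, a10, a11, b00, b01, b10, b11, tr]
  · linear_combination (-y * y') * hd
  · ring
  · ring
  · linear_combination (-y * y') * hd

theorem rep_norm {g h : SpecialLinearGroup (Fin 2) F} {x y : F} (hr : Rep g h x y) :
    x ^ 2 + tr g * x * y + y ^ 2 = 1 := by
  obtain ⟨a00, a01, a10, a11⟩ := hr
  have d1 := det2 h
  have d2 := det2 g
  rw [a00, a01, a10, a11] at d1
  simp only [tr]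
  linear_combination d1 - y ^ 2 * d2

/-- the centraliser of a semisimple element is cyclic -/
theorem isCyclic_centralizer [Finite F] {g : SpecialLinearGroup (Fin 2) F} (hs : tr g ^ 2 ≠ 4) :
    IsCyclic (centralizer ({g} : Set (SpecialLinearGroup (Fin 2) F))) := by
  let K := AlgebraicClosure F
  obtain ⟨θ, hθ⟩ := IsAlgClosed.exists_root
    (Polynomial.C (1 : K) * Polynomial.X ^ 2 + Polynomial.C (-(algebraMap F K (tr g))) * Polynomial.X
      + Polynomial.C (1 : K)) (by
      rw [Polynomial.degree_quadratic one_ne_zero]; decide)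
  have hθ' : θ ^ 2 = algebraMap F K (tr g) * θ - 1 := by
    simp only [Polynomial.IsRoot, Polynomial.eval_add, Polynomial.eval_mul, Polynomial.eval_C,
      Polynomial.eval_pow, Polynomial.eval_X] at hθ
    linear_combination hθ
  have hcomm : ∀ h : centralizer ({g} : Set (SpecialLinearGroup (Fin 2) F)), h.1 * g = g * h.1 :=
    fun h => mem_centralizer_singleton_iff.1 h.2
  let φ : centralizer ({g} : Set (SpecialLinearGroup (Fin 2) F)) →* K :=
    { toFun := fun h => algebraMap F K (cX g h.1) + algebraMap F K (cY g h.1) * θ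
      map_one' := by
        have hr : Rep g 1 1 0 := ⟨by simp, by simp, by simp, by simp⟩
        obtain ⟨e1, e2⟩ := cXY_of_rep hs hr
        show algebraMap F K (cX g 1) + algebraMap F K (cY g 1) * θ = 1
        rw [e1, e2]; simp
      map_mul' := fun h h' => by
        obtain ⟨e1, e2⟩ := cXY_of_rep hs (rep_mul (rep_of_comm hs (hcomm h))
          (rep_of_comm hs (hcomm h')))
        show algebraMap F K (cX g (h.1 * h'.1)) + algebraMap F K (cY g (h.1 * h'.1)) * θ = _
        rw [e1, e2]
        simp only [map_add, map_mul, map_sub]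
        linear_combination (-(algebraMap F K (cY g h.1)) * algebraMap F K (cY g h'.1)) * hθ' }
  haveI : Finite (SpecialLinearGroup (Fin 2) F) := by
    have := Fintype.ofFinite F
    infer_instance
  refine isCyclic_of_injective_ringHom φ ?_
  intro h h' hh
  have hh' : algebraMap F K (cX g h.1) + algebraMap F K (cY g h.1) * θ =
      algebraMap F K (cX g h'.1) + algebraMap F K (cY g h'.1) * θ := hh
  have r1 := rep_of_comm hs (hcomm h)
  have r2 := rep_of_comm hs (hcomm h')
  have n1 := congrArg (algebraMap F K) (rep_norm r1)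
  have n2 := congrArg (algebraMap F K) (rep_norm r2)
  simp only [map_add, map_mul, map_pow, map_one] at n1 n2
  set x := algebraMap F K (cX g h.1) with hx
  set y := algebraMap F K (cY g h.1) with hy
  set x' := algebraMap F K (cX g h'.1) with hx'
  set y' := algebraMap F K (cY g h'.1) with hy'
  set t := algebraMap F K (tr g) with ht
  -- the conjugate values
  have c1 : (x + y * θ) * (x + y * (t - θ)) = 1 := by linear_combination n1 - y ^ 2 * hθ'
  have c2 : (x' + y' * θ) * (x' + y' * (t - θ)) = 1 := by linear_combination n2 - y' ^ 2 * hθ'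
  have hne : x + y * θ ≠ 0 := left_ne_zero_of_mul_eq_one c1
  have c3 : x + y * (t - θ) = x' + y' * (t - θ) := by
    apply mul_left_cancel₀ hne
    rw [c1, hh', c2]
  have hdisc : (t - 2 * θ) ^ 2 ≠ 0 := by
    have e : (t - 2 * θ) ^ 2 = t ^ 2 - 4 := by linear_combination 4 * hθ'
    rw [e]
    intro h0
    apply hs
    apply (algebraMap F K).injective
    simp only [map_pow]
    rw [← ht]
    have : algebraMap F K 4 = 4 := map_ofNat _ 4
    rw [this]
    linear_combination h0
  have hdisc' : t - 2 * θ ≠ 0 := fun h0 => hdisc (by rw [h0]; ring)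
  have hy_eq : y = y' := by
    have : (y - y') * (t - 2 * θ) = 0 := by linear_combination c3 - hh'
    have := (mul_eq_zero.1 this).resolve_right hdisc'
    linear_combination this
  have hx_eq : x = x' := by
    rw [hy_eq] at hh'
    exact add_right_cancel hh'
  have ex : cX g h.1 = cX g h'.1 := (algebraMap F K).injective hx_eq
  have ey : cY g h.1 = cY g h'.1 := (algebraMap F K).injective hy_eq
  apply Subtype.ext
  obtain ⟨a00, a01, a10, a11⟩ := r1
  obtain ⟨b00, b01, b10, b11⟩ := r2
  apply ext2
  · rw [a00, b00, ex, ey]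
  · rw [a01, b01, ey]
  · rw [a10, b10, ey]
  · rw [a11, b11, ex, ey]

end Cfsg.Agent.Lib.Helper7
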