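import Mathlib
import Cfsg.Agent.Lib.Helper7.PSL2Max2
import Cfsg.Agent.Lib.Helper7.SL2Cyc
import Cfsg.Agent.Lib.Helper46.SL2Sylow2
import Cfsg.Agent.Lib.Helper59.TwoGroupRecog

set_option autoImplicit false
set_option linter.unusedSimpArgs false
set_option linter.unusedSectionVars false
set_option linter.unusedVariables false

/-! The toral case of Dickson's theorem: cyclic and dihedral subgroups of `PSL₂(q)`. -/

namespace Cfsg.Agent.Lib.Helper7.PMax

open Matrix MatrixGroups Subgroup Cfsg.Agent.Lib.Helper46 Cfsg.Agent.Lib.Helper18.SL2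
open Cfsg.Agent.Lib.Helper7

variable {F : Type*} [Field F]

/-- the image in `PSL₂(F)` of a subgroup of `SL₂(F)` -/
def img (A : Subgroup (SpecialLinearGroup (Fin 2) F)) :
    Subgroup (ProjectiveSpecialLinearGroup (Fin 2) F) :=
  A.map (QuotientGroup.mk' (center (SpecialLinearGroup (Fin 2) F)))

theorem pre_img {A : Subgroup (SpecialLinearGroup (Fin 2) F)}
    (hZ : center (SpecialLinearGroup (Fin 2) F) ≤ A) : pre (img A) = A := by
  rw [pre, img, Subgroup.comap_map_eq, QuotientGroup.ker_mk', sup_eq_left]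
  exact hZ

theorem img_pre (M : Subgroup (ProjectiveSpecialLinearGroup (Fin 2) F)) : img (pre M) = M := by
  rw [pre, img, Subgroup.map_comap_eq_self_of_surjective (QuotientGroup.mk'_surjective _)]

theorem pre_le_pre {M M' : Subgroup (ProjectiveSpecialLinearGroup (Fin 2) F)} :
    pre M ≤ pre M' ↔ M ≤ M' :=
  Subgroup.comap_le_comap_of_surjective (QuotientGroup.mk'_surjective _)

theorem card_img [Fintype F] {A : Subgroup (SpecialLinearGroup (Fin 2) F)}
    (hZ : center (SpecialLinearGroup (Fin 2) F) ≤ A) : Nat.card A = zc F * Nat.card (img A) := by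
  rw [← card_pre, pre_img hZ]

variable [Fintype F]

theorem card_centralizer_ss {x : SpecialLinearGroup (Fin 2) F} (hs : tr x ^ 2 ≠ 4) :
    Nat.card (centralizer ({x} : Set (SpecialLinearGroup (Fin 2) F))) = Fintype.card F + 1 ∨
    Nat.card (centralizer ({x} : Set (SpecialLinearGroup (Fin 2) F))) = Fintype.card F - 1 := by
  have hxc : x ∉ center (SpecialLinearGroup (Fin 2) F) := fun h => hs (tr_sq_of_mem_center x h)
  rcases Cfsg.Agent.Lib.Helper47.card_centralizer_cases x hxc with ⟨-, h2⟩ | ⟨-, h2⟩ | ⟨h2, -⟩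
  · left; exact h2
  · right; exact h2
  · exact absurd h2 hs

set_option maxHeartbeats 1000000 in
/-- the structure of the subgroups normalising a torus -/
theorem tor_struct (M : Subgroup (ProjectiveSpecialLinearGroup (Fin 2) F)) (h : Tor (pre M)) :
    ∃ k : ℕ, (zc F * k ∣ Fintype.card F + 1 ∨ zc F * k ∣ Fintype.card F - 1) ∧
      ((IsCyclic M ∧ Nat.card M = k) ∨
        (Nat.card M = 2 * k ∧ Nonempty (M ≃* DihedralGroup k))) := by
  obtain ⟨x, hx, hs, hall⟩ := h
  have hzpos := zc_pos F
  have hxc : x ∉ center (SpecialLinearGroup (Fin 2) F) := fun h => hs (tr_sq_of_mem_center x h)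
  set G := pre M with hG
  have hZG : center (SpecialLinearGroup (Fin 2) F) ≤ G := center_le_pre M
  set A := cenIn G x with hA
  have hZA : center (SpecialLinearGroup (Fin 2) F) ≤ A := center_le_cenIn hZG x
  set C := centralizer ({x} : Set (SpecialLinearGroup (Fin 2) F)) with hC
  have hAC : A ≤ C := inf_le_right
  haveI : IsCyclic C := isCyclic_centralizer hs
  haveI : IsCyclic A := by
    have e := subgroupOfEquivOfLe hAC
    exact isCyclic_of_surjective e e.surjective
  obtain ⟨⟨a, haA⟩, hgen⟩ := IsCyclic.exists_generator (α := A)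
  have hgen' : ∀ b ∈ A, b ∈ zpowers a := by
    intro b hb
    obtain ⟨n, hn⟩ := mem_zpowers_iff.1 (hgen ⟨b, hb⟩)
    exact mem_zpowers_iff.2 ⟨n, by simpa using congrArg Subtype.val hn⟩
  have hAz : A = zpowers a := le_antisymm hgen' (by rw [zpowers_le]; exact haA)
  set k := Nat.card (img A) with hk
  have hAk : Nat.card A = zc F * k := card_img hZA
  have hdvd : zc F * k ∣ Fintype.card F + 1 ∨ zc F * k ∣ Fintype.card F - 1 := by
    rw [← hAk]
    rcases card_centralizer_ss hs with h | h
    · left; rw [← h]; exact card_dvd_of_le hAC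
    · right; rw [← h]; exact card_dvd_of_le hAC
  set mk := QuotientGroup.mk' (center (SpecialLinearGroup (Fin 2) F)) with hmk
  have himg : img A = zpowers (mk a) := by
    rw [img, hAz, MonoidHom.map_zpowers]
  have hord : orderOf (mk a) = k := by
    rw [← Nat.card_zpowers, ← himg]
  refine ⟨k, hdvd, ?_⟩
  by_cases hall' : ∀ h ∈ G, h ∈ A
  · left
    have hGA : G = A := le_antisymm hall' (cenIn_le _ _)
    have hM : M = img A := by rw [← hGA, hG, img_pre]
    constructor
    · rw [hM, himg]
      infer_instance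
    · rw [hM]
  · right
    push Not at hall'
    obtain ⟨w, hwG, hwA⟩ := hall'
    have inv_of : ∀ b ∈ G, b ∉ A → b * x * b⁻¹ = x⁻¹ := by
      intro b hb hbA
      rcases hall b hb with h1 | h1
      · exact absurd (mem_cenIn.2 ⟨hb, h1⟩) hbA
      · exact h1
    have hcard2 : Nat.card G = 2 * Nat.card A :=
      card_eq_two_mul (cenIn_le G x) hwG hwA (fun b hb hbA => by
      refine mem_cenIn.2 ⟨G.mul_mem hb hwG, ?_⟩
      have e1 := inv_of b hb hbA
      have e2 := inv_of w hwG hwA
      have e3 : b * x⁻¹ * b⁻¹ = x := by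
        have := congrArg (·⁻¹) e1
        simpa [mul_assoc] using this
      have e4 : b * w * x * (b * w)⁻¹ = x := by
        calc b * w * x * (b * w)⁻¹ = b * (w * x * w⁻¹) * b⁻¹ := by group
          _ = x := by rw [e2, e3]
      show b * w * x = x * (b * w)
      exact mul_inv_eq_iff_eq_mul.1 e4)
    have hM2 : Nat.card M = 2 * k := by
      apply Nat.eq_of_mul_eq_mul_left hzpos
      rw [← card_pre, ← hG, hcard2, hAk]; ring
    refine ⟨hM2, ?_⟩
    have hwx := inv_of w hwG hwA
    -- `w² ∈ Z`
    have hw2 : w ^ 2 ∈ center (SpecialLinearGroup (Fin 2) F) := by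
      by_contra hnc
      have hTor : Tor G := ⟨x, hx, hs, hall⟩
      have c1 : Commute (w ^ 2) x := by
        have e1 : w * x = x⁻¹ * w := mul_inv_eq_iff_eq_mul.1 hwx
        have e2 : w * x⁻¹ = x * w := by
          have e : w * x⁻¹ * w⁻¹ = x := by
            have := congrArg (·⁻¹) hwx
            simpa [mul_assoc] using this
          exact mul_inv_eq_iff_eq_mul.1 e
        show w ^ 2 * x = x * w ^ 2
        calc w ^ 2 * x = w * (w * x) := by rw [pow_two, mul_assoc]
          _ = w * (x⁻¹ * w) := by rw [e1]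
          _ = (w * x⁻¹) * w := by rw [mul_assoc]
          _ = (x * w) * w := by rw [e2]
          _ = x * w ^ 2 := by rw [pow_two, mul_assoc]
      have c2 : Commute w (w ^ 2) := (Commute.refl w).pow_right 2
      exact hwA (mem_cenIn.2 ⟨hwG, commTrans_SL2 _ _ _ hnc c2 c1.symm⟩)
    have hwa : w * a * w⁻¹ = a⁻¹ := commutant_inv x a w hxc (mem_cenIn.1 haA).2 hwx
    have haM : mk a ∈ M := (cenIn_le G x) haA
    have hwM : mk w ∈ M := hwG
    have hkpos : 0 < k := Nat.card_pos
    apply Cfsg.Agent.Lib.Helper59.dihedral_recog k hkpos (⟨mk a, haM⟩ : M) ⟨mk w, hwM⟩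
    · rw [← hord]
      exact Subgroup.orderOf_mk _ _
    · apply Subtype.ext
      show mk w * mk w = 1
      rw [← map_mul, ← pow_two]
      exact (QuotientGroup.eq_one_iff _).2 hw2
    · apply Subtype.ext
      show mk w * mk a * (mk w)⁻¹ = (mk a)⁻¹
      rw [← map_inv, ← map_mul, ← map_mul, hwa, map_inv]
    · intro hmem
      obtain ⟨n, hn⟩ := mem_zpowers_iff.1 hmem
      have h1 : mk a ^ n = mk w := by simpa using congrArg Subtype.val hn
      rw [← map_zpow] at h1
      have h2 : (a ^ n)⁻¹ * w ∈ center (SpecialLinearGroup (Fin 2) F) :=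
        QuotientGroup.eq.1 h1
      apply hwA
      have h3 : w = a ^ n * ((a ^ n)⁻¹ * w) := by group
      rw [h3]
      exact A.mul_mem (A.zpow_mem haA n) (hZA h2)
    · exact hM2

end Cfsg.Agent.Lib.Helper7.PMax
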