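import Mathlib
import Cfsg.Agent.Lib.Helper7.PSL2Tor

set_option autoImplicit false
set_option linter.unusedSimpArgs false
set_option linter.unusedSectionVars false
set_option linter.unusedVariables false

/-! The Borel subgroup of `SL₂(q)` and `PSL₂(q)`: order and index. -/

namespace Cfsg.Agent.Lib.Helper7.PMax

open Matrix MatrixGroups Subgroup Cfsg.Agent.Lib.Helper46 Cfsg.Agent.Lib.Helper18.SL2
open Cfsg.Agent.Lib.Helper7

variable {F : Type*} [Field F] [Fintype F]

theorem ptsOf_top : ptsOf (⊤ : Subgroup (SpecialLinearGroup (Fin 2) F)) = Set.univ := by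
  rw [Set.eq_univ_iff_forall]
  intro c
  refine ⟨mk2 c (-1) 1 0 (by ring), mem_top _, ?_, ?_⟩
  · simp
  · simp

theorem card_SL2_eq_bor :
    Nat.card (SpecialLinearGroup (Fin 2) F) = Nat.card (BorS F) * (1 + Fintype.card F) := by
  have h := card_H_pts (⊤ : Subgroup (SpecialLinearGroup (Fin 2) F))
  rw [ptsOf_top, Set.ncard_univ, Nat.card_eq_fintype_card (α := F), top_inf_eq,
    Subgroup.card_top] at h
  exact h

theorem card_BorS : Nat.card (BorS F) = Fintype.card F * (Fintype.card F - 1) := by
  have h := card_SL2_eq_bor (F := F)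
  rw [card_SL2] at h
  have hq : 1 ≤ Fintype.card F := Fintype.card_pos
  obtain ⟨n, hn⟩ : ∃ n, Fintype.card F = n + 1 := ⟨Fintype.card F - 1, by omega⟩
  rw [hn] at h ⊢
  have e : (n + 1) * ((n + 1) ^ 2 - 1) = (n + 1) * (n + 1 - 1) * (1 + (n + 1)) := by
    have e1 : (n + 1) ^ 2 - 1 = n * (n + 2) := by
      have : (n + 1) ^ 2 = n * (n + 2) + 1 := by ring
      omega
    rw [e1, Nat.add_sub_cancel]; ring
  rw [e] at h
  exact (Nat.eq_of_mul_eq_mul_right (by omega) h).symm

theorem index_BorS : (BorS F).index = Fintype.card F + 1 := by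
  have h1 := (BorS F).card_mul_index
  rw [card_SL2_eq_bor] at h1
  have := Nat.eq_of_mul_eq_mul_left Nat.card_pos h1
  omega

omit [Fintype F] in
theorem center_le_BorS : center (SpecialLinearGroup (Fin 2) F) ≤ BorS F := by
  intro z hz
  exact ((mem_center_iff2 z).1 hz).2.1

theorem index_img_BorS : (img (BorS F)).index = Fintype.card F + 1 := by
  rw [← index_BorS, ← pre_img (center_le_BorS (F := F))]
  conv_rhs => rw [pre]
  rw [Subgroup.index_comap_of_surjective _ (QuotientGroup.mk'_surjective _),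
    pre_img (center_le_BorS (F := F))]

theorem BorType.card_dvd {G : Subgroup (SpecialLinearGroup (Fin 2) F)} (h : BorType G) :
    Nat.card G ∣ Fintype.card F * (Fintype.card F - 1) := by
  obtain ⟨g, hg⟩ := h
  have hle : G.map (MulAut.conj g).toMonoidHom ≤ BorS F := by
    rintro _ ⟨x, hx, rfl⟩
    exact hg x hx
  rw [← card_BorS, ← card_map_conj G g]
  exact card_dvd_of_le hle

end Cfsg.Agent.Lib.Helper7.PMax
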