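import Mathlib
import Cfsg.Agent.Lib.Helper7.SL2Key
import Cfsg.Agent.Lib.Helper7.SubF.Glue
import Cfsg.Agent.Lib.Helper18.SL2.PartCFinal

set_option autoImplicit false
set_option linter.unusedSimpArgs false
set_option linter.unusedSectionVars false
set_option linter.unusedVariables false

/-! Subfield subgroups of `PSL₂(F)` and their overgroups. -/

namespace Cfsg.Agent.Lib.Helper7.PSub

open Matrix MatrixGroups Subgroup Cfsg.Agent.Lib.Helper46 Cfsg.Agent.Lib.Helper18.SL2
open Cfsg.Agent.Lib.Helper7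

variable {F : Type*} [Field F] (F₀ : Subfield F)

/-- the elements of `SL₂(F)` that are rational over `F₀` up to a scalar -/
def subG : Subgroup (SpecialLinearGroup (Fin 2) F) :=
  (ProjGenLinGroup.map (n := Fin 2) F₀.subtype).range.comap SpecialLinearGroup.toPGL

/-- the subfield subgroup of `PSL₂(F)` -/
def subH : Subgroup (ProjectiveSpecialLinearGroup (Fin 2) F) :=
  (ProjGenLinGroup.map (n := Fin 2) F₀.subtype).range.comap ProjectiveSpecialLinearGroup.toPGL

variable {F₀}

theorem mk_mem_range_iff (g : GL (Fin 2) F) :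
    ProjGenLinGroup.mk g ∈ (ProjGenLinGroup.map (n := Fin 2) F₀.subtype).range ↔
      ∃ u : F, u ≠ 0 ∧ ∀ i j, (g : Matrix (Fin 2) (Fin 2) F) i j * u ∈ F₀ := by
  constructor
  · rintro ⟨x, hx⟩
    induction x using Matrix.ProjGenLinGroup.induction_on with | mk g₀ =>
    rw [ProjGenLinGroup.map_mk, eq_comm, ProjGenLinGroup.mk_eq_mk_iff] at hx
    obtain ⟨u, hu⟩ := hx
    refine ⟨u, u.ne_zero, fun i j => ?_⟩
    have h1 := congrArg (fun z : GL (Fin 2) F => (z : Matrix (Fin 2) (Fin 2) F) i j) hu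
    simp only [Units.val_mul, GeneralLinearGroup.coe_scalar] at h1
    have h2 : ((g : Matrix (Fin 2) (Fin 2) F) * (Matrix.scalar (Fin 2)) (u : F)) i j
        = (g : Matrix (Fin 2) (Fin 2) F) i j * u := by
      simp [Matrix.scalar_apply, Matrix.mul_diagonal]
    rw [h2] at h1
    rw [h1]
    exact ((g₀ : Matrix (Fin 2) (Fin 2) F₀) i j).2
  · rintro ⟨u, hu, h⟩
    have h1 : g * GeneralLinearGroup.scalar (Fin 2) (Units.mk0 u hu) ∈
        (Matrix.GeneralLinearGroup.map (n := Fin 2) (F₀.subtype : F₀ →+* F)).range := by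
      apply SubF.mem_range_of_entries
      intro i j
      have h2 : ((g * GeneralLinearGroup.scalar (Fin 2) (Units.mk0 u hu) : GL (Fin 2) F) :
          Matrix (Fin 2) (Fin 2) F) i j = (g : Matrix (Fin 2) (Fin 2) F) i j * u := by
        simp [Matrix.scalar_apply, Matrix.mul_diagonal]
      rw [h2]
      exact h i j
    obtain ⟨g₀, hg₀⟩ := h1
    refine ⟨ProjGenLinGroup.mk g₀, ?_⟩
    rw [ProjGenLinGroup.map_mk, hg₀, map_mul, ProjGenLinGroup.mk_scalar, mul_one]

theorem mem_subG_iff (g : SpecialLinearGroup (Fin 2) F) :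
    g ∈ subG F₀ ↔ ∃ u : F, u ≠ 0 ∧ ∀ i j, g.1 i j * u ∈ F₀ := by
  rw [subG, mem_comap]
  exact mk_mem_range_iff (SpecialLinearGroup.toGL g)

theorem mem_subG_of_entries {g : SpecialLinearGroup (Fin 2) F} (h : ∀ i j, g.1 i j ∈ F₀) :
    g ∈ subG F₀ :=
  (mem_subG_iff g).2 ⟨1, one_ne_zero, fun i j => by rw [mul_one]; exact h i j⟩

theorem mem_subH_iff (g : SpecialLinearGroup (Fin 2) F) :
    (QuotientGroup.mk g : ProjectiveSpecialLinearGroup (Fin 2) F) ∈ subH F₀ ↔ g ∈ subG F₀ := Iff.rfl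

theorem forall_fin2 {P : Fin 2 → Fin 2 → Prop} (h00 : P 0 0) (h01 : P 0 1) (h10 : P 1 0)
    (h11 : P 1 1) : ∀ i j, P i j := by
  intro i j
  fin_cases i <;> fin_cases j <;> assumption

theorem uu_mem_subG {a : F} (ha : a ∈ F₀) : uu a ∈ subG F₀ :=
  mem_subG_of_entries (forall_fin2 (by simpa [uu] using F₀.one_mem) (by simpa [uu] using ha)
    (by simpa [uu] using F₀.zero_mem) (by simpa [uu] using F₀.one_mem))

theorem ll_mem_subG {a : F} (ha : a ∈ F₀) : ll a ∈ subG F₀ :=
  mem_subG_of_entries (forall_fin2 (by simpa [ll] using F₀.one_mem) (by simpa [ll] using F₀.zero_mem)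
    (by simpa [ll] using ha) (by simpa [ll] using F₀.one_mem))

theorem center_le_subG : center (SpecialLinearGroup (Fin 2) F) ≤ subG F₀ := by
  intro z hz
  obtain ⟨z01, z10, z00⟩ := (mem_center_iff2 z).1 hz
  have hne : z.1 0 0 ≠ 0 := bor_ne z10
  rw [mem_subG_iff]
  refine ⟨(z.1 0 0)⁻¹, inv_ne_zero hne, forall_fin2 ?_ ?_ ?_ ?_⟩
  · rw [mul_inv_cancel₀ hne]; exact F₀.one_mem
  · rw [z01, zero_mul]; exact F₀.zero_mem
  · rw [z10, zero_mul]; exact F₀.zero_mem
  · rw [← z00, mul_inv_cancel₀ hne]; exact F₀.one_mem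

theorem uu_mem_subG_iff {a : F} : uu a ∈ subG F₀ ↔ a ∈ F₀ := by
  refine ⟨fun h => ?_, uu_mem_subG⟩
  obtain ⟨u, hu, h1⟩ := (mem_subG_iff _).1 h
  have a1 := h1 0 0
  have a2 := h1 0 1
  simp only [uu, mk2_00, mk2_01, one_mul] at a1 a2
  have := F₀.div_mem a2 a1
  rwa [mul_div_cancel_right₀ _ hu] at this

/-- an overgroup of the subfield group in the normalised situation -/
theorem overgroup_dich [Finite F] (hdich : ∀ K : Subfield F, F₀ ≤ K → K = F₀ ∨ K = ⊤)
    (G : Subgroup (SpecialLinearGroup (Fin 2) F)) (hle : subG F₀ ≤ G) (hN : Normalized G) :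
    G ≤ subG F₀ ∨ G = ⊤ := by
  obtain ⟨K, c, hc, hmem, hIn⟩ := hN.main
  have hcK : c⁻¹ ∈ K := by
    rw [← hmem, mul_inv_cancel₀ hc]
    exact hle (uu_mem_subG F₀.one_mem)
  have hF₀K : F₀ ≤ K := by
    intro f hf
    have h1 : c⁻¹ * f ∈ K := by
      rw [← hmem, ← mul_assoc, mul_inv_cancel₀ hc, one_mul]
      exact hle (uu_mem_subG hf)
    have := K.div_mem h1 hcK
    rwa [mul_div_cancel_left₀ _ (inv_ne_zero hc)] at this
  rcases hdich K hF₀K with rfl | rfl
  · left
    intro g hg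
    have h1 : Phi (diagGL c hc) g ∈ (ProjGenLinGroup.map (n := Fin 2) K.subtype).range :=
      hIn.1 ⟨g, hg, rfl⟩
    rw [Phi_apply, mk_mem_range_iff] at h1
    obtain ⟨u, hu, h2⟩ := h1
    have hcK' : c ∈ K := by
      have := K.inv_mem hcK
      rwa [inv_inv] at this
    have hinv : ((diagGL c hc)⁻¹ : GL (Fin 2) F) = diagGL c⁻¹ (inv_ne_zero hc) := by
      rw [inv_eq_iff_mul_eq_one]
      apply Units.ext
      rw [Units.val_mul, diagGL_val, diagGL_val]
      ext i j
      fin_cases i <;> fin_cases j <;> simp [Matrix.mul_apply, Fin.sum_univ_two, hc]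
    have hent : ∀ i j, ((diagGL c hc * SpecialLinearGroup.toGL g * (diagGL c hc)⁻¹ : GL (Fin 2) F) :
        Matrix (Fin 2) (Fin 2) F) i j =
        (!![g.1 0 0, c⁻¹ * g.1 0 1; c * g.1 1 0, g.1 1 1] : Matrix (Fin 2) (Fin 2) F) i j := by
      intro i j
      rw [hinv, Units.val_mul, Units.val_mul, diagGL_val, diagGL_val]
      fin_cases i <;> fin_cases j <;>
        simp [Matrix.mul_apply, Fin.sum_univ_two, Matrix.vecMul, dotProduct, hc] <;>
        try field_simp
    rw [mem_subG_iff]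
    refine ⟨u, hu, forall_fin2 ?_ ?_ ?_ ?_⟩
    · have := h2 0 0
      rw [hent] at this
      simpa using this
    · have := h2 0 1
      rw [hent] at this
      simp only [Matrix.of_apply, Matrix.cons_val_zero, Matrix.cons_val_one] at this
      have h3 := K.mul_mem hcK' this
      have e : c * (c⁻¹ * g.1 0 1 * u) = g.1 0 1 * u := by field_simp
      rwa [e] at h3
    · have := h2 1 0
      rw [hent] at this
      simp only [Matrix.of_apply, Matrix.cons_val_zero, Matrix.cons_val_one] at this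
      have h3 := K.mul_mem hcK this
      have e : c⁻¹ * (c * g.1 1 0 * u) = g.1 1 0 * u := by field_simp
      rwa [e] at h3
    · have := h2 1 1
      rw [hent] at this
      simpa using this
  · right
    have hu : ∀ x, uu x ∈ G := by
      intro x
      have : uu (c * (c⁻¹ * x)) ∈ G := (hmem _).2 (Subfield.mem_top _)
      rwa [← mul_assoc, mul_inv_cancel₀ hc, one_mul] at this
    have hw : ww ∈ G := by
      apply hle
      apply mem_subG_of_entries
      apply forall_fin2 <;> simp [ww, F₀.zero_mem, F₀.one_mem, F₀.neg_mem]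
    apply eq_top_of_uSL_lSL
    · intro b
      have : uSL b = uu b := by
        apply ext2 <;> simp [uSL_val, uu]
      rw [this]; exact hu b
    · intro b
      have : lSL b = ww * uu (-b) * ww⁻¹ ∨ lSL b = ww⁻¹ * uu (-b) * ww := by
        left
        apply ext2 <;> simp [lSL_val, uu, ww, mul_00, mul_01, mul_10, mul_11, inv_00, inv_01, inv_10,
          inv_11]
      rcases this with h | h
      · rw [h]; exact G.mul_mem (G.mul_mem hw (hu _)) (G.inv_mem hw)
      · rw [h]; exact G.mul_mem (G.mul_mem (G.inv_mem hw) (hu _)) hw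

end Cfsg.Agent.Lib.Helper7.PSub
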