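import Mathlib
import Cfsg.Agent.Lib.Helper7.SL2Full2

set_option autoImplicit false
set_option linter.unusedSimpArgs false
set_option linter.unusedSectionVars false
set_option linter.unusedVariables false

/-! Dickson's theorem, final form: the exceptional groups only occur in odd characteristic. -/

namespace Cfsg.Agent.Lib.Helper7

open Matrix Subgroup Cfsg.Agent.Lib.Helper46 Cfsg.Agent.Lib.Helper18.SL2

variable {F : Type*} [Field F] [Fintype F]

theorem two_ne_zero_of_ss {G : Subgroup (SpecialLinearGroup (Fin 2) F)}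
    (hss : ∀ x ∈ G, x ∉ center (SpecialLinearGroup (Fin 2) F) → tr x ^ 2 ≠ 4)
    (h2 : 2 ∣ Nat.card G) : (2 : F) ≠ 0 := by
  intro h20
  obtain ⟨y, hy⟩ := exists_prime_orderOf_dvd_card' (G := G) 2 h2
  have hb : center (SpecialLinearGroup (Fin 2) F) = ⊥ :=
    Subgroup.eq_bot_of_card_eq _ (zc_of_two_eq h20)
  have hy1 : y.1 ≠ 1 := by
    intro h
    have : y = 1 := Subtype.ext h
    rw [this, orderOf_one] at hy
    norm_num at hy
  have hyc : y.1 ∉ center (SpecialLinearGroup (Fin 2) F) := by
    rw [hb, mem_bot]; exact hy1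
  apply hss y.1 y.2 hyc
  have hsq : y.1 * y.1 = 1 := by
    have := pow_orderOf_eq_one y
    rw [hy, pow_two] at this
    exact congrArg Subtype.val this
  have hinv : y.1 = y.1⁻¹ := eq_inv_of_mul_eq_one_left hsq
  have h00 : y.1.1 0 0 = y.1.1 1 1 := by
    have := congrArg (fun w : SpecialLinearGroup (Fin 2) F => w.1 0 0) hinv
    simpa [inv_00] using this
  rw [tr, h00]
  linear_combination (2 * y.1.1 1 1 ^ 2 - 2) * h20

/-- **Dickson's theorem** for subgroups of `SL₂(q)` containing the centre. -/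
theorem dickson (p : ℕ) [Fact p.Prime] [CharP F p]
    (G : Subgroup (SpecialLinearGroup (Fin 2) F))
    (hZ : center (SpecialLinearGroup (Fin 2) F) ≤ G) :
    (∃ g : SpecialLinearGroup (Fin 2) F, ∀ x ∈ G, (g * x * g⁻¹).1 1 0 = 0) ∨
    Tor G ∨ (Exc G ∧ (2 : F) ≠ 0) ∨
    (∃ (K : Subfield F) (D : GL (Fin 2) F), InSub K D G ∧ 3 ≤ Nat.card K) := by
  by_cases hss : ∀ x ∈ G, x ∉ center (SpecialLinearGroup (Fin 2) F) → tr x ^ 2 ≠ 4
  · rcases pprime_analysis G hZ hss with h | h | h | h | h
    · left
      refine ⟨1, fun x hx => ?_⟩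
      rw [h] at hx
      simpa using ((mem_center_iff2 x).1 hx).2.1
    · right; left; exact Tor_of_card h
    · right; right; left
      exact ⟨Or.inl h, two_ne_zero_of_ss hss (by rw [h.1]; exact Dvd.dvd.mul_left (by norm_num) _)⟩
    · right; right; left
      exact ⟨Or.inr (Or.inl h),
        two_ne_zero_of_ss hss (by rw [h.1]; exact Dvd.dvd.mul_left (by norm_num) _)⟩
    · right; right; left
      exact ⟨Or.inr (Or.inr h),
        two_ne_zero_of_ss hss (by rw [h.1]; exact Dvd.dvd.mul_left (by norm_num) _)⟩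
  push Not at hss
  obtain ⟨x, hxG, hxc, hxt⟩ := hss
  -- a unipotent element
  obtain ⟨u, huG, huc, hut⟩ : ∃ u ∈ G, u ∉ center (SpecialLinearGroup (Fin 2) F) ∧ tr u = 2 := by
    have h' : (tr x - 2) * (tr x + 2) = 0 := by linear_combination hxt
    rcases mul_eq_zero.1 h' with h1 | h1
    · exact ⟨x, hxG, hxc, by linear_combination h1⟩
    · refine ⟨negOne * x, G.mul_mem (hZ negOne_mem_center) hxG, ?_, ?_⟩
      · intro h
        apply hxc
        have := (center _).mul_mem ((center _).inv_mem negOne_mem_center) h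
        simpa using this
      · rw [tr_negOne_mul]; linear_combination -h1
  by_cases hfix : ∀ h ∈ G, tr (u * (h * u * h⁻¹)) = 2
  · left
    obtain ⟨g, a, hg⟩ := exists_conj_uu hut
    have ha : a ≠ 0 := by
      rintro rfl
      rw [uu_zero] at hg
      apply huc
      have : u = 1 := by
        have := congrArg (fun w => g⁻¹ * w * g) hg
        simpa [mul_assoc] using this
      rw [this]; exact one_mem _
    refine ⟨g, fun w hw => ?_⟩
    have h1 := tr_uu_conj a (g * w * g⁻¹)
    have h2 : uu a * (g * w * g⁻¹ * uu a * (g * w * g⁻¹)⁻¹) = g * (u * (w * u * w⁻¹)) * g⁻¹ := by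
      rw [← hg]; group
    rw [h2, tr_conj, hfix w hw] at h1
    have h3 : (a * (g * w * g⁻¹).1 1 0) ^ 2 = 0 := by linear_combination h1
    have h4 := pow_eq_zero_iff (two_ne_zero) |>.1 h3
    exact (mul_eq_zero.1 h4).resolve_left ha
  push Not at hfix
  obtain ⟨h, hhG, hne⟩ := hfix
  obtain ⟨g, a, b, hga, hgb, hab⟩ := exists_conj_uu_ll hut (by rw [tr_conj]; exact hut) hne
  have hab0 : a * b ≠ 0 := by
    rw [hab]; exact sub_ne_zero.2 hne
  have ha : a ≠ 0 := left_ne_zero_of_mul hab0
  have hb : b ≠ 0 := right_ne_zero_of_mul hab0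
  set G' := G.map (MulAut.conj g).toMonoidHom with hG'
  have hZ' : center (SpecialLinearGroup (Fin 2) F) ≤ G' := by
    intro w hw
    refine ⟨w, hZ hw, ?_⟩
    simp only [MulEquiv.coe_toMonoidHom, MulAut.conj_apply]
    rw [mem_center_iff.1 hw g]; group
  have hu' : uu a ∈ G' := ⟨u, huG, by simpa using hga⟩
  have hl' : ll b ∈ G' := ⟨h * u * h⁻¹, G.mul_mem (G.mul_mem hhG huG) (G.inv_mem hhG), by
    simpa using hgb⟩
  have hπ : 2 ≤ Nat.card (addOf G') := by
    have : Nontrivial (addOf G') := ⟨⟨⟨a, hu'⟩, 0, fun h => ha (congrArg Subtype.val h)⟩⟩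
    exact Finite.one_lt_card
  rcases Nat.lt_or_ge (Nat.card (addOf G')) 3 with h3 | h3
  · right; left
    exact Tor_conj g (Tor_of_card (analysis_two p G' hZ' ha hb hu' hl' (by omega)))
  · have h0 := zero_mem_ptsOf p G' ha hb hu' hl'
    rcases main_analysisZ' p G' hZ' ha hb hu' hl' h3 with hh | ⟨hπ3, h60, hdata⟩
    · right; right; right
      have hN : Normalized G' := by
        refine ⟨⟨b, hb, hl'⟩, fun w hw => ?_⟩
        by_cases w10 : w.1 1 0 = 0
        · left; exact w10
        · right
          have hm : w.1 0 0 / w.1 1 0 ∈ ptsOf G' := ⟨w, hw, w10, by field_simp⟩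
          have := hh _ hm _ h0
          rwa [sub_zero] at this
      obtain ⟨K, c, hc, hmem, hIn⟩ := hN.main
      refine ⟨K, _, InSub.conj g hIn, ?_⟩
      have hcard : Nat.card K = Nat.card (addOf G') := by
        apply Nat.card_eq_of_bijective (fun y : K => (⟨c * y.1, (hmem _).2 y.2⟩ : addOf G'))
        constructor
        · intro y y' h
          have h1 : c * y.1 = c * y'.1 := congrArg Subtype.val h
          exact Subtype.ext (mul_left_cancel₀ hc h1)
        · rintro ⟨a', ha'⟩
          have h1 : c * (a' / c) = a' := by field_simp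
          refine ⟨⟨a' / c, (hmem _).1 (by rw [h1]; exact ha')⟩, ?_⟩
          exact Subtype.ext h1
      rw [hcard]; exact h3
    · right; right; left
      refine ⟨Exc_conj g (Or.inr (Or.inr ⟨h60, hdata⟩)), ?_⟩
      intro h20
      have h1 : Nat.card (addOf G') • (⟨a, hu'⟩ : addOf G') = 0 := card_nsmul_eq_zero'
      rw [hπ3] at h1
      have h2' : (3 : ℕ) • a = 0 := by simpa using congrArg Subtype.val h1
      rw [nsmul_eq_mul] at h2'
      have h4 : ((3 : ℕ) : F) = 0 := (mul_eq_zero.1 h2').resolve_right ha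
      have h5 : (1 : F) = 0 := by
        push_cast at h4
        linear_combination h4 - h20
      exact one_ne_zero h5



end Cfsg.Agent.Lib.Helper7
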