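import Mathlib
import Cfsg.Agent.Lib.Helper7.PSL2Bor
import Cfsg.Agent.Lib.Helper7.SL2Full3
import Cfsg.Agent.Lib.Helper7.PSL2Sub

set_option autoImplicit false
set_option linter.unusedSimpArgs false
set_option linter.unusedSectionVars false
set_option linter.unusedVariables false

/-! Normalisers of tori in `SL₂(q)`; traces in subfield subgroups. -/

namespace Cfsg.Agent.Lib.Helper7.PMax

open Matrix MatrixGroups Subgroup Cfsg.Agent.Lib.Helper46 Cfsg.Agent.Lib.Helper18.SL2
open Cfsg.Agent.Lib.Helper7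

variable {F : Type*} [Field F]

/-- the normaliser of the torus of `x` -/
def torN (x : SpecialLinearGroup (Fin 2) F) : Subgroup (SpecialLinearGroup (Fin 2) F) :=
  norIn ⊤ (cenIn ⊤ x)

theorem cenIn_top (x : SpecialLinearGroup (Fin 2) F) :
    cenIn ⊤ x = centralizer ({x} : Set (SpecialLinearGroup (Fin 2) F)) := top_inf_eq _

theorem cenIn_inv (H : Subgroup (SpecialLinearGroup (Fin 2) F)) (x : SpecialLinearGroup (Fin 2) F) :
    cenIn H x⁻¹ = cenIn H x := by
  ext w
  rw [mem_cenIn, mem_cenIn]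
  exact and_congr Iff.rfl ⟨fun h => by simpa using h.inv_right, fun h => h.inv_right⟩

theorem mem_torN_iff {x : SpecialLinearGroup (Fin 2) F} (hs : tr x ^ 2 ≠ 4)
    {h : SpecialLinearGroup (Fin 2) F} : h ∈ torN x ↔ Commute h x ∨ h * x * h⁻¹ = x⁻¹ := by
  constructor
  · intro hh
    rcases norIn_cen_or_inv ⊤ (mem_top x) hs hh with h1 | h1
    · left; exact (mem_cenIn.1 h1).2
    · right; exact h1
  · intro hh
    refine mem_norIn.2 ⟨mem_top _, fun v => ?_⟩
    have key := conj_mem_cenIn_iff commTrans_SL2 (H := ⊤) (mem_top h) x v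
    rcases hh with h1 | h1
    · have e : h * x * h⁻¹ = x := by rw [h1.eq]; group
      rw [e] at key
      exact key.symm
    · rw [h1, cenIn_inv] at key
      exact key.symm

theorem center_le_torN (x : SpecialLinearGroup (Fin 2) F) :
    center (SpecialLinearGroup (Fin 2) F) ≤ torN x :=
  (center_le_cenIn le_top x).trans (le_norIn (cenIn_le _ _))

theorem centralizer_le_torN (x : SpecialLinearGroup (Fin 2) F) :
    centralizer ({x} : Set (SpecialLinearGroup (Fin 2) F)) ≤ torN x := by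
  rw [← cenIn_top]; exact le_norIn (cenIn_le _ _)

theorem self_mem_torN (x : SpecialLinearGroup (Fin 2) F) : x ∈ torN x :=
  centralizer_le_torN x (mem_centralizer_singleton_iff.2 rfl)

theorem le_torN {x : SpecialLinearGroup (Fin 2) F} (hs : tr x ^ 2 ≠ 4)
    {G : Subgroup (SpecialLinearGroup (Fin 2) F)}
    (h : ∀ h ∈ G, Commute h x ∨ h * x * h⁻¹ = x⁻¹) : G ≤ torN x :=
  fun g hg => (mem_torN_iff hs).2 (h g hg)

theorem tr_sq_eq (x : SpecialLinearGroup (Fin 2) F) : tr (x * x) = tr x ^ 2 - 2 := by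
  have hd := det2 x
  simp only [tr, mul_00, mul_11]
  linear_combination (-2 : F) * hd

theorem tr_inv (x : SpecialLinearGroup (Fin 2) F) : tr x⁻¹ = tr x := by
  simp only [tr, inv_00, inv_11]; ring

/-- a group containing a semisimple element and an element inverting it is not triangularisable -/
theorem not_borType {G : Subgroup (SpecialLinearGroup (Fin 2) F)}
    {x w : SpecialLinearGroup (Fin 2) F} (hs : tr x ^ 2 ≠ 4) (hx : x ∈ G) (hw : w ∈ G)
    (hwx : w * x * w⁻¹ = x⁻¹) : ¬ BorType G := by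
  intro hB
  obtain ⟨g, hg⟩ := hB.commutator
  obtain ⟨e, he⟩ := hg w hw x hx
  rw [hwx] at he
  have h1 : tr (x⁻¹ * x⁻¹) = 2 := by
    rw [he]
    have : g⁻¹ * uu e * g = g⁻¹ * uu e * g⁻¹⁻¹ := by group
    rw [this, tr_conj, tr_uu]
  rw [tr_sq_eq, tr_inv] at h1
  apply hs
  linear_combination h1

/-- squares of traces in a subfield subgroup lie in the subfield -/
theorem InSub.tr_sq_mem {K : Subfield F} {D : GL (Fin 2) F}
    {G : Subgroup (SpecialLinearGroup (Fin 2) F)} (h : InSub K D G)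
    {g : SpecialLinearGroup (Fin 2) F} (hg : g ∈ G) : tr g ^ 2 ∈ K := by
  have h1 : Phi D g ∈ (ProjGenLinGroup.map (n := Fin 2) K.subtype).range := h.1 ⟨g, hg, rfl⟩
  rw [Phi_apply, PSub.mk_mem_range_iff] at h1
  obtain ⟨u, hu, hent⟩ := h1
  set g' : Matrix (Fin 2) (Fin 2) F :=
    ((D * SpecialLinearGroup.toGL g * D⁻¹ : GL (Fin 2) F) : Matrix (Fin 2) (Fin 2) F) with hg'
  have htr : g' 0 0 + g' 1 1 = tr g := by
    have e1 : g'.trace = (g.1).trace := by
      rw [hg']
      simp only [Units.val_mul, SpecialLinearGroup.coe_GL_coe_matrix]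
      rw [Matrix.trace_mul_cycle]
      have : ((D⁻¹ : GL (Fin 2) F) : Matrix (Fin 2) (Fin 2) F) * (D : Matrix (Fin 2) (Fin 2) F) = 1 := by
        rw [← Units.val_mul]; simp
      rw [this, one_mul]
    rw [Matrix.trace_fin_two, Matrix.trace_fin_two] at e1
    exact e1
  have hdet : g' 0 0 * g' 1 1 - g' 0 1 * g' 1 0 = 1 := by
    have e1 : g'.det = 1 := by
      rw [hg']
      simp only [Units.val_mul, SpecialLinearGroup.coe_GL_coe_matrix, Matrix.det_mul]
      have e2 : (D : Matrix (Fin 2) (Fin 2) F).det * ((D⁻¹ : GL (Fin 2) F) : Matrix (Fin 2) (Fin 2) F).det = 1 := by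
        rw [← Matrix.det_mul, ← Units.val_mul]; simp
      rw [g.2, mul_one, e2]
    rw [Matrix.det_fin_two] at e1
    exact e1
  have a1 : tr g * u ∈ K := by
    rw [← htr, add_mul]
    exact K.add_mem (hent 0 0) (hent 1 1)
  have a2 : u ^ 2 ∈ K := by
    have : u ^ 2 = (g' 0 0 * u) * (g' 1 1 * u) - (g' 0 1 * u) * (g' 1 0 * u) := by
      linear_combination (-u ^ 2) * hdet
    rw [this]
    exact K.sub_mem (K.mul_mem (hent 0 0) (hent 1 1)) (K.mul_mem (hent 0 1) (hent 1 0))
  have : tr g ^ 2 = (tr g * u) ^ 2 / u ^ 2 := by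
    field_simp
  rw [this]
  exact K.div_mem (K.pow_mem a1 2) a2

variable [Fintype F]

theorem Tor_torN {x : SpecialLinearGroup (Fin 2) F} (hs : tr x ^ 2 ≠ 4) : Tor (torN x) :=
  ⟨x, self_mem_torN x, hs, fun h hh => (mem_torN_iff hs).1 hh⟩

theorem card_addOf_top : Nat.card (addOf (⊤ : Subgroup (SpecialLinearGroup (Fin 2) F))) =
    Fintype.card F := by
  have : addOf (⊤ : Subgroup (SpecialLinearGroup (Fin 2) F)) = ⊤ := by
    ext a
    simp [mem_addOf]
  rw [this, AddSubgroup.card_top, Nat.card_eq_fintype_card]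

theorem card_torN {x : SpecialLinearGroup (Fin 2) F} (hs : tr x ^ 2 ≠ 4)
    (hq : 3 ≤ Fintype.card F) :
    Nat.card (torN x) =
      2 * Nat.card (centralizer ({x} : Set (SpecialLinearGroup (Fin 2) F))) := by
  obtain ⟨p, hp⟩ := CharP.exists F
  haveI : Fact p.Prime := ⟨CharP.char_is_prime F p⟩
  have := all_inverted p (⊤ : Subgroup (SpecialLinearGroup (Fin 2) F)) le_top
    (one_ne_zero (α := F)) (one_ne_zero (α := F)) (mem_top _) (mem_top _)
    (by rw [card_addOf_top]; exact hq) x (mem_top _) hs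
  rw [cenIn_top] at this
  rw [torN, cenIn_top]
  exact this

/-- there is an element inverting a given semisimple element -/
theorem exists_inverting {x : SpecialLinearGroup (Fin 2) F} (hs : tr x ^ 2 ≠ 4)
    (hq : 3 ≤ Fintype.card F) : ∃ w : SpecialLinearGroup (Fin 2) F, w * x * w⁻¹ = x⁻¹ := by
  by_contra hcon
  push Not at hcon
  have hle : torN x ≤ centralizer ({x} : Set (SpecialLinearGroup (Fin 2) F)) := by
    intro h hh
    rcases (mem_torN_iff hs).1 hh with h1 | h1
    · exact mem_centralizer_singleton_iff.2 h1.eq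
    · exact absurd h1 (hcon h)
  have h1 := Subgroup.card_le_of_le hle
  rw [card_torN hs hq] at h1
  have : 0 < Nat.card (centralizer ({x} : Set (SpecialLinearGroup (Fin 2) F))) := Nat.card_pos
  omega

end Cfsg.Agent.Lib.Helper7.PMax
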