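import Mathlib
import Cfsg.Agent.Lib.Helper7.PSL2TorN

set_option autoImplicit false
set_option linter.unusedSimpArgs false
set_option linter.unusedSectionVars false
set_option linter.unusedVariables false

/-! Overgroups of the normaliser of a torus in `PSL₂(q)`. -/

namespace Cfsg.Agent.Lib.Helper7.PMax

open Matrix MatrixGroups Subgroup Cfsg.Agent.Lib.Helper46 Cfsg.Agent.Lib.Helper18.SL2
open Cfsg.Agent.Lib.Helper7

variable {F : Type*} [Field F] [Fintype F]

set_option maxHeartbeats 800000 in
theorem torN_overgroup (p : ℕ) [Fact p.Prime] [CharP F p] {x : SpecialLinearGroup (Fin 2) F}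
    (hs : tr x ^ 2 ≠ 4) (hq : 3 ≤ Fintype.card F)
    (hc : Fintype.card F + 1 <
      2 * Nat.card (centralizer ({x} : Set (SpecialLinearGroup (Fin 2) F))))
    (M : Subgroup (ProjectiveSpecialLinearGroup (Fin 2) F)) (hlt : img (torN x) < M) :
    ((2 : F) ≠ 0 ∧
      ((Nat.card (pre M) = 24 ∧
          Nat.card (centralizer ({x} : Set (SpecialLinearGroup (Fin 2) F))) = 4) ∨
       (Nat.card (pre M) = 48 ∧
          (Nat.card (centralizer ({x} : Set (SpecialLinearGroup (Fin 2) F))) = 4 ∨
           Nat.card (centralizer ({x} : Set (SpecialLinearGroup (Fin 2) F))) = 6 ∨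
           Nat.card (centralizer ({x} : Set (SpecialLinearGroup (Fin 2) F))) = 8)) ∨
       (Nat.card (pre M) = 120 ∧
          (Nat.card (centralizer ({x} : Set (SpecialLinearGroup (Fin 2) F))) = 4 ∨
           Nat.card (centralizer ({x} : Set (SpecialLinearGroup (Fin 2) F))) = 6 ∨
           Nat.card (centralizer ({x} : Set (SpecialLinearGroup (Fin 2) F))) = 10)))) ∨
    (∃ (K : Subfield F) (D : GL (Fin 2) F), InSub K D (pre M) ∧ 3 ≤ Nat.card K) := by
  set C := centralizer ({x} : Set (SpecialLinearGroup (Fin 2) F)) with hC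
  set G := pre M with hG
  have hxc : x ∉ center (SpecialLinearGroup (Fin 2) F) := fun h => hs (tr_sq_of_mem_center x h)
  have hNG : torN x ≤ G := by
    rw [← pre_img (center_le_torN x), hG, pre_le_pre]
    exact hlt.le
  have hNne : torN x ≠ G := by
    intro h
    apply hlt.ne
    rw [h, hG, img_pre]
  have hcardN := card_torN hs hq
  rw [← hC] at hcardN
  have hxG : x ∈ G := hNG (self_mem_torN x)
  obtain ⟨w, hw⟩ := exists_inverting hs hq
  have hwG : w ∈ G := hNG ((mem_torN_iff hs).2 (Or.inr hw))
  have hCG : C ≤ G := (centralizer_le_torN x).trans hNG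
  have hcen : cenIn G x = C := inf_eq_right.2 hCG
  have hnor : torN x ≤ norIn G (cenIn G x) := by
    rw [hcen]
    refine le_inf hNG ?_
    rw [torN, cenIn_top]
    exact inf_le_right
  have hnorcard : 2 * Nat.card C ≤ Nat.card (norIn G (cenIn G x)) := by
    rw [← hcardN]; exact Subgroup.card_le_of_le hnor
  have hCpos : 0 < Nat.card C := Nat.card_pos
  rcases dickson p G (center_le_pre M) with h | h | ⟨h, h2⟩ | h
  · exact absurd h (not_borType hs hxG hwG hw)
  · exfalso
    have h1 := Tor.card_le h
    obtain ⟨k, hk⟩ := card_dvd_of_le hNG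
    rw [hcardN] at hk
    have hk2 : 2 ≤ k := by
      by_contra hlt'
      have : k = 0 ∨ k = 1 := by omega
      rcases this with rfl | rfl
      · have : 0 < Nat.card G := Nat.card_pos
        omega
      · apply hNne
        exact eq_of_le_of_card_ge hNG (by rw [hcardN, hk, mul_one])
    have : 2 * Nat.card C * 2 ≤ 2 * Nat.card C * k := Nat.mul_le_mul_left _ hk2
    omega
  · left
    refine ⟨h2, ?_⟩
    have hz : zc F = 2 := zc_of_two_ne h2
    rcases h with ⟨h1, hd⟩ | ⟨h1, hd⟩ | ⟨h1, hd⟩
    · left
      rw [hz] at h1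
      refine ⟨h1, ?_⟩
      rcases hd x hxG hxc with ⟨e1, e2⟩ | ⟨e1, e2⟩
      · rw [hcen, hz] at e1; exact e1
      · exfalso
        rw [hcen, hz] at e1
        rw [hz] at e2
        omega
    · right; left
      rw [hz] at h1
      refine ⟨h1, ?_⟩
      rcases hd x hxG hxc with ⟨e1, -⟩ | ⟨e1, -⟩ | ⟨e1, -⟩ <;> rw [hcen, hz] at e1
      · left; exact e1
      · right; left; exact e1
      · right; right; exact e1
    · right; right
      rw [hz] at h1
      refine ⟨h1, ?_⟩
      rcases hd x hxG hxc with ⟨e1, -⟩ | ⟨e1, -⟩ | ⟨e1, -⟩ <;> rw [hcen, hz] at e1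
      · left; exact e1
      · right; left; exact e1
      · right; right; exact e1
  · right; exact h

/-- the image of the normaliser of a torus is dihedral -/
theorem img_torN_dihedral {x : SpecialLinearGroup (Fin 2) F} (hs : tr x ^ 2 ≠ 4)
    (hq : 3 ≤ Fintype.card F) {n : ℕ}
    (hn : Nat.card (centralizer ({x} : Set (SpecialLinearGroup (Fin 2) F))) = zc F * n)
    (hc : Fintype.card F + 1 <
      2 * Nat.card (centralizer ({x} : Set (SpecialLinearGroup (Fin 2) F)))) :
    Nat.card (img (torN x)) = 2 * n ∧ Nonempty (img (torN x) ≃* DihedralGroup n) := by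
  have hzpos := zc_pos F
  have hcard : Nat.card (img (torN x)) = 2 * n := by
    apply Nat.eq_of_mul_eq_mul_left hzpos
    rw [← card_img (center_le_torN x), card_torN hs hq, hn]; ring
  refine ⟨hcard, ?_⟩
  have hT : Tor (pre (img (torN x))) := by
    rw [pre_img (center_le_torN x)]; exact Tor_torN hs
  obtain ⟨k, hk, h | ⟨h1, h2⟩⟩ := tor_struct _ hT
  · exfalso
    rw [hcard] at h
    have hk2 : zc F * k = 2 * Nat.card (centralizer ({x} : Set (SpecialLinearGroup (Fin 2) F))) := by
      rw [hn, ← h.2]; ring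
    rw [hk2] at hk
    rcases hk with hk | hk
    · have := Nat.le_of_dvd (by omega) hk
      omega
    · have := Nat.le_of_dvd (by omega) hk
      omega
  · have : k = n := by omega
    rw [← this]; exact h2

end Cfsg.Agent.Lib.Helper7.PMax
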