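import Mathlib
import Cfsg.Agent.Lib.Helper7.PSL2TorMax

set_option autoImplicit false
set_option linter.unusedSimpArgs false
set_option linter.unusedSectionVars false
set_option linter.unusedVariables false

/-! Parity of `q` and the order of the centre of `SL₂(q)`. -/

namespace Cfsg.Agent.Lib.Helper7.PMax

open Matrix MatrixGroups Subgroup Cfsg.Agent.Lib.Helper46 Cfsg.Agent.Lib.Helper18.SL2
open Cfsg.Agent.Lib.Helper7

variable {F : Type*} [Field F] [Fintype F]

theorem even_card_of_two_eq (h2 : (2 : F) = 0) : Even (Fintype.card F) := by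
  obtain ⟨p, hchar⟩ := CharP.exists F
  obtain ⟨n, hpp, hn⟩ := FiniteField.card F p
  have hp2 : p = 2 := by
    have h' : ((2 : ℕ) : F) = 0 := by exact_mod_cast h2
    rw [CharP.cast_eq_zero_iff F p] at h'
    exact (Nat.prime_dvd_prime_iff_eq hpp Nat.prime_two).1 h'
  rw [hn, hp2]
  exact (Nat.even_pow.2 ⟨even_two, n.ne_zero⟩)

theorem odd_card_of_two_ne (h2 : (2 : F) ≠ 0) : Odd (Fintype.card F) := by
  obtain ⟨p, hchar⟩ := CharP.exists F
  obtain ⟨n, hpp, hn⟩ := FiniteField.card F p
  rw [hn]
  apply Odd.pow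
  rcases hpp.eq_two_or_odd' with h' | h'
  · exfalso
    apply h2
    have := CharP.cast_eq_zero F p
    rw [h'] at this
    exact_mod_cast this
  · exact h'

theorem zc_eq_gcd : zc F = Nat.gcd 2 (Fintype.card F - 1) := by
  have hq : 2 ≤ Fintype.card F := Fintype.one_lt_card
  by_cases h2 : (2 : F) = 0
  · rw [zc_of_two_eq h2]
    obtain ⟨k, hk⟩ := even_card_of_two_eq h2
    have : Fintype.card F - 1 = 2 * (k - 1) + 1 := by omega
    rw [this]
    simp
  · rw [zc_of_two_ne h2]
    obtain ⟨k, hk⟩ := odd_card_of_two_ne h2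
    have : Fintype.card F - 1 = 2 * k := by omega
    rw [this]
    simp

theorem card_pre_dvd (M : Subgroup (ProjectiveSpecialLinearGroup (Fin 2) F)) :
    Nat.card (pre M) ∣ Fintype.card F * (Fintype.card F ^ 2 - 1) := by
  rw [← card_SL2]
  exact Subgroup.card_subgroup_dvd_card _

theorem eq_top_of_card_pre {M : Subgroup (ProjectiveSpecialLinearGroup (Fin 2) F)}
    (h : Nat.card (pre M) = Fintype.card F * (Fintype.card F ^ 2 - 1)) : M = ⊤ := by
  apply eq_top_of_card
  left
  rw [← card_pre]; exact h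

/-- the order of the preimage of a subfield subgroup divides `2 q₀ (q₀² - 1)` -/
theorem InSub.card_dvd {K : Subfield F} {D : GL (Fin 2) F}
    {M : Subgroup (ProjectiveSpecialLinearGroup (Fin 2) F)} (h : InSub K D (pre M)) :
    Nat.card (pre M) ∣ 2 * (Nat.card K * (Nat.card K ^ 2 - 1)) ∧
      (Nat.card K = Fintype.card F → M = ⊤) := by
  rcases h.equiv M (fun g => Iff.rfl) with ⟨⟨e⟩⟩ | ⟨⟨e⟩⟩
  · have h1 := card_of_equiv_psl e
    refine ⟨by rw [card_pre, h1]; exact Dvd.intro_left 2 rfl, fun hK => ?_⟩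
    apply eq_top_of_card
    left
    rw [h1, hK]
  · have h1 := card_of_equiv_pgl e
    refine ⟨?_, fun hK => ?_⟩
    · rw [card_pre, h1]
      apply Nat.mul_dvd_mul_right
      rcases zc_cases F with h | h <;> rw [h] <;> norm_num
    · apply eq_top_of_card
      right
      rw [h1, hK]

theorem card_eq_pow (K : Subfield F) : Fintype.card F = Nat.card K ^ Module.finrank K F := by
  rw [← Module.natCard_eq_pow_finrank, Nat.card_eq_fintype_card]

end Cfsg.Agent.Lib.Helper7.PMax
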