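import Mathlib
import Cfsg.Agent.Lib.Helper7.PSL2Num
import Cfsg.Agent.Lib.Helper7.SL2Full3
import Cfsg.Agent.S0228
import Cfsg.Agent.S1012
import Cfsg.Agent.S0494

set_option autoImplicit false
set_option linter.unusedSimpArgs false
set_option linter.unusedSectionVars false
set_option linter.unusedVariables false

/-! Recognition of the exceptional subgroups `A₄`, `S₄`, `A₅` of `PSL₂(q)` from their class data. -/

namespace Cfsg.Agent.Lib.Helper7.PMax

open Matrix MatrixGroups Subgroup Cfsg.Agent.Lib.Helper46 Cfsg.Agent.Lib.Helper18.SL2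
open Cfsg.Agent.Lib.Helper7

variable {F : Type*} [Field F] [Fintype F]

theorem center_le_cenIn {G : Subgroup (SpecialLinearGroup (Fin 2) F)}
    (hZ : center (SpecialLinearGroup (Fin 2) F) ≤ G) (y : SpecialLinearGroup (Fin 2) F) :
    center (SpecialLinearGroup (Fin 2) F) ≤ cenIn G y := by
  intro z hz
  exact mem_cenIn.2 ⟨hZ hz, (mem_center_iff.1 hz y).symm⟩

theorem CD_pow_mem {G : Subgroup (SpecialLinearGroup (Fin 2) F)}
    (hZ : center (SpecialLinearGroup (Fin 2) F) ≤ G) {c ε : ℕ}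
    {y : SpecialLinearGroup (Fin 2) F} (hy : y ∈ G) (h : CD G c ε y) :
    y ^ c ∈ center (SpecialLinearGroup (Fin 2) F) :=
  pow_mem_of_card (A := cenIn G y) (center_le_cenIn hZ y) le_rfl h.1 (self_mem_cenIn hy)

theorem cenIn_central_mul (G : Subgroup (SpecialLinearGroup (Fin 2) F))
    {z : SpecialLinearGroup (Fin 2) F} (hz : z ∈ center (SpecialLinearGroup (Fin 2) F))
    (y : SpecialLinearGroup (Fin 2) F) : cenIn G (z * y) = cenIn G y := by
  ext w
  rw [mem_cenIn, mem_cenIn]
  refine and_congr Iff.rfl ?_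
  have hzw : Commute w z := (mem_center_iff.1 hz w)
  constructor
  · intro h
    have h1 : Commute w (z⁻¹ * (z * y)) := hzw.inv_right.mul_right h
    simpa using h1
  · intro h
    exact hzw.mul_right h

theorem norIn_eq_of_central_mod {G : Subgroup (SpecialLinearGroup (Fin 2) F)}
    {y : SpecialLinearGroup (Fin 2) F}
    (h : ∀ g ∈ G, g * y * g⁻¹ * y⁻¹ ∈ center (SpecialLinearGroup (Fin 2) F)) :
    norIn G (cenIn G y) = G := by
  refine le_antisymm (norIn_le _ _) ?_
  intro g hg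
  refine mem_norIn.2 ⟨hg, fun w => ?_⟩
  have h1 := conj_mem_cenIn_iff commTrans_SL2 hg y w
  have h2 : g * y * g⁻¹ = (g * y * g⁻¹ * y⁻¹) * y := by group
  rw [h2, cenIn_central_mul G (h g hg)] at h1
  exact h1.symm

/-- a central element of `M` lifts to an element with normal centraliser -/
theorem norIn_eq_of_mem_center {M : Subgroup (ProjectiveSpecialLinearGroup (Fin 2) F)}
    {y : SpecialLinearGroup (Fin 2) F} (hy : y ∈ pre M)
    (hc : (⟨QuotientGroup.mk y, hy⟩ : M) ∈ center M) :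
    norIn (pre M) (cenIn (pre M) y) = pre M := by
  apply norIn_eq_of_central_mod
  intro g hg
  have h1 := mem_center_iff.1 hc ⟨QuotientGroup.mk g, hg⟩
  have h2 : (QuotientGroup.mk g : ProjectiveSpecialLinearGroup (Fin 2) F) * QuotientGroup.mk y =
      QuotientGroup.mk y * QuotientGroup.mk g := congrArg Subtype.val h1
  rw [← QuotientGroup.eq_one_iff]
  have h3 : ((g * y * g⁻¹ * y⁻¹ : SpecialLinearGroup (Fin 2) F) :
      SpecialLinearGroup (Fin 2) F ⧸ center (SpecialLinearGroup (Fin 2) F)) =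
      (QuotientGroup.mk g : ProjectiveSpecialLinearGroup (Fin 2) F) * QuotientGroup.mk y *
        (QuotientGroup.mk g)⁻¹ * (QuotientGroup.mk y)⁻¹ := rfl
  rw [h3, h2]
  group

theorem exists_lift {M : Subgroup (ProjectiveSpecialLinearGroup (Fin 2) F)} (z : M) :
    ∃ (y : SpecialLinearGroup (Fin 2) F) (hy : y ∈ pre M), z = ⟨QuotientGroup.mk y, hy⟩ := by
  obtain ⟨a, ha⟩ := z
  induction a using QuotientGroup.induction_on with | H g =>
  exact ⟨g, ha, rfl⟩

theorem lift_eq_one_iff {M : Subgroup (ProjectiveSpecialLinearGroup (Fin 2) F)}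
    {y : SpecialLinearGroup (Fin 2) F} (hy : y ∈ pre M) :
    (⟨QuotientGroup.mk y, hy⟩ : M) = 1 ↔ y ∈ center (SpecialLinearGroup (Fin 2) F) := by
  rw [← QuotientGroup.eq_one_iff, Subtype.ext_iff]
  rfl

theorem lift_pow {M : Subgroup (ProjectiveSpecialLinearGroup (Fin 2) F)}
    {y : SpecialLinearGroup (Fin 2) F} (hy : y ∈ pre M) (n : ℕ) :
    (⟨QuotientGroup.mk y, hy⟩ : M) ^ n = ⟨QuotientGroup.mk (y ^ n), (pre M).pow_mem hy n⟩ := by
  apply Subtype.ext
  rfl

theorem lift_pow_eq_one {M : Subgroup (ProjectiveSpecialLinearGroup (Fin 2) F)}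
    {y : SpecialLinearGroup (Fin 2) F} (hy : y ∈ pre M) {c ε : ℕ} (h : CD (pre M) c ε y) :
    (⟨QuotientGroup.mk y, hy⟩ : M) ^ c = 1 := by
  rw [lift_pow, lift_eq_one_iff]
  exact CD_pow_mem (center_le_pre M) hy h

theorem card_of_card_pre {M : Subgroup (ProjectiveSpecialLinearGroup (Fin 2) F)} {n : ℕ}
    (h : Nat.card (pre M) = zc F * n) : Nat.card M = n := by
  rw [card_pre] at h
  exact Nat.eq_of_mul_eq_mul_left (zc_pos F) h

theorem exc12 {M : Subgroup (ProjectiveSpecialLinearGroup (Fin 2) F)}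
    (hcard : Nat.card (pre M) = zc F * 12)
    (hcd : ∀ y ∈ pre M, y ∉ center (SpecialLinearGroup (Fin 2) F) →
      CD (pre M) 2 2 y ∨ CD (pre M) 3 1 y) :
    Nonempty (M ≃* alternatingGroup (Fin 4)) := by
  have hz := zc_pos F
  apply Cfsg.Agent.S0228.result (card_of_card_pre hcard)
  intro z hz2 hzc
  obtain ⟨y, hy, rfl⟩ := exists_lift z
  have hyc : y ∉ center (SpecialLinearGroup (Fin 2) F) := by
    intro h
    rw [(lift_eq_one_iff hy).2 h] at hz2
    simp at hz2
  have hn := norIn_eq_of_mem_center hy hzc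
  rcases hcd y hy hyc with h | h
  · have := h.2
    rw [hn, hcard] at this
    omega
  · have := h.2
    rw [hn, hcard] at this
    omega

theorem exc24 {M : Subgroup (ProjectiveSpecialLinearGroup (Fin 2) F)}
    (hcard : Nat.card (pre M) = zc F * 24)
    (hcd : ∀ y ∈ pre M, y ∉ center (SpecialLinearGroup (Fin 2) F) →
      CD (pre M) 2 2 y ∨ CD (pre M) 3 2 y ∨ CD (pre M) 4 2 y) :
    Nonempty (M ≃* Equiv.Perm (Fin 4)) := by
  apply Cfsg.Agent.S1012.result (card_of_card_pre hcard)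
  intro z hz6
  obtain ⟨y, hy, rfl⟩ := exists_lift z
  have hyc : y ∉ center (SpecialLinearGroup (Fin 2) F) := by
    intro h
    rw [(lift_eq_one_iff hy).2 h] at hz6
    simp at hz6
  rcases hcd y hy hyc with h | h | h
  · have := orderOf_dvd_of_pow_eq_one (lift_pow_eq_one hy h)
    rw [hz6] at this
    omega
  · have := orderOf_dvd_of_pow_eq_one (lift_pow_eq_one hy h)
    rw [hz6] at this
    omega
  · have := orderOf_dvd_of_pow_eq_one (lift_pow_eq_one hy h)
    rw [hz6] at this
    omega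

/-! ### the icosahedral case -/

theorem card_ge_of_subset {N : Subgroup (SpecialLinearGroup (Fin 2) F)}
    (hZN : center (SpecialLinearGroup (Fin 2) F) ≤ N) {U : Set (SpecialLinearGroup (Fin 2) F)}
    (hU : U ⊆ N) (hUc : ∀ x ∈ U, x ∉ center (SpecialLinearGroup (Fin 2) F)) :
    zc F + U.ncard ≤ Nat.card N := by
  have h1 : ((center (SpecialLinearGroup (Fin 2) F) : Set (SpecialLinearGroup (Fin 2) F)) ∪ U).ncard
      = zc F + U.ncard := by
    rw [Set.ncard_union_eq _ (Set.toFinite _) (Set.toFinite _)]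
    · rfl
    · rw [Set.disjoint_left]
      intro x hx hxU
      exact hUc x hxU hx
  rw [← h1]
  have h2 : Nat.card N = (N : Set (SpecialLinearGroup (Fin 2) F)).ncard := rfl
  rw [h2]
  apply Set.ncard_le_ncard _ (Set.toFinite _)
  exact Set.union_subset hZN hU

/-- a normal subgroup containing a noncentral element of prime order modulo the centre contains
its class -/
theorem Ucl_subset_normal {G N : Subgroup (SpecialLinearGroup (Fin 2) F)}
    (hZN : center (SpecialLinearGroup (Fin 2) F) ≤ N)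
    (hnorm : ∀ g ∈ G, ∀ n ∈ N, g * n * g⁻¹ ∈ N) {c ε : ℕ} (hc : c.Prime)
    {y : SpecialLinearGroup (Fin 2) F} (hyN : y ∈ N) (hyG : y ∈ G)
    (hyc : y ∉ center (SpecialLinearGroup (Fin 2) F)) (h : CD G c ε y)
    (hZG : center (SpecialLinearGroup (Fin 2) F) ≤ G) :
    Ucl G (cenIn G y) ⊆ N := by
  have hz := zc_pos F
  have hAN : cenIn G y ≤ N := by
    have hZB : center (SpecialLinearGroup (Fin 2) F) ≤ cenIn G y ⊓ N :=
      le_inf (center_le_cenIn hZG y) hZN
    obtain ⟨d, hd⟩ := Subgroup.card_dvd_of_le hZB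
    have h2 := Subgroup.card_dvd_of_le (inf_le_left : cenIn G y ⊓ N ≤ cenIn G y)
    rw [hd, h.1] at h2
    have h3 : d ∣ c := Nat.dvd_of_mul_dvd_mul_left hz h2
    rcases (Nat.dvd_prime hc).1 h3 with rfl | rfl
    · exfalso
      have h4 : center (SpecialLinearGroup (Fin 2) F) = cenIn G y ⊓ N :=
        eq_of_le_of_card_ge hZB (by rw [hd, mul_one])
      apply hyc
      rw [h4]
      exact ⟨self_mem_cenIn hyG, hyN⟩
    · have h4 : cenIn G y ⊓ N = cenIn G y :=
        eq_of_le_of_card_ge inf_le_left (by rw [hd, h.1]; exact le_rfl)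
      rw [← h4]
      exact inf_le_right
  rintro x ⟨g, hg, a, ha, -, rfl⟩
  exact hnorm g hg a (hAN ha)

theorem ncard_Ucl_of_CD {G : Subgroup (SpecialLinearGroup (Fin 2) F)}
    (hZG : center (SpecialLinearGroup (Fin 2) F) ≤ G) {c ε : ℕ}
    {y : SpecialLinearGroup (Fin 2) F}
    (hyc : y ∉ center (SpecialLinearGroup (Fin 2) F)) (h : CD G c ε y) :
    (Ucl G (cenIn G y)).ncard * (ε * (zc F * c)) = Nat.card G * (zc F * c - zc F) := by
  have h1 := card_Ucl_cenIn commTrans_SL2 G hyc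
  rw [h.2, h.1, inf_eq_right.2 (center_le_cenIn hZG y)] at h1
  exact h1

theorem exc60_simple {M : Subgroup (ProjectiveSpecialLinearGroup (Fin 2) F)}
    (hcard : Nat.card (pre M) = zc F * 60)
    (hcd : ∀ y ∈ pre M, y ∉ center (SpecialLinearGroup (Fin 2) F) →
      CD (pre M) 2 2 y ∨ CD (pre M) 3 2 y ∨ CD (pre M) 5 2 y) :
    IsSimpleGroup M := by
  have hz := zc_pos F
  have hM : Nat.card M = 60 := card_of_card_pre hcard
  haveI : Nontrivial M := by
    rw [← Finite.one_lt_card_iff_nontrivial, hM]; norm_num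
  refine ⟨fun N hN => ?_⟩
  by_contra hcon
  push Not at hcon
  obtain ⟨hbot, htop⟩ := hcon
  set N' : Subgroup (SpecialLinearGroup (Fin 2) F) := pre (N.map M.subtype) with hN'
  have hcN' : Nat.card N' = zc F * Nat.card N := by
    rw [hN', card_pre, Subgroup.card_map_of_injective M.subtype_injective]
  have hZN : center (SpecialLinearGroup (Fin 2) F) ≤ N' := center_le_pre _
  have hmemN : ∀ (y : SpecialLinearGroup (Fin 2) F) (hy : y ∈ pre M),
      y ∈ N' ↔ (⟨QuotientGroup.mk y, hy⟩ : M) ∈ N := by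
    intro y hy
    rw [hN', mem_pre, Subgroup.mem_map]
    constructor
    · rintro ⟨w, hw, hwy⟩
      have : w = ⟨QuotientGroup.mk y, hy⟩ := Subtype.ext hwy
      rwa [← this]
    · intro h
      exact ⟨_, h, rfl⟩
  have hNG : N' ≤ pre M := by
    intro y hy
    rw [hN', mem_pre, Subgroup.mem_map] at hy
    obtain ⟨w, -, hwy⟩ := hy
    rw [mem_pre, ← hwy]
    exact w.2
  have hnorm : ∀ g ∈ pre M, ∀ n ∈ N', g * n * g⁻¹ ∈ N' := by
    intro g hg n hn
    have hnM := hNG hn
    rw [hmemN n hnM] at hn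
    rw [hmemN _ ((pre M).mul_mem ((pre M).mul_mem hg hnM) ((pre M).inv_mem hg))]
    exact hN.conj_mem _ hn ⟨QuotientGroup.mk g, hg⟩
  -- elements of prime order
  have hA : ∀ r : ℕ, r.Prime → r ∣ Nat.card N → ∃ y ∈ N', y ∈ pre M ∧
      y ∉ center (SpecialLinearGroup (Fin 2) F) ∧ CD (pre M) r 2 y := by
    intro r hr hrn
    haveI := Fact.mk hr
    obtain ⟨x, hx⟩ := exists_prime_orderOf_dvd_card' r hrn
    obtain ⟨y, hy, hxy⟩ := exists_lift x.1
    have hx' : orderOf x.1 = r := by rw [Subgroup.orderOf_coe]; exact hx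
    have hyc : y ∉ center (SpecialLinearGroup (Fin 2) F) := by
      intro h
      rw [hxy, (lift_eq_one_iff hy).2 h] at hx'
      rw [orderOf_one] at hx'
      exact hr.one_lt.ne hx'
    refine ⟨y, (hmemN y hy).2 (hxy ▸ x.2), hy, hyc, ?_⟩
    have key : ∀ c : ℕ, c.Prime → CD (pre M) c 2 y → CD (pre M) r 2 y := by
      intro c hc h
      have h1 := orderOf_dvd_of_pow_eq_one (lift_pow_eq_one hy h)
      rw [← hxy, hx'] at h1
      rw [(Nat.prime_dvd_prime_iff_eq hr hc).1 h1]
      exact h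
    rcases hcd y hy hyc with h | h | h
    · exact key 2 Nat.prime_two h
    · exact key 3 Nat.prime_three h
    · exact key 5 Nat.prime_five h
  have hB : ∀ r : ℕ, r.Prime → r ∣ Nat.card N → ∃ U : Set (SpecialLinearGroup (Fin 2) F),
      U ⊆ N' ∧ (∀ x ∈ U, x ∉ center (SpecialLinearGroup (Fin 2) F)) ∧
      (∀ x ∈ U, CD (pre M) r 2 x) ∧
      U.ncard * (2 * (zc F * r)) = zc F * 60 * (zc F * r - zc F) := by
    intro r hr hrn
    obtain ⟨y, hyN, hyM, hyc, hCD⟩ := hA r hr hrn
    refine ⟨Ucl (pre M) (cenIn (pre M) y),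
      Ucl_subset_normal hZN hnorm hr hyN hyM hyc hCD (center_le_pre M),
      fun x hx => not_center_of_mem_Ucl hx, fun x hx => CD_of_mem_Ucl hyc hCD hx, ?_⟩
    rw [← hcard]
    exact ncard_Ucl_of_CD (center_le_pre M) hyc hCD
  have hdvd : Nat.card N ∣ 60 := hM ▸ Subgroup.card_subgroup_dvd_card N
  have hne1 : Nat.card N ≠ 1 := fun h => hbot (Subgroup.card_eq_one.1 h)
  have hne60 : Nat.card N ≠ 60 := fun h => htop (Subgroup.eq_top_of_card_eq N (h.trans hM.symm))
  have hU2 : ∀ U : Set (SpecialLinearGroup (Fin 2) F),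
      U.ncard * (2 * (zc F * 2)) = zc F * 60 * (zc F * 2 - zc F) → U.ncard = 15 * zc F := by
    intro U h
    have e : zc F * 2 - zc F = zc F := by omega
    rw [e] at h
    apply Nat.eq_of_mul_eq_mul_right (show 0 < 2 * (zc F * 2) by positivity)
    rw [h]; ring
  have hU3 : ∀ U : Set (SpecialLinearGroup (Fin 2) F),
      U.ncard * (2 * (zc F * 3)) = zc F * 60 * (zc F * 3 - zc F) → U.ncard = 20 * zc F := by
    intro U h
    have e : zc F * 3 - zc F = 2 * zc F := by omega
    rw [e] at h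
    apply Nat.eq_of_mul_eq_mul_right (show 0 < 2 * (zc F * 3) by positivity)
    rw [h]; ring
  have hU5 : ∀ U : Set (SpecialLinearGroup (Fin 2) F),
      U.ncard * (2 * (zc F * 5)) = zc F * 60 * (zc F * 5 - zc F) → U.ncard = 24 * zc F := by
    intro U h
    have e : zc F * 5 - zc F = 4 * zc F := by omega
    rw [e] at h
    apply Nat.eq_of_mul_eq_mul_right (show 0 < 2 * (zc F * 5) by positivity)
    rw [h]; ring
  have hge : 16 ≤ Nat.card N := by
    obtain ⟨r, hr, hrn⟩ := Nat.exists_prime_and_dvd hne1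
    have hr60 : r ∣ 60 := hrn.trans hdvd
    have hr' : r = 2 ∨ r = 3 ∨ r = 5 := by
      have : r ≤ 60 := Nat.le_of_dvd (by norm_num) hr60
      interval_cases r <;> first | omega | (exfalso; revert hr; norm_num)
    obtain ⟨U, hUN, hUc, -, hUn⟩ := hB r hr hrn
    have h1 := card_ge_of_subset hZN hUN hUc
    rw [hcN'] at h1
    rcases hr' with rfl | rfl | rfl
    · rw [hU2 U hUn] at h1
      by_contra hlt
      have : zc F * Nat.card N ≤ zc F * 15 := Nat.mul_le_mul_left _ (by omega)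
      omega
    · rw [hU3 U hUn] at h1
      by_contra hlt
      have : zc F * Nat.card N ≤ zc F * 15 := Nat.mul_le_mul_left _ (by omega)
      omega
    · rw [hU5 U hUn] at h1
      by_contra hlt
      have : zc F * Nat.card N ≤ zc F * 15 := Nat.mul_le_mul_left _ (by omega)
      omega
  have hcases : Nat.card N = 20 ∨ Nat.card N = 30 := by
    have : Nat.card N ≤ 60 := Nat.le_of_dvd (by norm_num) hdvd
    generalize Nat.card N = n at *
    interval_cases n <;> omega
  have h2n : 2 ∣ Nat.card N := by rcases hcases with h | h <;> rw [h] <;> norm_num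
  have h5n : 5 ∣ Nat.card N := by rcases hcases with h | h <;> rw [h] <;> norm_num
  obtain ⟨U, hUN, hUc, hUcd, hUn⟩ := hB 2 Nat.prime_two h2n
  obtain ⟨V, hVN, hVc, hVcd, hVn⟩ := hB 5 Nat.prime_five h5n
  have hdisj : Disjoint U V := by
    rw [Set.disjoint_left]
    intro x hxU hxV
    have h1 := (hUcd x hxU).1
    rw [(hVcd x hxV).1] at h1
    omega
  have h1 := card_ge_of_subset hZN (Set.union_subset hUN hVN)
    (fun x hx => hx.elim (hUc x) (hVc x))
  rw [Set.ncard_union_eq hdisj (Set.toFinite _) (Set.toFinite _), hU2 U hUn, hU5 V hVn, hcN'] at h1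
  have : zc F * Nat.card N ≤ zc F * 30 := Nat.mul_le_mul_left _ (by omega)
  omega

theorem exc60 {M : Subgroup (ProjectiveSpecialLinearGroup (Fin 2) F)}
    (hcard : Nat.card (pre M) = zc F * 60)
    (hcd : ∀ y ∈ pre M, y ∉ center (SpecialLinearGroup (Fin 2) F) →
      CD (pre M) 2 2 y ∨ CD (pre M) 3 2 y ∨ CD (pre M) 5 2 y) :
    Nonempty (M ≃* alternatingGroup (Fin 5)) := by
  haveI := exc60_simple hcard hcd
  exact Cfsg.Agent.S0494.result (card_of_card_pre hcard)

/-- recognition of the exceptional groups -/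
theorem exc_recog {M : Subgroup (ProjectiveSpecialLinearGroup (Fin 2) F)} (h : Exc (pre M)) :
    Nonempty (M ≃* alternatingGroup (Fin 4)) ∨ Nonempty (M ≃* Equiv.Perm (Fin 4)) ∨
      Nonempty (M ≃* alternatingGroup (Fin 5)) := by
  rcases h with ⟨h1, h2⟩ | ⟨h1, h2⟩ | ⟨h1, h2⟩
  · exact Or.inl (exc12 h1 h2)
  · exact Or.inr (Or.inl (exc24 h1 h2))
  · exact Or.inr (Or.inr (exc60 h1 h2))

end Cfsg.Agent.Lib.Helper7.PMax
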