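import Mathlib
import Cfsg.Agent.Lib.Helper7.PSL2Num

set_option autoImplicit false
set_option linter.unusedSimpArgs false
set_option linter.unusedSectionVars false
set_option linter.unusedVariables false

/-! Subfield subgroups of `PSL₂(q)`. -/

namespace Cfsg.Agent.Lib.Helper7.PMax

open Matrix MatrixGroups Subgroup Cfsg.Agent.Lib.Helper46 Cfsg.Agent.Lib.Helper18.SL2
open Cfsg.Agent.Lib.Helper7

/-- an intermediate field of prime codegree -/
theorem exists_prime_subfield {F : Type*} [Field F] [Finite F] (K : Subfield F) (hK : K ≠ ⊤) :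
    ∃ (L : Subfield F) (l : ℕ), l.Prime ∧ K ≤ L ∧ Nat.card L ^ l = Nat.card F := by
  have hr : Module.finrank K F ≠ 1 := by
    intro h
    apply hK
    have h1 : Nat.card F = Nat.card K ^ 1 := by rw [← h]; exact Module.natCard_eq_pow_finrank
    rw [pow_one] at h1
    rw [eq_top_iff]
    intro x _
    have hs : Function.Surjective (K.subtype) :=
      ((Nat.bijective_iff_injective_and_card _).2 ⟨K.subtype_injective, h1.symm⟩).2
    obtain ⟨y, rfl⟩ := hs x
    exact y.2
  obtain ⟨l, hl, hlr⟩ := Nat.exists_prime_and_dvd hr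
  haveI := Fact.mk hl
  rw [← IsGalois.card_aut_eq_finrank] at hlr
  obtain ⟨σ, hσ⟩ := exists_prime_orderOf_dvd_card' l hlr
  let L := IntermediateField.fixedField (Subgroup.zpowers σ)
  refine ⟨L.toSubfield, l, hl, ?_, ?_⟩
  · intro x hx
    exact L.algebraMap_mem ⟨x, hx⟩
  · have h1 : Module.finrank L F = l := by
      rw [IntermediateField.finrank_fixedField_eq_card, Nat.card_zpowers, hσ]
    have h2 : Nat.card F = Nat.card L ^ Module.finrank L F := Module.natCard_eq_pow_finrank
    rw [h1] at h2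
    exact h2.symm

variable {F : Type*} [Field F]

/-- the elements of `PSL₂(F)` defined over `L` (modulo scalars) after conjugation by `D` -/
noncomputable def subM (L : Subfield F) (D : GL (Fin 2) F) :
    Subgroup (ProjectiveSpecialLinearGroup (Fin 2) F) :=
  (ProjGenLinGroup.map (n := Fin 2) L.subtype).range.comap (PhiBar D)

theorem mem_pre_subM {L : Subfield F} {D : GL (Fin 2) F} {g : SpecialLinearGroup (Fin 2) F} :
    g ∈ pre (subM L D) ↔ Phi D g ∈ (ProjGenLinGroup.map (n := Fin 2) L.subtype).range := Iff.rfl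

/-- conjugation of `SL₂` by an element of `GL₂` -/
noncomputable def conjGL (D : GL (Fin 2) F) (s : SpecialLinearGroup (Fin 2) F) :
    SpecialLinearGroup (Fin 2) F :=
  ⟨(D⁻¹ * SpecialLinearGroup.toGL s * D : GL (Fin 2) F).1, by
    have h : (D⁻¹ * SpecialLinearGroup.toGL s * D : GL (Fin 2) F).det = 1 := by
      rw [map_mul, map_mul, map_inv, mul_comm, ← mul_assoc, mul_inv_cancel, one_mul]
      ext
      simp
    exact congrArg Units.val h⟩

theorem toGL_conjGL (D : GL (Fin 2) F) (s : SpecialLinearGroup (Fin 2) F) :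
    SpecialLinearGroup.toGL (conjGL D s) = D⁻¹ * SpecialLinearGroup.toGL s * D := by
  ext i j
  rfl

theorem Phi_conjGL (D : GL (Fin 2) F) (s : SpecialLinearGroup (Fin 2) F) :
    Phi D (conjGL D s) = ProjGenLinGroup.mk (SpecialLinearGroup.toGL s) := by
  rw [Phi_apply, toGL_conjGL]
  congr 1
  group

theorem InSub_subM (L : Subfield F) (D : GL (Fin 2) F) : InSub L D (pre (subM L D)) := by
  constructor
  · rintro _ ⟨g, hg, rfl⟩
    exact hg
  · rintro _ ⟨_, ⟨s, rfl⟩, rfl⟩
    induction s using QuotientGroup.induction_on with | H s =>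
    have key : Phi D (conjGL D (SpecialLinearGroup.map L.subtype s)) =
        ProjGenLinGroup.map (n := Fin 2) L.subtype
          (ProjectiveSpecialLinearGroup.toPGL (QuotientGroup.mk s)) := by
      rw [Phi_conjGL]
      show _ = ProjGenLinGroup.map (n := Fin 2) L.subtype
        (ProjGenLinGroup.mk (SpecialLinearGroup.toGL s))
      rw [ProjGenLinGroup.map_mk]
      congr 1
      ext i j
      rfl
    refine ⟨conjGL D (SpecialLinearGroup.map L.subtype s), ?_, key⟩
    show conjGL D (SpecialLinearGroup.map L.subtype s) ∈ pre (subM L D)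
    rw [mem_pre_subM, key]
    exact ⟨_, rfl⟩

theorem range_map_mono {K L : Subfield F} (h : K ≤ L) :
    (ProjGenLinGroup.map (n := Fin 2) K.subtype).range ≤
      (ProjGenLinGroup.map (n := Fin 2) L.subtype).range := by
  rintro _ ⟨x, rfl⟩
  refine ⟨ProjGenLinGroup.map (n := Fin 2) (Subfield.inclusion h) x, ?_⟩
  have : (ProjGenLinGroup.map (n := Fin 2) L.subtype).comp
      (ProjGenLinGroup.map (n := Fin 2) (Subfield.inclusion h)) =
      ProjGenLinGroup.map (n := Fin 2) K.subtype := by
    rw [← ProjGenLinGroup.map_comp]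
    rfl
  exact DFunLike.congr_fun this x

theorem InSub.le_subM {K L : Subfield F} (hKL : K ≤ L) {D : GL (Fin 2) F}
    {G : Subgroup (SpecialLinearGroup (Fin 2) F)} (h : InSub K D G) : G ≤ pre (subM L D) := by
  intro g hg
  rw [mem_pre_subM]
  exact range_map_mono hKL (h.1 (Subgroup.mem_map_of_mem _ hg))

variable [Fintype F]

theorem subM_ne_top {L : Subfield F} {l : ℕ} (hl : 2 ≤ l) (hL : Nat.card L ^ l = Fintype.card F)
    (D : GL (Fin 2) F) : subM L D ≠ ⊤ := by
  intro htop
  have h1 := (InSub.card_dvd (InSub_subM L D)).1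
  rw [htop] at h1
  have h2 : Nat.card (pre (⊤ : Subgroup (ProjectiveSpecialLinearGroup (Fin 2) F))) =
      Fintype.card F * (Fintype.card F ^ 2 - 1) := by
    rw [card_pre, Subgroup.card_top, card_PSL]
  rw [h2] at h1
  have hk : 2 ≤ Nat.card L := by
    have := Fintype.ofFinite L
    rw [Nat.card_eq_fintype_card]
    exact Fintype.one_lt_card
  set k := Nat.card L with hkdef
  have hq : k ^ 2 ≤ Fintype.card F := by
    rw [← hL]; exact Nat.pow_le_pow_right (by omega) hl
  set q := Fintype.card F with hqdef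
  have hk2 : 4 ≤ k ^ 2 := by nlinarith
  have hpos : 0 < 2 * (k * (k ^ 2 - 1)) := by
    have : 0 < k ^ 2 - 1 := by omega
    positivity
  have h3 := Nat.le_of_dvd hpos h1
  have h4 : k ^ 2 * (k ^ 2 - 1) ≤ q * (q ^ 2 - 1) := by
    apply Nat.mul_le_mul hq
    have : k ^ 2 ≤ q ^ 2 := by nlinarith
    omega
  have h5 : 2 * (k * (k ^ 2 - 1)) < k ^ 2 * (k ^ 2 - 1) ∨ k = 2 := by
    rcases Nat.lt_or_ge 2 k with h | h
    · left
      have : 0 < k ^ 2 - 1 := by omega
      have : 2 * k < k ^ 2 := by nlinarith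
      nlinarith
    · right; omega
  rcases h5 with h5 | h5
  · omega
  · rw [h5] at h3 hq
    have h6 : 4 * (4 ^ 2 - 1) ≤ q * (q ^ 2 - 1) := by
      apply Nat.mul_le_mul (by omega)
      have : 4 ^ 2 ≤ q ^ 2 := Nat.pow_le_pow_left (by omega) 2
      omega
    omega

/-- a maximal subgroup of subfield type is defined over a subfield of prime codegree -/
theorem coatom_insub {M : Subgroup (ProjectiveSpecialLinearGroup (Fin 2) F)} (hM : IsCoatom M)
    {K : Subfield F} {D : GL (Fin 2) F} (h : InSub K D (pre M)) :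
    ∃ (L : Subfield F) (l : ℕ), l.Prime ∧ K ≤ L ∧ Nat.card L ^ l = Fintype.card F ∧
      M = subM L D := by
  have hK : K ≠ ⊤ := by
    intro hK
    apply hM.1
    apply (InSub.card_dvd h).2
    rw [hK, ← Nat.card_eq_fintype_card]
    exact Nat.card_congr Subfield.topEquiv.toEquiv
  obtain ⟨L, l, hl, hKL, hL⟩ := exists_prime_subfield K hK
  rw [Nat.card_eq_fintype_card (α := F)] at hL
  refine ⟨L, l, hl, hKL, hL, ?_⟩
  have h1 : M ≤ subM L D := pre_le_pre.1 (InSub.le_subM hKL h)
  by_contra hne
  exact subM_ne_top hl.two_le hL D (hM.2 _ (lt_of_le_of_ne h1 hne))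

end Cfsg.Agent.Lib.Helper7.PMax
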