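import Mathlib
import Cfsg.Agent.Lib.Helper7.PSL2SubM

set_option autoImplicit false
set_option linter.unusedSimpArgs false
set_option linter.unusedSectionVars false
set_option linter.unusedVariables false

/-! Solvable and nonsolvable subgroups of `PSL₂(q)`. -/

namespace Cfsg.Agent.Lib.Helper7.PMax

open Matrix MatrixGroups Subgroup Cfsg.Agent.Lib.Helper46 Cfsg.Agent.Lib.Helper18.SL2
open Cfsg.Agent.Lib.Helper7

section general

variable {G : Type*} [Group G]

theorem solvable_of_meta
    (h : ∀ a b c d : G, Commute (a * b * a⁻¹ * b⁻¹) (c * d * c⁻¹ * d⁻¹)) :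
    Group.IsSolvable G := by
  refine ⟨⟨2, ?_⟩⟩
  rw [derivedSeries_succ, derivedSeries_succ, derivedSeries_zero,
    Subgroup.commutator_eq_bot_iff_le_centralizer, Subgroup.commutator_le]
  intro a _ b _
  rw [Subgroup.mem_centralizer_iff]
  intro x hx
  have h1 : ⁅(⊤ : Subgroup G), ⊤⁆ ≤ Subgroup.centralizer {a * b * a⁻¹ * b⁻¹} := by
    rw [Subgroup.commutator_le]
    intro c _ d _
    rw [Subgroup.mem_centralizer_singleton_iff]
    exact (h c d a b).eq
  have h2 := h1 hx
  rw [Subgroup.mem_centralizer_singleton_iff] at h2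
  exact h2

theorem solvable_of_sq (h : ∀ a b : G, Commute (a ^ 2) (b ^ 2)) : Group.IsSolvable G := by
  apply solvable_of_meta
  have key : ∀ a b : G, a * b * a⁻¹ * b⁻¹ = a ^ 2 * (a⁻¹ * b) ^ 2 * (b⁻¹) ^ 2 := by
    intro a b
    simp only [sq, mul_assoc, mul_inv_cancel_left, mul_inv_cancel, mul_one]
  intro a b c d
  rw [key a b, key c d]
  apply Commute.mul_left
  · apply Commute.mul_left
    · exact ((h _ _).mul_right (h _ _)).mul_right (h _ _)
    · exact ((h _ _).mul_right (h _ _)).mul_right (h _ _)
  · exact ((h _ _).mul_right (h _ _)).mul_right (h _ _)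

theorem not_solvable_of_simple [IsSimpleGroup G] {a b : G} (h : a * b ≠ b * a) :
    ¬ Group.IsSolvable G := by
  intro hs
  exact h (IsSimpleGroup.comm_iff_isSolvable.2 hs a b)

end general

theorem not_solvable_A5 : ¬ Group.IsSolvable (alternatingGroup (Fin 5)) := by
  intro hs
  apply A5_not_meta
  intro a b c d
  exact IsSimpleGroup.comm_iff_isSolvable.2 hs _ _

theorem not_solvable_PSL2 {K : Type*} [Field K] (h : 4 ≤ Nat.card K) :
    ¬ Group.IsSolvable (ProjectiveSpecialLinearGroup (Fin 2) K) := by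
  intro hs
  have : Finite K := (Nat.card_pos_iff.1 (by omega)).2
  have := Fintype.ofFinite K
  classical
  obtain ⟨a, ha0, ha1⟩ : ∃ a : K, a ≠ 0 ∧ a ^ 2 ≠ 1 := by
    by_contra hcon
    push Not at hcon
    have hsub : (Finset.univ : Finset K) ⊆ {0, 1, -1} := by
      intro a _
      by_cases ha : a = 0
      · simp [ha]
      · have := hcon a ha
        rw [sq, mul_self_eq_one_iff] at this
        rcases this with h | h <;> simp [h]
    have h1 := Finset.card_le_card hsub
    have h2 : ({0, 1, -1} : Finset K).card ≤ 3 := Finset.card_le_three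
    rw [Finset.card_univ, ← Nat.card_eq_fintype_card] at h1
    omega
  have h1 := SL2Simple.PSL_commutator_eq_top ⟨a, ha0, ha1⟩
  have h2 := Group.IsSolvable.commutator_lt_top_of_nontrivial
    (ProjectiveSpecialLinearGroup (Fin 2) K)
  rw [h1] at h2
  exact lt_irrefl _ h2

theorem not_solvable_PGL2 {K : Type*} [Field K] (h : 4 ≤ Nat.card K) :
    ¬ Group.IsSolvable (ProjGenLinGroup (Fin 2) K) := by
  intro hs
  exact not_solvable_PSL2 h
    (solvable_of_solvable_injective ProjectiveSpecialLinearGroup.toPGL_injective)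

theorem not_solvable_of_equiv {G H : Type*} [Group G] [Group H] (e : G ≃* H)
    (h : ¬ Group.IsSolvable H) : ¬ Group.IsSolvable G := by
  intro hs
  exact h (solvable_of_solvable_injective (f := e.symm.toMonoidHom) e.symm.injective)

variable {F : Type*} [Field F] [Fintype F]

theorem subM_not_solvable {L : Subfield F} (hL : 4 ≤ Nat.card L) (D : GL (Fin 2) F) :
    ¬ Group.IsSolvable (subM L D) := by
  rcases (InSub_subM L D).equiv (subM L D) (fun g => Iff.rfl) with ⟨⟨f⟩⟩ | ⟨⟨f⟩⟩
  · exact not_solvable_of_equiv f (not_solvable_PSL2 hL)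
  · exact not_solvable_of_equiv f (not_solvable_PGL2 hL)

/-- a finite field which is not a prime field has a subfield of prime codegree -/
theorem exists_prime_codegree (hq : ¬ (Fintype.card F).Prime) :
    ∃ (L : Subfield F) (l : ℕ), l.Prime ∧ Nat.card L ^ l = Fintype.card F := by
  obtain ⟨p, hp⟩ := CharP.exists F
  haveI : Fact p.Prime := ⟨CharP.char_is_prime F p⟩
  letI := ZMod.algebra F p
  have hr : Module.finrank (ZMod p) F ≠ 1 := by
    intro h
    apply hq
    have h1 : Nat.card F = Nat.card (ZMod p) ^ Module.finrank (ZMod p) F :=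
      Module.natCard_eq_pow_finrank
    rw [h, pow_one, Nat.card_zmod, Nat.card_eq_fintype_card] at h1
    rw [h1]
    exact Fact.out
  obtain ⟨l, hl, hlr⟩ := Nat.exists_prime_and_dvd hr
  haveI := Fact.mk hl
  rw [← IsGalois.card_aut_eq_finrank] at hlr
  obtain ⟨σ, hσ⟩ := exists_prime_orderOf_dvd_card' l hlr
  let L := IntermediateField.fixedField (Subgroup.zpowers σ)
  refine ⟨L.toSubfield, l, hl, ?_⟩
  have h1 : Module.finrank L F = l := by
    rw [IntermediateField.finrank_fixedField_eq_card, Nat.card_zpowers, hσ]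
  have h2 : Nat.card F = Nat.card L ^ Module.finrank L F := Module.natCard_eq_pow_finrank
  rw [h1, Nat.card_eq_fintype_card] at h2
  exact h2.symm

end Cfsg.Agent.Lib.Helper7.PMax
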