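import Mathlib
import Cfsg.Agent.Lib.Helper7.PSL2Exc
import Cfsg.Agent.Lib.Helper7.PSL2Solv
import Cfsg.Agent.Lib.Helper47.SL2Quat

set_option autoImplicit false
set_option linter.unusedSimpArgs false
set_option linter.unusedSectionVars false
set_option linter.unusedVariables false

/-! Traces of elements of small order modulo the centre; tools for generation theorems. -/

namespace Cfsg.Agent.Lib.Helper7.PMax

open Matrix MatrixGroups Subgroup Cfsg.Agent.Lib.Helper46 Cfsg.Agent.Lib.Helper18.SL2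
open Cfsg.Agent.Lib.Helper7

variable {F : Type*} [Field F]

theorem coeff_zero_of_pow_mem_center {X : SpecialLinearGroup (Fin 2) F}
    (hX : X ∉ center (SpecialLinearGroup (Fin 2) F)) {n : ℕ} {u v : F}
    (h : (X : Matrix (Fin 2) (Fin 2) F) ^ n
      = u • (X : Matrix (Fin 2) (Fin 2) F) - v • (1 : Matrix (Fin 2) (Fin 2) F))
    (hc : X ^ n ∈ center (SpecialLinearGroup (Fin 2) F)) : u = 0 := by
  obtain ⟨c01, c10, c00⟩ := (mem_center_iff2 _).1 hc
  rw [Matrix.SpecialLinearGroup.coe_pow, h] at c01 c10 c00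
  simp only [Matrix.sub_apply, Matrix.smul_apply, smul_eq_mul, Matrix.one_apply_eq,
    Matrix.one_apply_ne (show (0 : Fin 2) ≠ 1 by decide),
    Matrix.one_apply_ne (show (1 : Fin 2) ≠ 0 by decide), mul_zero, sub_zero] at c01 c10 c00
  by_contra hu
  apply hX
  rw [mem_center_iff2]
  refine ⟨?_, ?_, ?_⟩
  · exact (mul_eq_zero.1 c01).resolve_left hu
  · exact (mul_eq_zero.1 c10).resolve_left hu
  · have : u * (X.1 0 0 - X.1 1 1) = 0 := by linear_combination c00
    exact sub_eq_zero.1 ((mul_eq_zero.1 this).resolve_left hu)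

theorem pow_mem_center_of_coeff {X : SpecialLinearGroup (Fin 2) F} {n : ℕ} {v : F}
    (h : (X : Matrix (Fin 2) (Fin 2) F) ^ n
      = (0 : F) • (X : Matrix (Fin 2) (Fin 2) F) - v • (1 : Matrix (Fin 2) (Fin 2) F)) :
    X ^ n ∈ center (SpecialLinearGroup (Fin 2) F) := by
  rw [mem_center_iff2, Matrix.SpecialLinearGroup.coe_pow, h]
  simp

theorem mat_pow_one (X : SpecialLinearGroup (Fin 2) F) : (X : Matrix (Fin 2) (Fin 2) F) ^ 1
    = (1 : F) • (X : Matrix (Fin 2) (Fin 2) F) - (0 : F) • (1 : Matrix (Fin 2) (Fin 2) F) := by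
  simp

theorem mat_pow_two (X : SpecialLinearGroup (Fin 2) F) : (X : Matrix (Fin 2) (Fin 2) F) ^ 2
    = (tr X) • (X : Matrix (Fin 2) (Fin 2) F) - (1 : F) • (1 : Matrix (Fin 2) (Fin 2) F) := by
  have h := Cfsg.Agent.Lib.Helper47.pow_step X _ _ _ (mat_pow_one X)
  rw [h]
  congr 1; congr 1; ring

theorem mat_pow_three (X : SpecialLinearGroup (Fin 2) F) : (X : Matrix (Fin 2) (Fin 2) F) ^ 3
    = (tr X ^ 2 - 1) • (X : Matrix (Fin 2) (Fin 2) F)
      - (tr X) • (1 : Matrix (Fin 2) (Fin 2) F) := by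
  have h := Cfsg.Agent.Lib.Helper47.pow_step X _ _ _ (mat_pow_two X)
  rw [h]
  congr 1; congr 1; ring

theorem mat_pow_four (X : SpecialLinearGroup (Fin 2) F) : (X : Matrix (Fin 2) (Fin 2) F) ^ 4
    = (tr X * (tr X ^ 2 - 2)) • (X : Matrix (Fin 2) (Fin 2) F)
      - (tr X ^ 2 - 1) • (1 : Matrix (Fin 2) (Fin 2) F) := by
  have h := Cfsg.Agent.Lib.Helper47.pow_step X _ _ _ (mat_pow_three X)
  rw [h]
  congr 1; congr 1; ring

variable [Fintype F]

/-- trace constraints from the class data -/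
theorem CD_tr {G : Subgroup (SpecialLinearGroup (Fin 2) F)}
    (hZ : center (SpecialLinearGroup (Fin 2) F) ≤ G) {X : SpecialLinearGroup (Fin 2) F}
    (hXG : X ∈ G) (hX : X ∉ center (SpecialLinearGroup (Fin 2) F)) {ε : ℕ} :
    (CD G 2 ε X → tr X = 0) ∧ (CD G 3 ε X → tr X ^ 2 = 1) ∧
    (CD G 4 ε X → tr X = 0 ∨ tr X ^ 2 = 2) ∧
    (CD G 5 ε X → tr X ^ 4 - 3 * tr X ^ 2 + 1 = 0) := by
  refine ⟨fun h => ?_, fun h => ?_, fun h => ?_, fun h => ?_⟩
  · exact coeff_zero_of_pow_mem_center hX (mat_pow_two X) (CD_pow_mem hZ hXG h)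
  · exact sub_eq_zero.1 (coeff_zero_of_pow_mem_center hX (mat_pow_three X) (CD_pow_mem hZ hXG h))
  · rcases mul_eq_zero.1
      (coeff_zero_of_pow_mem_center hX (mat_pow_four X) (CD_pow_mem hZ hXG h)) with h | h
    · exact Or.inl h
    · exact Or.inr (sub_eq_zero.1 h)
  · exact coeff_zero_of_pow_mem_center hX (Cfsg.Agent.Lib.Helper47.pow_five X)
      (CD_pow_mem hZ hXG h)

/-- a generator of the field which is an integer forces a prime field -/
theorem card_prime_of_int {lam : F} (hgen : Subfield.closure ({lam} : Set F) = ⊤) (n : ℤ)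
    (h : lam = n) : (Fintype.card F).Prime := by
  by_contra hq
  obtain ⟨L, l, hl, hL⟩ := exists_prime_codegree hq
  have h1 : Subfield.closure ({lam} : Set F) ≤ L := by
    rw [Subfield.closure_le]
    rintro x rfl
    rw [h]
    exact intCast_mem L n
  rw [hgen, top_le_iff] at h1
  have h2 : Nat.card L = Fintype.card F := by
    rw [h1, ← Nat.card_eq_fintype_card]
    exact Nat.card_congr Subfield.topEquiv.toEquiv
  rw [h2] at hL
  have hq2 : 2 ≤ Fintype.card F := Fintype.one_lt_card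
  have := Nat.pow_lt_pow_right (show 1 < Fintype.card F by omega) hl.one_lt
  rw [pow_one, hL] at this
  exact lt_irrefl _ this

theorem card_eq_char_of_int (p : ℕ) [Fact p.Prime] [CharP F p] {lam : F}
    (hgen : Subfield.closure ({lam} : Set F) = ⊤) (n : ℤ) (h : lam = n) :
    Fintype.card F = p := by
  have h1 := card_prime_of_int hgen n h
  obtain ⟨k, hp, hk⟩ := FiniteField.card F p
  rw [hk] at h1 ⊢
  have := (Nat.Prime.pow_eq_iff h1).1 rfl
  rw [this.2, pow_one]

end Cfsg.Agent.Lib.Helper7.PMax
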