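import Mathlib
import Cfsg.Agent.Lib.Helper7.PSL2TorMax
import Cfsg.Agent.Lib.Helper7.PSL2Solv

set_option autoImplicit false
set_option linter.unusedSimpArgs false
set_option linter.unusedSectionVars false
set_option linter.unusedVariables false

/-! Existence of the two kinds of tori of `SL₂(q)`; their normalisers are solvable. -/

namespace Cfsg.Agent.Lib.Helper7.PMax

open Matrix MatrixGroups Subgroup Cfsg.Agent.Lib.Helper46 Cfsg.Agent.Lib.Helper18.SL2
open Cfsg.Agent.Lib.Helper7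

variable {F : Type*} [Field F] [Fintype F]

theorem exists_torus_plus : ∃ x : SpecialLinearGroup (Fin 2) F, tr x ^ 2 ≠ 4 ∧
    Nat.card (centralizer ({x} : Set (SpecialLinearGroup (Fin 2) F))) = Fintype.card F + 1 := by
  obtain ⟨X₀, -, hroot⟩ := Cfsg.Agent.Lib.Helper47.exists_nonsplit (F := F)
  have hs : tr X₀ ^ 2 ≠ 4 := by
    intro h
    have h' : (tr X₀ - 2) * (tr X₀ + 2) = 0 := by linear_combination h
    rcases mul_eq_zero.1 h' with h1 | h1
    · exact hroot 1 (by linear_combination -h1)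
    · exact hroot (-1) (by linear_combination h1)
  have hxc : X₀ ∉ center (SpecialLinearGroup (Fin 2) F) := fun h => hs (tr_sq_of_mem_center X₀ h)
  refine ⟨X₀, hs, ?_⟩
  rcases Cfsg.Agent.Lib.Helper47.card_centralizer_cases X₀ hxc with ⟨-, h2⟩ | ⟨⟨a, ha, -⟩, -⟩ |
    ⟨h2, -⟩
  · exact h2
  · exact absurd ha (hroot a)
  · exact absurd h2 hs

theorem exists_torus_minus (hq : 4 ≤ Fintype.card F) :
    ∃ x : SpecialLinearGroup (Fin 2) F, tr x ^ 2 ≠ 4 ∧
    Nat.card (centralizer ({x} : Set (SpecialLinearGroup (Fin 2) F))) = Fintype.card F - 1 := by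
  obtain ⟨u, hu⟩ := Cfsg.Agent.Lib.Helper47.exists_unit_order (F := F)
  have hu2 : u ^ 2 ≠ 1 := by
    intro h
    have := Nat.le_of_dvd (by norm_num) (orderOf_dvd_of_pow_eq_one h)
    omega
  have hs : tr (dd u) ^ 2 ≠ 4 := tr_dd_sq_ne u hu2
  have hxc : dd u ∉ center (SpecialLinearGroup (Fin 2) F) :=
    fun h => hs (tr_sq_of_mem_center _ h)
  refine ⟨dd u, hs, ?_⟩
  rcases Cfsg.Agent.Lib.Helper47.card_centralizer_cases (dd u) hxc with ⟨h1, -⟩ | ⟨-, h2⟩ |
    ⟨h2, -⟩
  · exact absurd (Cfsg.Agent.Lib.Helper47.dd_root u) (h1 u)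
  · exact h2
  · exact absurd h2 hs

theorem solvable_of_tor {M : Subgroup (ProjectiveSpecialLinearGroup (Fin 2) F)}
    (h : Tor (pre M)) : Group.IsSolvable M := by
  apply solvable_of_sq
  have h1 := Tor.sq_comm h
  have h2 : ∀ a ∈ M, ∀ b ∈ M, Commute (a ^ 2) (b ^ 2) := by
    apply forall_mk
    intro x hx
    apply forall_mk
    intro y hy
    exact (h1 x hx y hy).map (QuotientGroup.mk' (center (SpecialLinearGroup (Fin 2) F)))
  intro a b
  exact Subtype.ext (h2 a a.2 b b.2).eq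

theorem img_torN_solvable {x : SpecialLinearGroup (Fin 2) F} (hs : tr x ^ 2 ≠ 4) :
    Group.IsSolvable (img (torN x)) := by
  apply solvable_of_tor
  rw [pre_img (center_le_torN x)]
  exact Tor_torN hs

theorem card_img_torN {x : SpecialLinearGroup (Fin 2) F} (hs : tr x ^ 2 ≠ 4)
    (hq : 3 ≤ Fintype.card F) : zc F * Nat.card (img (torN x)) =
      2 * Nat.card (centralizer ({x} : Set (SpecialLinearGroup (Fin 2) F))) := by
  rw [← card_img (center_le_torN x), card_torN hs hq]

end Cfsg.Agent.Lib.Helper7.PMax
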