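import Mathlib
import Cfsg.Agent.Lib.Helper7.SL2Gen
import Cfsg.Agent.Lib.Helper7.SL2
import Cfsg.Agent.S3377

set_option autoImplicit false
set_option linter.unusedSimpArgs false
set_option linter.unusedSectionVars false
set_option linter.unusedVariables false

/-! The subgroup of `SL₂(q)` generated by `[1 0; 1 1]` and `[1 λ; 0 1]`. -/

namespace Cfsg.Agent.Lib.Helper7.PMax

open Matrix MatrixGroups Subgroup Cfsg.Agent.Lib.Helper46 Cfsg.Agent.Lib.Helper18.SL2
open Cfsg.Agent.Lib.Helper7

variable {F : Type*} [Field F]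

/-- the group generated by the two transvections -/
def genG (lam : F) : Subgroup (SpecialLinearGroup (Fin 2) F) := closure {ll 1, uu lam}

/-- the same, with the centre adjoined -/
def genZ (lam : F) : Subgroup (SpecialLinearGroup (Fin 2) F) :=
  genG lam ⊔ center (SpecialLinearGroup (Fin 2) F)

theorem ll_mem_genG (lam : F) : ll 1 ∈ genG lam := subset_closure (by simp)
theorem uu_mem_genG (lam : F) : uu lam ∈ genG lam := subset_closure (by simp)
theorem genG_le_genZ (lam : F) : genG lam ≤ genZ lam := le_sup_left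
theorem center_le_genZ (lam : F) : center (SpecialLinearGroup (Fin 2) F) ≤ genZ lam := le_sup_right

theorem tr_ll_uu (a : F) : tr (ll 1 * uu a) = 2 + a := by
  simp only [tr, mul_00, mul_11, uu, ll, mk2_00, mk2_01, mk2_10, mk2_11]; ring

theorem ll_uu_not_center (a : F) : ll 1 * uu a ∉ center (SpecialLinearGroup (Fin 2) F) := by
  intro h
  have := ((mem_center_iff2 _).1 h).2.1
  simp only [mul_10, uu, ll, mk2_00, mk2_01, mk2_10, mk2_11] at this
  simp at this

theorem ll_uu_mem (lam : F) : ll 1 * uu lam ∈ genG lam :=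
  (genG lam).mul_mem (ll_mem_genG lam) (uu_mem_genG lam)

theorem ll_uu_neg_mem (lam : F) : ll 1 * uu (-lam) ∈ genG lam := by
  rw [← uu_inv]
  exact (genG lam).mul_mem (ll_mem_genG lam) ((genG lam).inv_mem (uu_mem_genG lam))

theorem genZ_not_bor {lam : F} (hlam : lam ≠ 0) : ¬ BorType (genZ lam) := by
  rintro ⟨g, hg⟩
  have h1 := hg _ (genG_le_genZ lam (ll_mem_genG lam))
  have h2 := hg _ (genG_le_genZ lam (uu_mem_genG lam))
  have e1 := eq_uu_of_tr (x := g * ll 1 * g⁻¹) (by rw [tr_conj, tr_ll]) h1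
  have e2 := eq_uu_of_tr (x := g * uu lam * g⁻¹) (by rw [tr_conj, Cfsg.Agent.Lib.Helper7.tr_uu]) h2
  have e3 : g * (ll 1 * uu lam) * g⁻¹ = (g * ll 1 * g⁻¹) * (g * uu lam * g⁻¹) := by group
  have e4 : tr (g * (ll 1 * uu lam) * g⁻¹) = 2 := by
    rw [e3, e1, e2, uu_mul, Cfsg.Agent.Lib.Helper7.tr_uu]
  rw [tr_conj, tr_ll_uu] at e4
  apply hlam
  linear_combination e4

theorem tr_sq_of_commute_uu {a : F} (ha : a ≠ 0) {x : SpecialLinearGroup (Fin 2) F}
    (h : Commute x (uu a)) : tr x ^ 2 = 4 := by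
  obtain ⟨h10, h00⟩ := (commute_uu_iff ha x).1 h
  have hd := det2 x
  rw [h10, ← h00] at hd
  rw [tr, ← h00]
  linear_combination 4 * hd

theorem genZ_not_tor [Fintype F] (h2 : (2 : F) ≠ 0) {lam : F} (hlam : lam ≠ 0) :
    ¬ Tor (genZ lam) := by
  rintro ⟨x, hx, hs, hall⟩
  rcases hall _ (genG_le_genZ lam (uu_mem_genG lam)) with h | h
  · exact hs (tr_sq_of_commute_uu hlam h.symm)
  · apply hs
    apply tr_sq_of_commute_uu (a := lam + lam) (by
      intro h0
      apply hlam
      have : (2 : F) * lam = 0 := by linear_combination h0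
      exact (mul_eq_zero.1 this).resolve_left h2)
    rw [← uu_mul]
    show x * (uu lam * uu lam) = uu lam * uu lam * x
    have h3 : uu lam * x = x⁻¹ * uu lam := by rw [← h]; group
    have h4 : uu lam * x⁻¹ = x * uu lam := by
      have : x = (uu lam * x * (uu lam)⁻¹)⁻¹ := by rw [h, inv_inv]
      calc uu lam * x⁻¹ = (uu lam * x * (uu lam)⁻¹)⁻¹ * uu lam := by group
        _ = x * uu lam := by rw [← this]
    calc x * (uu lam * uu lam) = (x * uu lam) * uu lam := by group
      _ = uu lam * (x⁻¹ * uu lam) := by rw [← h4]; group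
      _ = uu lam * uu lam * x := by rw [← h3]; group

theorem genZ_insub [Fintype F] (h2 : (2 : F) ≠ 0) {lam : F}
    (hgen : Subfield.closure ({lam} : Set F) = ⊤) {K : Subfield F} {D : GL (Fin 2) F}
    (h : InSub K D (genZ lam)) : genZ lam = ⊤ := by
  have h1 := InSub.tr_sq_mem h (genG_le_genZ lam (ll_uu_mem lam))
  have h3 := InSub.tr_sq_mem h (genG_le_genZ lam (ll_uu_neg_mem lam))
  rw [tr_ll_uu] at h1 h3
  have h4 : (8 : F) * lam ∈ K := by
    have := K.sub_mem h1 h3
    have e : (2 + lam) ^ 2 - (2 + -lam) ^ 2 = 8 * lam := by ring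
    rwa [e] at this
  have h8 : (8 : F) ≠ 0 := by
    have : (8 : F) = 2 ^ 3 := by norm_num
    rw [this]
    exact pow_ne_zero _ h2
  have h8K : (8 : F) ∈ K := by
    have := natCast_mem K 8
    simpa using this
  have hlamK : lam ∈ K := by
    have := K.mul_mem (K.inv_mem h8K) h4
    rwa [← mul_assoc, inv_mul_cancel₀ h8, one_mul] at this
  have hK : K = ⊤ := by
    rw [← top_le_iff, ← hgen, Subfield.closure_le]
    rintro x rfl
    exact hlamK
  have hpre : pre (img (genZ lam)) = genZ lam := pre_img (center_le_genZ lam)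
  have h5 : img (genZ lam) = ⊤ := by
    apply (InSub.card_dvd (K := K) (D := D) (by rw [hpre]; exact h)).2
    rw [hK, ← Nat.card_eq_fintype_card]
    exact Nat.card_congr Subfield.topEquiv.toEquiv
  rw [← hpre, h5]
  rfl

theorem genG_eq_top (h2 : (2 : F) ≠ 0) {lam : F} (h : genZ lam = ⊤) : genG lam = ⊤ := by
  have hsq : ∀ g : SpecialLinearGroup (Fin 2) F, g * g ∈ genG lam := by
    intro g
    have hg : g ∈ genZ lam := by rw [h]; trivial
    rw [genZ, ← SetLike.mem_coe, Subgroup.mul_normal] at hg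
    obtain ⟨a, ha, z, hz, rfl⟩ := hg
    have hz' : z ∈ center (SpecialLinearGroup (Fin 2) F) := hz
    have e : a * z * (a * z) = a * a * (z * z) := by
      rw [mul_assoc a z, ← mul_assoc z a, ← mem_center_iff.1 hz' a]
      group
    rw [e, sq_eq_one_of_mem_center z hz', mul_one]
    exact (genG lam).mul_mem ha ha
  haveI : NeZero (2 : F) := ⟨h2⟩
  apply eq_top_of_uSL_lSL
  · intro b
    have := hsq (uu (b / 2))
    rw [uu_mul, add_halves] at this
    exact this
  · intro b
    have := hsq (ll (b / 2))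
    rw [ll_mul, add_halves] at this
    exact this

end Cfsg.Agent.Lib.Helper7.PMax
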