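import Mathlib
import Cfsg.Agent.Lib.Helper7.PSL2Solv
import Cfsg.Agent.Lib.Helper7.PSL2TorEx
import Cfsg.Agent.Lib.Helper7.SL2Gen2

set_option autoImplicit false
set_option linter.unusedSimpArgs false
set_option linter.unusedSectionVars false
set_option linter.unusedVariables false

/-! Solvable two-generator subgroups of `PSL₂(q)`. -/

namespace Cfsg.Agent.Lib.Helper7.PMax

open Matrix MatrixGroups Subgroup Cfsg.Agent.Lib.Helper46 Cfsg.Agent.Lib.Helper18.SL2
open Cfsg.Agent.Lib.Helper7

section general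

variable {G : Type*} [Group G]

theorem solvable_of_le {M M' : Subgroup G} (h : M ≤ M') (hs : Group.IsSolvable M') :
    Group.IsSolvable M :=
  solvable_of_solvable_injective (Subgroup.inclusion_injective h)

theorem closure_pair_conj (g x y : G) :
    closure ({g * x * g⁻¹, g * y * g⁻¹} : Set G) =
      (closure ({x, y} : Set G)).map (MulAut.conj g).toMonoidHom := by
  rw [MonoidHom.map_closure, Set.image_pair]
  simp

theorem solvable_pair_conj (g x y : G) :
    Group.IsSolvable (closure ({g * x * g⁻¹, g * y * g⁻¹} : Set G)) ↔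
      Group.IsSolvable (closure ({x, y} : Set G)) := by
  rw [closure_pair_conj]
  have e := (closure ({x, y} : Set G)).equivMapOfInjective (MulAut.conj g).toMonoidHom
    (MulAut.conj g).injective
  constructor
  · intro h
    exact solvable_of_solvable_injective (f := e.toMonoidHom) e.injective
  · intro h
    exact solvable_of_solvable_injective (f := e.symm.toMonoidHom) e.symm.injective

theorem card_solubilizer_conj (g x : G) :
    Nat.card {y : G // Group.IsSolvable (closure ({g * x * g⁻¹, y} : Set G))} =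
      Nat.card {y : G // Group.IsSolvable (closure ({x, y} : Set G))} := by
  symm
  apply Nat.card_congr
  refine Equiv.subtypeEquiv (MulAut.conj g).toEquiv (fun y => ?_)
  simp only [MulEquiv.toEquiv_eq_coe, MulEquiv.coe_toEquiv, MulAut.conj_apply]
  exact (solvable_pair_conj g x y).symm

end general

variable {F : Type*} [Field F] [Fintype F]

/-- the subgroup of `PSL₂` generated by the images of two elements -/
def gen2 (x y : SpecialLinearGroup (Fin 2) F) : Subgroup (ProjectiveSpecialLinearGroup (Fin 2) F) :=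
  closure {(QuotientGroup.mk x : ProjectiveSpecialLinearGroup (Fin 2) F), QuotientGroup.mk y}

theorem gen2_le_img {A : Subgroup (SpecialLinearGroup (Fin 2) F)}
    {x y : SpecialLinearGroup (Fin 2) F} (hx : x ∈ A) (hy : y ∈ A) : gen2 x y ≤ img A := by
  rw [gen2, closure_le]
  rintro _ (rfl | rfl)
  · exact ⟨x, hx, rfl⟩
  · exact ⟨y, hy, rfl⟩

theorem left_mem_pre (x y : SpecialLinearGroup (Fin 2) F) : x ∈ pre (gen2 x y) :=
  mem_pre.2 (subset_closure (by simp))

theorem right_mem_pre (x y : SpecialLinearGroup (Fin 2) F) : y ∈ pre (gen2 x y) :=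
  mem_pre.2 (subset_closure (by simp))

theorem solvable_of_bor {M : Subgroup (ProjectiveSpecialLinearGroup (Fin 2) F)}
    (h : BorType (pre M)) : Group.IsSolvable M := by
  apply solvable_of_meta
  obtain ⟨g, hg⟩ := h.commutator
  have h2 : ∀ a ∈ M, ∀ b ∈ M, ∀ c ∈ M, ∀ d ∈ M,
      Commute (a * b * a⁻¹ * b⁻¹) (c * d * c⁻¹ * d⁻¹) := by
    apply forall_mk
    intro x hx
    apply forall_mk
    intro y hy
    apply forall_mk
    intro z hz
    apply forall_mk
    intro w hw
    obtain ⟨e, he⟩ := hg x hx y hy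
    obtain ⟨e', he'⟩ := hg z hz w hw
    have h1 : Commute (x * y * x⁻¹ * y⁻¹) (z * w * z⁻¹ * w⁻¹) := by
      rw [he, he']
      show g⁻¹ * uu e * g * (g⁻¹ * uu e' * g) = g⁻¹ * uu e' * g * (g⁻¹ * uu e * g)
      have : uu e * uu e' = uu e' * uu e := by
        rw [← uu_add, ← uu_add, add_comm]
      calc g⁻¹ * uu e * g * (g⁻¹ * uu e' * g) = g⁻¹ * (uu e * uu e') * g := by group
        _ = g⁻¹ * (uu e' * uu e) * g := by rw [this]
        _ = _ := by group
    exact h1.map (QuotientGroup.mk' (center (SpecialLinearGroup (Fin 2) F)))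
  intro a b c d
  exact Subtype.ext (h2 a a.2 b b.2 c c.2 d d.2).eq

/-- the conjugate of the triangular group by `g` -/
def borC (g : SpecialLinearGroup (Fin 2) F) : Subgroup (SpecialLinearGroup (Fin 2) F) :=
  (BorS F).comap (MulAut.conj g).toMonoidHom

theorem mem_borC {g x : SpecialLinearGroup (Fin 2) F} : x ∈ borC g ↔ (g * x * g⁻¹).1 1 0 = 0 :=
  Iff.rfl

theorem center_le_borC (g : SpecialLinearGroup (Fin 2) F) :
    center (SpecialLinearGroup (Fin 2) F) ≤ borC g := by
  intro z hz
  rw [mem_borC]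
  have : g * z * g⁻¹ = z := by rw [mem_center_iff.1 hz g]; group
  rw [this]
  exact ((mem_center_iff2 z).1 hz).2.1

theorem img_borC_solvable (g : SpecialLinearGroup (Fin 2) F) : Group.IsSolvable (img (borC g)) := by
  apply solvable_of_bor
  rw [pre_img (center_le_borC g)]
  exact ⟨g, fun x hx => hx⟩

theorem gen2_solvable_of_bor {x y : SpecialLinearGroup (Fin 2) F}
    (g : SpecialLinearGroup (Fin 2) F)
    (hx : (g * x * g⁻¹).1 1 0 = 0) (hy : (g * y * g⁻¹).1 1 0 = 0) :
    Group.IsSolvable (gen2 x y) :=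
  solvable_of_le (gen2_le_img (A := borC g) hx hy) (img_borC_solvable g)

theorem gen2_solvable_of_tor {x y t : SpecialLinearGroup (Fin 2) F} (hs : tr t ^ 2 ≠ 4)
    (hx : x ∈ torN t) (hy : y ∈ torN t) : Group.IsSolvable (gen2 x y) :=
  solvable_of_le (gen2_le_img hx hy) (img_torN_solvable hs)

/-- solvable subgroups of `PSL₂(q)` -/
theorem solvable_cases {M : Subgroup (ProjectiveSpecialLinearGroup (Fin 2) F)}
    (h : Group.IsSolvable M) :
    BorType (pre M) ∨ Tor (pre M) ∨ (Exc (pre M) ∧ (2 : F) ≠ 0) ∨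
      ∃ (K : Subfield F) (D : GL (Fin 2) F), InSub K D (pre M) ∧ Nat.card K = 3 := by
  obtain ⟨p, hp⟩ := CharP.exists F
  haveI : Fact p.Prime := ⟨CharP.char_is_prime F p⟩
  rcases dickson p (pre M) (center_le_pre M) with h1 | h1 | h1 | ⟨K, D, hIn, hK⟩
  · left; exact h1
  · right; left; exact h1
  · right; right; left; exact h1
  · right; right; right
    refine ⟨K, D, hIn, ?_⟩
    by_contra hne
    have h4 : 4 ≤ Nat.card K := by omega
    rcases hIn.equiv M (fun g => Iff.rfl) with ⟨⟨f⟩⟩ | ⟨⟨f⟩⟩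
    · exact not_solvable_of_equiv f (not_solvable_PSL2 h4) h
    · exact not_solvable_of_equiv f (not_solvable_PGL2 h4) h

theorem card_subfield_ne_three (h2 : (2 : F) = 0) (K : Subfield F) : Nat.card K ≠ 3 := by
  intro h
  have := Fintype.ofFinite K
  have h3 : ((Nat.card K : ℕ) : K) = 0 := by
    rw [Nat.card_eq_fintype_card]
    exact Nat.cast_card_eq_zero K
  rw [h] at h3
  have h3' : (3 : F) = 0 := by
    have := congrArg K.subtype h3
    rw [map_natCast, map_zero] at this
    exact_mod_cast this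
  have : (1 : F) = 0 := by linear_combination h3' - h2
  exact one_ne_zero this

/-- solvable two-generator subgroups in characteristic two -/
theorem gen2_cases_two (h2 : (2 : F) = 0) {x y : SpecialLinearGroup (Fin 2) F}
    (h : Group.IsSolvable (gen2 x y)) :
    (∃ g : SpecialLinearGroup (Fin 2) F, (g * x * g⁻¹).1 1 0 = 0 ∧ (g * y * g⁻¹).1 1 0 = 0) ∨
    (∃ t : SpecialLinearGroup (Fin 2) F, tr t ^ 2 ≠ 4 ∧ x ∈ torN t ∧ y ∈ torN t) := by
  rcases solvable_cases h with ⟨g, hg⟩ | ⟨t, -, hs, hall⟩ | ⟨-, h1⟩ | ⟨K, D, -, hK⟩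
  · left
    exact ⟨g, hg x (left_mem_pre x y), hg y (right_mem_pre x y)⟩
  · right
    exact ⟨t, hs, (mem_torN_iff hs).2 (hall x (left_mem_pre x y)),
      (mem_torN_iff hs).2 (hall y (right_mem_pre x y))⟩
  · exact absurd h2 h1
  · exact absurd hK (card_subfield_ne_three h2 K)

/-- an element inverting a semisimple element has trace zero -/
theorem tr_eq_zero_of_inverts {t y : SpecialLinearGroup (Fin 2) F} (hs : tr t ^ 2 ≠ 4)
    (h : y * t * y⁻¹ = t⁻¹) : tr y = 0 := by
  have h' : y * t = t⁻¹ * y := by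
    have := congrArg (· * y) h
    simpa using this
  have e00 := congrArg (fun Z : SpecialLinearGroup (Fin 2) F => Z.1 0 0) h'
  have e01 := congrArg (fun Z : SpecialLinearGroup (Fin 2) F => Z.1 0 1) h'
  have e10 := congrArg (fun Z : SpecialLinearGroup (Fin 2) F => Z.1 1 0) h'
  have e11 := congrArg (fun Z : SpecialLinearGroup (Fin 2) F => Z.1 1 1) h'
  simp only [mul_00, mul_01, mul_10, mul_11, inv_00, inv_01, inv_10, inv_11] at e00 e01 e10 e11
  have hd := det2 t
  have key : (tr t ^ 2 - 4) * tr y = 0 := by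
    simp only [tr]
    linear_combination (t.1 0 0 - t.1 1 1) * (e00 - e11) + 4 * t.1 0 1 * e10 +
      4 * (y.1 0 0 + y.1 1 1) * hd
  exact (mul_eq_zero.1 key).resolve_left (sub_ne_zero.2 hs)

/-- commuting semisimple elements have the same torus normaliser -/
theorem torN_eq_of_commute {t x : SpecialLinearGroup (Fin 2) F} (ht : tr t ^ 2 ≠ 4)
    (hx : tr x ^ 2 ≠ 4) (h : Commute x t) : torN t = torN x := by
  have htc : t ∉ center (SpecialLinearGroup (Fin 2) F) := fun h => ht (tr_sq_of_mem_center t h)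
  have hxc : x ∉ center (SpecialLinearGroup (Fin 2) F) := fun h => hx (tr_sq_of_mem_center x h)
  rw [torN, torN, cenIn_eq_of_mem commTrans_SL2 (H := ⊤) (x := t) (a := x)
    (mem_cenIn.2 ⟨mem_top _, h⟩) htc hxc]

end Cfsg.Agent.Lib.Helper7.PMax
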