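import Mathlib
import Cfsg.Agent.Lib.Helper7.PSL2Sol

set_option autoImplicit false
set_option linter.unusedSimpArgs false
set_option linter.unusedSectionVars false
set_option linter.unusedVariables false

/-! Sylow subgroups of `SL₂(q)` containing a given element. -/

namespace Cfsg.Agent.Lib.Helper7.PMax

open Matrix MatrixGroups Subgroup Cfsg.Agent.Lib.Helper46 Cfsg.Agent.Lib.Helper18.SL2
open Cfsg.Agent.Lib.Helper7

section general

variable {G : Type*} [Group G] {p : ℕ}

theorem sylow_eq_of_comm (P Q : Sylow p G) (h : ∀ a ∈ P, ∀ b ∈ Q, a * b = b * a) : P = Q := by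
  have hn : (P : Subgroup G) ≤ normalizer ((Q : Subgroup G) : Set G) := by
    intro a ha
    rw [mem_normalizer_iff]
    intro b
    constructor
    · intro hb
      have : a * b * a⁻¹ = b := by rw [h a ha b hb]; group
      rw [this]; exact hb
    · intro hb
      have h1 := h a ha _ hb
      have : a * b * a⁻¹ = b := by
        have h2 : a * (a * b * a⁻¹) * a⁻¹ = a * b * a⁻¹ := by rw [h1]; group
        have h3 : a * (a * b * a⁻¹) * a⁻¹ = a * b * a⁻¹ → a * b * a⁻¹ = b := by
          intro h4
          have := congrArg (fun w => a⁻¹ * w * a) h4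
          simpa [mul_assoc] using this
        exact h3 h2
      rw [← this]; exact hb
  have hs : IsPGroup p ((P : Subgroup G) ⊔ Q : Subgroup G) :=
    IsPGroup.to_sup_of_normal_right' P.2 Q.2 hn
  have h1 := P.3 hs le_sup_left
  have h2 := Q.3 hs le_sup_right
  exact Sylow.ext (h1.symm.trans h2)

theorem sylow_eq_of_le_center [Fact p.Prime] [Finite G] (P Q : Sylow p G)
    (h : (Q : Subgroup G) ≤ center G) : P = Q := by
  apply (sylow_eq_of_comm Q P _).symm
  intro a ha b _
  exact (mem_center_iff.1 (h ha) b).symm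

theorem mem_smul_sylow {g x : G} {P : Sylow p G} : x ∈ g • P ↔ g⁻¹ * x * g ∈ P := by
  have : x ∈ g • P ↔ x ∈ ((g • P : Sylow p G) : Subgroup G) := Iff.rfl
  rw [this, Sylow.coe_subgroup_smul, Subgroup.mem_pointwise_smul_iff_inv_smul_mem]
  simp only [MulAut.smul_def, MulAut.conj_inv_apply]
  exact Iff.rfl

theorem exists_orderOf_of_mem [Fact p.Prime] {P : Sylow p G} {x : G} (hx : x ∈ P) :
    ∃ k : ℕ, orderOf x = p ^ k := by
  obtain ⟨k, hk⟩ := IsPGroup.iff_orderOf.1 P.2 ⟨x, hx⟩
  exact ⟨k, by rw [← hk, Subgroup.orderOf_mk]⟩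

theorem eq_one_of_coprime_order {x : G} {m n : ℕ} (h1 : x ^ m = 1) (h2 : x ^ n = 1)
    (h : Nat.Coprime m n) : x = 1 := by
  have := Nat.dvd_gcd (orderOf_dvd_of_pow_eq_one h1) (orderOf_dvd_of_pow_eq_one h2)
  rw [h] at this
  exact orderOf_eq_one_iff.1 (Nat.dvd_one.1 this)

end general

variable {F : Type*} [Field F] [Fintype F]

theorem negOne_ne_one (h2 : (2 : F) ≠ 0) : (negOne : SpecialLinearGroup (Fin 2) F) ≠ 1 := by
  intro h
  have := congrArg (fun Z : SpecialLinearGroup (Fin 2) F => Z.1 0 0) h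
  simp [negOne] at this
  apply h2
  linear_combination -this

theorem negOne_mul_self : (negOne : SpecialLinearGroup (Fin 2) F) * negOne = 1 := by
  apply ext2 <;> simp [negOne, mul_00, mul_01, mul_10, mul_11]

/-- an element of odd order, or any nontrivial element in characteristic two, is not central -/
theorem not_mem_center_of_pow {p : ℕ} (hp : p.Prime) (h : p ≠ 2 ∨ (2 : F) = 0)
    {z : SpecialLinearGroup (Fin 2) F} (hz : z ≠ 1) {k : ℕ} (hk : z ^ p ^ k = 1) :
    z ∉ center (SpecialLinearGroup (Fin 2) F) := by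
  intro hc
  rcases Cfsg.Agent.Lib.Helper46.eq_one_or_negOne_of_mem_center z hc with h1 | h1
  · exact hz h1
  · rcases h with h | h
    · apply hz
      apply eq_one_of_coprime_order hk (n := 2)
      · rw [h1, pow_two, negOne_mul_self]
      · apply Nat.Coprime.pow_left
        exact (Nat.coprime_primes hp Nat.prime_two).2 h
    · apply hz
      rw [h1, Cfsg.Agent.Lib.Helper47.negOne_eq_one h]

/-- `p`-subgroups are abelian for odd `p` and in characteristic two -/
theorem sylow_comm {p : ℕ} [Fact p.Prime] (h : p ≠ 2 ∨ (2 : F) = 0)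
    (P : Sylow p (SpecialLinearGroup (Fin 2) F)) : ∀ a ∈ P, ∀ b ∈ P, a * b = b * a := by
  intro a ha b hb
  by_cases hP : Nontrivial P
  · have hc := IsPGroup.center_nontrivial (G := P) P.2
    obtain ⟨z, hz⟩ := exists_ne (1 : center P)
    have hz1 : (z.1.1 : SpecialLinearGroup (Fin 2) F) ≠ 1 := by
      intro h1
      apply hz
      exact Subtype.ext (Subtype.ext h1)
    obtain ⟨k, hk⟩ := P.2 z.1
    have hk' : (z.1.1 : SpecialLinearGroup (Fin 2) F) ^ p ^ k = 1 := by
      have := congrArg Subtype.val hk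
      simpa using this
    have hzc := not_mem_center_of_pow (Fact.out : p.Prime) h hz1 hk'
    have c1 : Commute a z.1.1 := by
      have := mem_center_iff.1 z.2 ⟨a, ha⟩
      exact congrArg Subtype.val this
    have c2 : Commute b z.1.1 := by
      have := mem_center_iff.1 z.2 ⟨b, hb⟩
      exact congrArg Subtype.val this
    exact commTrans_SL2 _ a b hzc c1 c2
  · rw [not_nontrivial_iff_subsingleton] at hP
    have : (⟨a, ha⟩ : P) = ⟨b, hb⟩ := Subsingleton.elim _ _
    rw [Subtype.mk.injEq] at this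
    rw [this]

/-- in the abelian case every Sylow subgroup has an element lying in no other one -/
theorem pin_of_comm {p : ℕ} [Fact p.Prime] (h : p ≠ 2 ∨ (2 : F) = 0)
    (Q : Sylow p (SpecialLinearGroup (Fin 2) F)) :
    ∃ x : SpecialLinearGroup (Fin 2) F, (∃ k : ℕ, orderOf x = p ^ k) ∧
      ∀ P : Sylow p (SpecialLinearGroup (Fin 2) F), x ∈ P → P = Q := by
  by_cases hQ : (Q : Subgroup (SpecialLinearGroup (Fin 2) F)) ≤
      center (SpecialLinearGroup (Fin 2) F)
  · exact ⟨1, ⟨0, by simp⟩, fun P _ => sylow_eq_of_le_center P Q hQ⟩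
  · obtain ⟨x, hx, hxc⟩ := SetLike.not_le_iff_exists.1 hQ
    refine ⟨x, exists_orderOf_of_mem hx, fun P hP => ?_⟩
    apply sylow_eq_of_comm
    intro a ha b hb
    exact commTrans_SL2 x a b hxc (sylow_comm h P a ha x hP) (sylow_comm h Q b hb x hx)

end Cfsg.Agent.Lib.Helper7.PMax
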