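import Mathlib
import Cfsg.Agent.Lib.Helper7.SL2Red
import Cfsg.Agent.Lib.Helper7.SL2Gen

set_option autoImplicit false
set_option linter.unusedSimpArgs false
set_option linter.unusedSectionVars false
set_option linter.unusedVariables false

/-! Sylow `2`-subgroups of `SL₂(q)`, `q` odd, containing a given element. -/

namespace Cfsg.Agent.Lib.Helper7.PMax

open Matrix MatrixGroups Subgroup Cfsg.Agent.Lib.Helper46 Cfsg.Agent.Lib.Helper18.SL2
open Cfsg.Agent.Lib.Helper7

section general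

variable {G : Type*} [Group G]

theorem mem_normalizer_zpowers {x y : G} (h : y * x * y⁻¹ = x⁻¹) :
    y ∈ normalizer ((zpowers x : Subgroup G) : Set G) := by
  have key : ∀ i : ℤ, y * x ^ i * y⁻¹ = x ^ (-i) := by
    intro i
    rw [← conj_zpow, h, _root_.inv_zpow, _root_.zpow_neg]
  rw [mem_normalizer_iff]
  intro w
  constructor
  · rintro ⟨i, rfl⟩
    exact ⟨-i, (key i).symm⟩
  · rintro ⟨i, hi⟩
    refine ⟨-i, ?_⟩
    have h1 := key (-i)
    rw [neg_neg] at h1
    have h2 : y * x ^ (-i) * y⁻¹ = y * w * y⁻¹ := h1.trans hi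
    exact mul_left_cancel (mul_right_cancel h2)

end general

variable {F : Type*} [Field F] [Fintype F]

theorem mul_self_ne_one (h2 : (2 : F) ≠ 0) {x : SpecialLinearGroup (Fin 2) F}
    (hxc : x ∉ center (SpecialLinearGroup (Fin 2) F)) : x * x ≠ 1 := by
  intro h
  have ht : tr x = 0 := by
    apply coeff_zero_of_pow_mem_center hxc (mat_pow_two x)
    rw [pow_two, h]; exact one_mem _
  rw [sq_of_tr_zero x ht] at h
  exact negOne_ne_one h2 h

theorem ss_of_two_element (h2 : (2 : F) ≠ 0) {x : SpecialLinearGroup (Fin 2) F}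
    (hxc : x ∉ center (SpecialLinearGroup (Fin 2) F)) {j : ℕ} (hj : x ^ 2 ^ j = 1) :
    tr x ^ 2 ≠ 4 := by
  intro h
  obtain ⟨x₁, ht₁, hc₁, hp₁⟩ : ∃ x₁ : SpecialLinearGroup (Fin 2) F, tr x₁ = 2 ∧
      x₁ ∉ center (SpecialLinearGroup (Fin 2) F) ∧ x₁ ^ 2 ^ (j + 1) = 1 := by
    have h5 : (tr x - 2) * (tr x + 2) = 0 := by linear_combination h
    rcases mul_eq_zero.1 h5 with h6 | h6
    · exact ⟨x, by linear_combination h6, hxc, by rw [pow_succ, pow_mul, hj, one_pow]⟩
    · refine ⟨negOne * x, ?_, ?_, ?_⟩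
      · rw [tr_negOne_mul]; linear_combination -h6
      · intro h
        apply hxc
        have := (center _).mul_mem ((center _).inv_mem negOne_mem_center) h
        simpa using this
      · have hc : Commute negOne x := (mem_center_iff.1 negOne_mem_center x).symm
        rw [hc.mul_pow, pow_succ, pow_mul, pow_mul, hj, one_pow, mul_one, ← pow_mul, mul_comm,
          pow_mul, pow_two, negOne_mul_self, one_pow]
  obtain ⟨g, a, hg⟩ := exists_conj_uu ht₁
  have h1 : uu a ^ 2 ^ (j + 1) = 1 := by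
    rw [← hg, conj_pow, hp₁]; group
  rw [uu_pow, ← Cfsg.Agent.Lib.Helper7.uu_zero] at h1
  have h3 := Cfsg.Agent.Lib.Helper7.uu_injective h1
  have h4 : ((2 ^ (j + 1) : ℕ) : F) ≠ 0 := by
    push_cast
    exact pow_ne_zero _ h2
  have ha : a = 0 := (mul_eq_zero.1 h3).resolve_left h4
  apply hc₁
  rw [ha, Cfsg.Agent.Lib.Helper7.uu_zero] at hg
  have : x₁ = 1 := by
    have := congrArg (fun w => g⁻¹ * w * g) hg
    simpa [mul_assoc] using this
  rw [this]; exact one_mem _

/-- a noncentral `2`-element whose centraliser is not a `2`-group lies in two Sylow subgroups -/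
theorem two_sylows (h2 : (2 : F) ≠ 0) (hq : 3 ≤ Fintype.card F)
    {x : SpecialLinearGroup (Fin 2) F} (hxc : x ∉ center (SpecialLinearGroup (Fin 2) F)) {j : ℕ}
    (hj : orderOf x = 2 ^ j)
    (hC : ¬ ∃ k, Nat.card (centralizer ({x} : Set (SpecialLinearGroup (Fin 2) F))) = 2 ^ k) :
    ∃ P₁ P₂ : Sylow 2 (SpecialLinearGroup (Fin 2) F), P₁ ≠ P₂ ∧ x ∈ P₁ ∧ x ∈ P₂ := by
  haveI : Fact (Nat.Prime 2) := ⟨Nat.prime_two⟩
  have hs := ss_of_two_element h2 hxc (j := j) (by rw [← hj]; exact pow_orderOf_eq_one x)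
  obtain ⟨y, hy⟩ := exists_inverting hs hq
  have hty := tr_eq_zero_of_inverts hs hy
  have hy2 := sq_of_tr_zero y hty
  have hy4 : y ^ 2 ^ 2 = 1 := by
    have : y ^ 2 ^ 2 = (y * y) * (y * y) := by
      norm_num [pow_succ, mul_assoc]
    rw [this, hy2, negOne_mul_self]
  have p1 : IsPGroup 2 (zpowers x) := IsPGroup.of_card (n := j) (by rw [Nat.card_zpowers, hj])
  obtain ⟨i, -, hi⟩ := (Nat.dvd_prime_pow Nat.prime_two).1 (orderOf_dvd_of_pow_eq_one hy4)
  have p2 : IsPGroup 2 (zpowers y) := IsPGroup.of_card (n := i) (by rw [Nat.card_zpowers, hi])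
  have hH : IsPGroup 2 (zpowers x ⊔ zpowers y : Subgroup (SpecialLinearGroup (Fin 2) F)) :=
    IsPGroup.to_sup_of_normal_left' p1 p2 (zpowers_le.2 (mem_normalizer_zpowers hy))
  obtain ⟨Q₀, hQ₀⟩ := hH.exists_le_sylow
  have hxQ : x ∈ Q₀ := hQ₀ (le_sup_left (a := zpowers x) (mem_zpowers x))
  have hyQ : y ∈ Q₀ := hQ₀ (le_sup_right (b := zpowers y) (mem_zpowers y))
  obtain ⟨r, hr, hrd, hodd⟩ := (Nat.eq_two_pow_or_exists_odd_prime_and_dvd
    (Nat.card (centralizer ({x} : Set (SpecialLinearGroup (Fin 2) F))))).resolve_left hC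
  haveI : Fact r.Prime := ⟨hr⟩
  obtain ⟨t', ht'⟩ := exists_prime_orderOf_dvd_card' r hrd
  set t : SpecialLinearGroup (Fin 2) F := t'.1 with htdef
  have hto : orderOf t = r := by rw [← ht']; exact (Subgroup.orderOf_coe t')
  have htx : Commute t x := (mem_centralizer_singleton_iff.1 t'.2)
  have hr2 : r ≠ 2 := by
    rintro rfl
    exact absurd hodd (by decide)
  have ht1 : t ≠ 1 := by
    intro h
    rw [h, orderOf_one] at hto
    exact hr.one_lt.ne hto
  have htr : t ^ r = 1 := by rw [← hto]; exact pow_orderOf_eq_one t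
  have htc : t ∉ center (SpecialLinearGroup (Fin 2) F) :=
    not_mem_center_of_pow hr (Or.inl hr2) ht1 (k := 1) (by rw [pow_one]; exact htr)
  refine ⟨Q₀, t • Q₀, ?_, hxQ, ?_⟩
  · intro heq
    have h1 : t * y * t⁻¹ ∈ Q₀ := by
      rw [heq, mem_smul_sylow]
      have : t⁻¹ * (t * y * t⁻¹) * t = y := by group
      rw [this]; exact hyQ
    have h3 : t * y * t⁻¹ * y⁻¹ ∈ Q₀ := mul_mem h1 (inv_mem hyQ)
    set s := y * t⁻¹ * y⁻¹ with hsdef
    have hsx : Commute s x := by
      have e1 : y⁻¹ * x * y = x⁻¹ := by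
        have := congrArg (fun w => y⁻¹ * w⁻¹ * y) hy
        simpa [mul_assoc] using this.symm
      have e2 : Commute t⁻¹ x⁻¹ := htx.inv_inv
      show y * t⁻¹ * y⁻¹ * x = x * (y * t⁻¹ * y⁻¹)
      have e3 : y⁻¹ * x = x⁻¹ * y⁻¹ := by
        have := congrArg (· * y⁻¹) e1
        simpa [mul_assoc] using this
      have e4 : x * y = y * x⁻¹ := by
        have := congrArg (fun w => w⁻¹ * y) hy
        simpa [mul_assoc] using this.symm
      calc y * t⁻¹ * y⁻¹ * x = y * t⁻¹ * (y⁻¹ * x) := by group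
        _ = y * (t⁻¹ * x⁻¹) * y⁻¹ := by rw [e3]; group
        _ = y * (x⁻¹ * t⁻¹) * y⁻¹ := by rw [e2.eq]
        _ = (y * x⁻¹) * t⁻¹ * y⁻¹ := by group
        _ = x * (y * t⁻¹ * y⁻¹) := by rw [← e4]; group
    have hts : Commute t s := commTrans_SL2 x t s hxc htx hsx
    have hsr : s ^ r = 1 := by
      rw [hsdef, conj_pow, inv_pow, htr]; group
    have hc : (t * s) ^ r = 1 := by rw [hts.mul_pow, htr, hsr, one_mul]
    have e5 : t * y * t⁻¹ * y⁻¹ = t * s := by rw [hsdef]; group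
    rw [e5] at h3
    obtain ⟨n, hn⟩ := Q₀.2 ⟨t * s, h3⟩
    have hn' : (t * s) ^ 2 ^ n = 1 := by
      have := congrArg Subtype.val hn
      simpa using this
    have h6 : t * s = 1 := by
      apply eq_one_of_coprime_order hc hn'
      apply Nat.Coprime.pow_right
      exact (Nat.coprime_primes hr Nat.prime_two).2 hr2
    have h7 : Commute y t := by
      have : t * y * t⁻¹ * y⁻¹ = 1 := e5.trans h6
      have h8 : t * y = y * t := by
        have := congrArg (fun w => w * y * t) this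
        simpa [mul_assoc] using this
      exact h8.symm
    have h9 : Commute y x := commTrans_SL2 t y x htc h7 htx.symm
    have h10 : x = x⁻¹ := by
      rw [← hy, h9.eq]; group
    apply mul_self_ne_one h2 hxc
    calc x * x = x * x⁻¹ := by rw [← h10]
      _ = 1 := mul_inv_cancel x
  · rw [mem_smul_sylow]
    have : t⁻¹ * x * t = x := by rw [mul_assoc, ← htx.eq]; group
    rw [this]; exact hxQ

end Cfsg.Agent.Lib.Helper7.PMax
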