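import Mathlib
import Cfsg.Agent.Lib.Helper7.SL2Red2

set_option autoImplicit false
set_option linter.unusedSimpArgs false
set_option linter.unusedSectionVars false
set_option linter.unusedVariables false

/-! Maximal subgroups of simple groups as normalisers: abstract lemmas. -/

namespace Cfsg.Agent.Lib.Helper7.PMax

open Subgroup
open scoped Pointwise

variable {G : Type*} [Group G]

theorem mem_normalizer_of_conj_le [Finite G] {V : Subgroup G} {g : G}
    (h : ∀ v ∈ V, g * v * g⁻¹ ∈ V) : g ∈ normalizer (V : Set G) := by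
  rw [mem_normalizer_iff]
  intro w
  refine ⟨h w, fun hw => ?_⟩
  let f : V → V := fun v => ⟨g * v.1 * g⁻¹, h v.1 v.2⟩
  have hf : Function.Injective f := by
    intro a b hab
    have : g * a.1 * g⁻¹ = g * b.1 * g⁻¹ := congrArg Subtype.val hab
    exact Subtype.ext (mul_left_cancel (mul_right_cancel this))
  obtain ⟨v, hv⟩ := (Finite.injective_iff_surjective.1 hf) ⟨_, hw⟩
  have : g * v.1 * g⁻¹ = g * w * g⁻¹ := congrArg Subtype.val hv
  rw [← mul_left_cancel (mul_right_cancel this)]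
  exact v.2

theorem conj_mem_closure_pair {A B g : G} (hA : g * A * g⁻¹ ∈ closure ({A, B} : Set G))
    (hB : g * B * g⁻¹ ∈ closure ({A, B} : Set G)) :
    ∀ v ∈ closure ({A, B} : Set G), g * v * g⁻¹ ∈ closure ({A, B} : Set G) := by
  have : closure ({A, B} : Set G) ≤ (closure ({A, B} : Set G)).comap (MulAut.conj g).toMonoidHom := by
    rw [closure_le]
    rintro x (rfl | rfl)
    · exact hA
    · exact hB
  exact fun v hv => this hv

theorem normalizer_ne_top [IsSimpleGroup G] {V : Subgroup G} (hV : V ≠ ⊥) (hV' : V ≠ ⊤) :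
    normalizer (V : Set G) ≠ ⊤ := by
  intro h
  have hn : V.Normal := normalizer_eq_top_iff.1 h
  rcases hn.eq_bot_or_eq_top with h1 | h1
  · exact hV h1
  · exact hV' h1

theorem normalizer_eq_of_coatom [IsSimpleGroup G] {M V : Subgroup G} (hM : IsCoatom M)
    (hV : V ≠ ⊥) (hVM : V ≤ M) (hMV : M ≤ normalizer (V : Set G)) :
    normalizer (V : Set G) = M := by
  by_contra hne
  have h1 := hM.2 _ (lt_of_le_of_ne hMV (Ne.symm hne))
  refine normalizer_ne_top hV ?_ h1
  rintro rfl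
  exact hM.1 (top_le_iff.1 hVM)

/-- an element normalising a normal four-subgroup of a maximal subgroup lies in it -/
theorem mem_of_normalizes [Finite G] [IsSimpleGroup G] {M : Subgroup G} (hM : IsCoatom M)
    {X : Type*} [Group X] (e : M ≃* X) {α β : X} (hα : α ≠ 1)
    (hn : ∀ x : X, (x * α * x⁻¹ = α ∨ x * α * x⁻¹ = β ∨ x * α * x⁻¹ = α * β) ∧
      (x * β * x⁻¹ = α ∨ x * β * x⁻¹ = β ∨ x * β * x⁻¹ = α * β))
    {A B g : G} (hA : ((e.symm α : M) : G) = A) (hB : ((e.symm β : M) : G) = B)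
    (h1 : g * A * g⁻¹ ∈ closure ({A, B} : Set G)) (h2 : g * B * g⁻¹ ∈ closure ({A, B} : Set G)) :
    g ∈ M := by
  have hAV : A ∈ closure ({A, B} : Set G) := subset_closure (by simp)
  have hBV : B ∈ closure ({A, B} : Set G) := subset_closure (by simp)
  have hABV : A * B ∈ closure ({A, B} : Set G) := mul_mem hAV hBV
  have hAM : A ∈ M := hA ▸ (e.symm α).2
  have hBM : B ∈ M := hB ▸ (e.symm β).2
  have hVM : closure ({A, B} : Set G) ≤ M := by
    rw [closure_le]
    rintro x (rfl | rfl)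
    · exact hAM
    · exact hBM
  have hV : closure ({A, B} : Set G) ≠ ⊥ := by
    intro h
    rw [h, mem_bot] at hAV
    apply hα
    have : e.symm α = 1 := Subtype.ext (hA.trans hAV)
    simpa using congrArg e this
  have hAB : ((e.symm (α * β) : M) : G) = A * B := by rw [map_mul, coe_mul, hA, hB]
  have hcj : ∀ (m : M) (γ : X), (m : G) * ((e.symm γ : M) : G) * (m : G)⁻¹ =
      ((e.symm (e m * γ * (e m)⁻¹) : M) : G) := by
    intro m γ
    simp
  have hMV : M ≤ normalizer ((closure ({A, B} : Set G) : Subgroup G) : Set G) := by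
    intro m hm
    apply mem_normalizer_of_conj_le
    apply conj_mem_closure_pair
    · have := hcj ⟨m, hm⟩ α
      rw [hA] at this
      change m * A * m⁻¹ = _ at this
      rw [this]
      rcases (hn (e ⟨m, hm⟩)).1 with h | h | h <;> rw [h]
      · rw [hA]; exact hAV
      · rw [hB]; exact hBV
      · rw [hAB]; exact hABV
    · have := hcj ⟨m, hm⟩ β
      rw [hB] at this
      change m * B * m⁻¹ = _ at this
      rw [this]
      rcases (hn (e ⟨m, hm⟩)).2 with h | h | h <;> rw [h]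
      · rw [hA]; exact hAV
      · rw [hB]; exact hBV
      · rw [hAB]; exact hABV
  rw [← normalizer_eq_of_coatom hM hV hVM hMV]
  exact mem_normalizer_of_conj_le (conj_mem_closure_pair h1 h2)

theorem four_dvd_card [Finite G] {A B : G} {S : Subgroup G} (hA : A ∈ S) (hB : B ∈ S)
    (hA1 : A ≠ 1) (hB1 : B ≠ 1) (hAB : A ≠ B) (hA2 : A ^ 2 = 1) (hB2 : B ^ 2 = 1)
    (hc : A * B = B * A) : 4 ∣ Nat.card S := by
  classical
  have oA : orderOf A = 2 := orderOf_eq_prime hA2 hA1
  have oB : orderOf B = 2 := orderOf_eq_prime hB2 hB1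
  have p1 : IsPGroup 2 (zpowers A) := IsPGroup.of_card (n := 1) (by rw [Nat.card_zpowers, oA, pow_one])
  have p2 : IsPGroup 2 (zpowers B) := IsPGroup.of_card (n := 1) (by rw [Nat.card_zpowers, oB, pow_one])
  have hinv : A⁻¹ = A := by
    rw [inv_eq_iff_mul_eq_one, ← sq, hA2]
  have hnor : B * A * B⁻¹ = A⁻¹ := by rw [← hc, mul_inv_cancel_right, hinv]
  have hV : IsPGroup 2 (zpowers A ⊔ zpowers B : Subgroup G) :=
    IsPGroup.to_sup_of_normal_left' p1 p2 (zpowers_le.2 (mem_normalizer_zpowers hnor))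
  obtain ⟨n, hn⟩ := IsPGroup.iff_card.1 hV
  have hle : (zpowers A ⊔ zpowers B : Subgroup G) ≤ S :=
    sup_le (zpowers_le.2 hA) (zpowers_le.2 hB)
  have h2 : 2 ≤ n := by
    by_contra hlt
    have hn1 : n ≤ 1 := by omega
    have hc2 : Nat.card (zpowers A ⊔ zpowers B : Subgroup G) ≤ Nat.card (zpowers A) := by
      rw [hn, Nat.card_zpowers, oA]
      calc 2 ^ n ≤ 2 ^ 1 := Nat.pow_le_pow_right (by norm_num) hn1
        _ = 2 := by norm_num
    have heq := Subgroup.eq_of_le_of_card_ge (le_sup_left (a := zpowers A) (b := zpowers B)) hc2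
    have hBm : B ∈ zpowers A := by
      rw [heq]; exact le_sup_right (a := zpowers A) (mem_zpowers B)
    rw [← mem_powers_iff_mem_zpowers, mem_powers_iff_mem_range_orderOf, oA] at hBm
    simp only [Finset.mem_image, Finset.mem_range] at hBm
    obtain ⟨k, hk, rfl⟩ := hBm
    interval_cases k
    · exact hB1 (pow_zero A)
    · exact hAB (pow_one A).symm
  have h4 : 4 ∣ Nat.card (zpowers A ⊔ zpowers B : Subgroup G) := by
    rw [hn]
    exact pow_dvd_pow 2 h2
  exact h4.trans (Subgroup.card_dvd_of_le hle)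

theorem zpowers_eq_sylow [Finite G] {r : ℕ} [Fact r.Prime] (hr2 : ¬ r ^ 2 ∣ Nat.card G) {t : G}
    (ht : orderOf t = r) : ∃ P : Sylow r G, (P : Subgroup G) = zpowers t := by
  have p1 : IsPGroup r (zpowers t) := IsPGroup.of_card (n := 1) (by rw [Nat.card_zpowers, ht, pow_one])
  obtain ⟨P, hP⟩ := p1.exists_le_sylow
  refine ⟨P, ?_⟩
  obtain ⟨n, hn⟩ := IsPGroup.iff_card.1 P.2
  have hn1 : n ≤ 1 := by
    by_contra hlt
    apply hr2
    have h1 : r ^ 2 ∣ r ^ n := pow_dvd_pow r (by omega)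
    rw [← hn] at h1
    exact h1.trans (Subgroup.card_subgroup_dvd_card _)
  symm
  apply Subgroup.eq_of_le_of_card_ge hP
  rw [hn, Nat.card_zpowers, ht]
  calc r ^ n ≤ r ^ 1 := Nat.pow_le_pow_right (Fact.out : r.Prime).pos hn1
    _ = r := pow_one r

theorem not_coatom_of_sylow [Finite G] {M : Subgroup G} (hM : IsCoatom M) {r : ℕ} [Fact r.Prime]
    (hr2 : ¬ r ^ 2 ∣ Nat.card G) {t₁ t : G} (ht₁ : orderOf t₁ = r) (ht : orderOf t = r)
    (hMN : M ≤ normalizer ((zpowers t₁ : Subgroup G) : Set G))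
    (hnn : normalizer ((zpowers t₁ : Subgroup G) : Set G) ≠ ⊤)
    {K H : Subgroup G} (hKH : K ≤ H) (hKN : K ≤ normalizer ((zpowers t : Subgroup G) : Set G))
    (hcard : Nat.card M ≤ Nat.card K) (hH : H ≠ ⊤) (hHM : Nat.card H ≠ Nat.card M) : False := by
  have hMeq : normalizer ((zpowers t₁ : Subgroup G) : Set G) = M := by
    by_contra hne
    exact hnn (hM.2 _ (lt_of_le_of_ne hMN (Ne.symm hne)))
  obtain ⟨P, hP⟩ := zpowers_eq_sylow hr2 ht
  obtain ⟨P₁, hP₁⟩ := zpowers_eq_sylow hr2 ht₁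
  obtain ⟨g, hg⟩ := MulAction.exists_smul_eq G P P₁
  have key : ∀ x, x ∈ zpowers t₁ ↔ g⁻¹ * x * g ∈ zpowers t := by
    intro x
    rw [← hP, ← hP₁, ← hg]
    exact mem_smul_sylow
  have hcj : ∀ S : Subgroup G, Nat.card (S.map (MulAut.conj g).toMonoidHom) = Nat.card S :=
    fun S => Subgroup.card_map_of_injective (MulAut.conj g).injective
  have hK' : K.map (MulAut.conj g).toMonoidHom ≤ M := by
    rintro _ ⟨k, hk, rfl⟩
    rw [← hMeq, mem_normalizer_iff]
    intro w
    simp only [MulEquiv.coe_toMonoidHom, MulAut.conj_apply]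
    rw [key, key, (mem_normalizer_iff.1 (hKN hk)) (g⁻¹ * w * g)]
    have : g⁻¹ * (g * k * g⁻¹ * w * (g * k * g⁻¹)⁻¹) * g = k * (g⁻¹ * w * g) * k⁻¹ := by group
    rw [this]
  have hKM : K.map (MulAut.conj g).toMonoidHom = M :=
    Subgroup.eq_of_le_of_card_ge hK' (by rw [hcj]; exact hcard)
  have hMH : M ≤ H.map (MulAut.conj g).toMonoidHom := by
    rw [← hKM]; exact Subgroup.map_mono hKH
  have hH' : H.map (MulAut.conj g).toMonoidHom ≠ ⊤ := by
    intro h
    apply hH
    apply Subgroup.eq_top_of_card_eq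
    rw [← hcj H, h, Subgroup.card_top]
  have : H.map (MulAut.conj g).toMonoidHom = M := by
    by_contra hne
    exact hH' (hM.2 _ (lt_of_le_of_ne hMH (Ne.symm hne)))
  apply hHM
  rw [← hcj H, this]

end Cfsg.Agent.Lib.Helper7.PMax
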