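import Mathlib

set_option autoImplicit false

/-! Groups in which every non-normal subgroup has a maximal normaliser. -/

namespace Cfsg.Agent.Lib.Helper7.NMax

/-- every non-normal subgroup has a maximal normaliser -/
def NMax (G : Type*) [Group G] : Prop :=
  ∀ H : Subgroup G, ¬ H.Normal → IsCoatom (Subgroup.normalizer (H : Set G))

end Cfsg.Agent.Lib.Helper7.NMax
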