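import Mathlib
import Cfsg.Agent.Lib.Helper7.NMaxDefs
import Cfsg.Agent.Lib.Helper7.CoatomNorm

set_option autoImplicit false
set_option linter.unusedSimpArgs false
set_option linter.unusedSectionVars false
set_option linter.unusedVariables false

/-! Groups in which every non-normal subgroup has a maximal normaliser: general constructions. -/

namespace Cfsg.Agent.Lib.Helper7.NMax

open Subgroup Cfsg.Agent.Lib.Helper7.PMax

theorem nmax_congr {K K' : Type*} [Group K] [Group K'] (e : K ≃* K') (h : NMax K') : NMax K := by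
  intro H hH
  have h1 : ¬ (H.map e.toMonoidHom).Normal := by
    intro hn
    apply hH
    have h2 : (H.map e.toMonoidHom).comap e.toMonoidHom = H :=
      Subgroup.comap_map_eq_self_of_injective e.injective H
    rw [← h2]
    exact hn.comap _
  have h3 := h _ h1
  rw [← Subgroup.map_equiv_normalizer_eq] at h3
  exact ((MulEquiv.mapSubgroup e).isCoatom_iff _).1 h3

theorem nmax_of_quot {G : Type*} [Group G] [Finite G] (Z : Subgroup G) [Z.Normal]
    (hZ : Nat.card Z = 2) (hinv : ∀ x : G, x ^ 2 = 1 → x ∈ Z) (h : NMax (G ⧸ Z)) : NMax G := by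
  classical
  intro H hH
  set π := QuotientGroup.mk' Z with hπ
  -- elements of Z are central and of order at most two
  have hZ2 : ∀ z ∈ Z, z ^ 2 = 1 := by
    intro z hz
    have := pow_card_eq_one' (G := Z) (x := ⟨z, hz⟩)
    rw [hZ] at this
    exact congrArg Subtype.val this
  have hZeq : ∀ z ∈ Z, ∀ z' ∈ Z, z ≠ 1 → z' ≠ 1 → z = z' := by
    intro z hz z' hz' h1 h1'
    by_contra hne
    have h3 : 3 ≤ Nat.card Z := by
      have : ({(⟨1, Z.one_mem⟩ : Z), (⟨z, hz⟩ : Z), (⟨z', hz'⟩ : Z)} : Finset Z).card = 3 := by
        rw [Finset.card_insert_of_notMem, Finset.card_insert_of_notMem, Finset.card_singleton]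
        · simpa [Subtype.ext_iff] using hne
        · simp only [Finset.mem_insert, Finset.mem_singleton, Subtype.ext_iff, not_or]
          exact ⟨fun h => h1 h.symm, fun h => h1' h.symm⟩
      have hfin := Fintype.ofFinite Z
      rw [Nat.card_eq_fintype_card, ← this]
      exact Finset.card_le_univ _
    omega
  have hZc : ∀ z ∈ Z, ∀ g : G, g * z * g⁻¹ = z := by
    intro z hz g
    by_cases h1 : z = 1
    · rw [h1]; group
    · apply hZeq _ (Normal.conj_mem inferInstance z hz g) _ hz _ h1
      intro hc
      apply h1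
      have : z = g⁻¹ * (g * z * g⁻¹) * g := by group
      rw [this, hc]; group
  have key : normalizer (H : Set G) = (normalizer ((H.map π : Subgroup (G ⧸ Z)) : Set (G ⧸ Z))).comap π := by
    apply le_antisymm
    · intro g hg
      rw [mem_comap]
      apply mem_normalizer_of_conj_le
      rintro _ ⟨x, hx, rfl⟩
      exact ⟨g * x * g⁻¹, (mem_normalizer_iff.1 hg x).1 hx, by simp⟩
    · intro g hg
      rw [mem_comap] at hg
      apply mem_normalizer_of_conj_le
      intro x hx
      obtain ⟨y, hy, hyx⟩ := (mem_normalizer_iff.1 hg (π x)).1 ⟨x, hx, rfl⟩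
      have hyx' : π y = π (g * x * g⁻¹) := by rw [hyx]; simp
      have hz : y⁻¹ * (g * x * g⁻¹) ∈ Z := QuotientGroup.eq.1 hyx'
      set z := y⁻¹ * (g * x * g⁻¹) with hzdef
      have hgx : g * x * g⁻¹ = y * z := by rw [hzdef]; group
      by_cases hz1 : z = 1
      · rw [hgx, hz1, mul_one]; exact hy
      by_cases hzH : z ∈ H
      · rw [hgx]; exact H.mul_mem hy hzH
      exfalso
      -- `H` has odd order
      have hodd : ¬ 2 ∣ Nat.card H := by
        intro h2
        obtain ⟨t, ht⟩ := exists_prime_orderOf_dvd_card' (G := H) 2 h2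
        have ht2 : (t : G) ^ 2 = 1 := by
          have := pow_orderOf_eq_one t
          rw [ht] at this
          exact congrArg Subtype.val this
        have ht1 : (t : G) ≠ 1 := by
          intro hc
          have : t = 1 := Subtype.ext hc
          rw [this, orderOf_one] at ht
          omega
        apply hzH
        rw [hZeq z hz t (hinv _ ht2) hz1 ht1]
        exact t.2
      set m := Nat.card H with hm
      have hxm : x ^ m = 1 := by
        have := pow_card_eq_one' (G := H) (x := ⟨x, hx⟩)
        exact congrArg Subtype.val this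
      have hym : y ^ m = 1 := by
        have := pow_card_eq_one' (G := H) (x := ⟨y, hy⟩)
        exact congrArg Subtype.val this
      have hcomm : Commute y z := by
        have := hZc z hz y
        show y * z = z * y
        rw [mul_inv_eq_iff_eq_mul] at this
        exact this
      have h1 : (g * x * g⁻¹) ^ m = 1 := by rw [conj_pow, hxm]; group
      rw [hgx, hcomm.mul_pow, hym, one_mul] at h1
      obtain ⟨k, hk⟩ : ∃ k, m = 2 * k + 1 := ⟨m / 2, by omega⟩
      rw [hk, pow_succ, pow_mul, hZ2 z hz, one_pow, one_mul] at h1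
      exact hz1 h1
  have hHb : ¬ (H.map π).Normal := by
    intro hn
    apply hH
    rw [← normalizer_eq_top_iff, key, normalizer_eq_top_iff.2 hn, comap_top]
  rw [key]
  exact Subgroup.isCoatom_comap_of_surjective (QuotientGroup.mk'_surjective Z) (h _ hHb)

section prod

variable {K S : Type*} [Group K] [CommGroup S]

theorem prod_decomp [Finite K] [Finite S] (hKS : (Nat.card K).Coprime (Nat.card S))
    (J : Subgroup (K × S)) :
    J = (J.comap (MonoidHom.inl K S)).prod (J.comap (MonoidHom.inr K S)) := by
  ext ⟨k, s⟩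
  rw [mem_prod, mem_comap, mem_comap]
  simp only [MonoidHom.inl_apply, MonoidHom.inr_apply]
  constructor
  · intro h
    obtain ⟨m, hm1, hm0⟩ := Nat.chineseRemainder hKS 1 0
    have h1 : k ^ m = k := by
      have := pow_eq_pow_iff_modEq.2 (hm1.of_dvd (orderOf_dvd_natCard k))
      rwa [pow_one] at this
    have h2 : s ^ m = 1 := by
      have := pow_eq_pow_iff_modEq.2 (hm0.of_dvd (orderOf_dvd_natCard s))
      rwa [pow_zero] at this
    have h3 : ((k, 1) : K × S) ∈ J := by
      have := J.pow_mem h m
      rwa [Prod.pow_mk, h1, h2] at this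
    refine ⟨h3, ?_⟩
    have := J.mul_mem (J.inv_mem h3) h
    simpa using this
  · rintro ⟨h1, h2⟩
    have := J.mul_mem h1 h2
    simpa using this

theorem normalizer_prod_top (H₁ : Subgroup K) (H₂ : Subgroup S) :
    normalizer ((H₁.prod H₂ : Subgroup (K × S)) : Set (K × S)) =
      (normalizer (H₁ : Set K)).prod ⊤ := by
  ext ⟨k, s⟩
  simp only [mem_normalizer_iff, mem_prod, mem_top, and_true]
  constructor
  · intro hg a
    have := hg (a, 1)
    simpa [H₂.one_mem] using this
  · rintro hk ⟨a, t⟩
    have e : s * t * s⁻¹ = t := by rw [mul_comm s t, mul_inv_cancel_right]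
    simp only [Prod.mk_mul_mk, Prod.inv_mk, e]
    rw [hk a]

theorem coatom_prod_top [Finite K] [Finite S] (hKS : (Nat.card K).Coprime (Nat.card S))
    {C : Subgroup K} (hC : IsCoatom C) : IsCoatom (C.prod (⊤ : Subgroup S)) := by
  constructor
  · intro h
    apply hC.1
    rw [eq_top_iff]
    intro k _
    have : ((k, 1) : K × S) ∈ C.prod (⊤ : Subgroup S) := by rw [h]; trivial
    exact (mem_prod.1 this).1
  · intro J hJ
    have hd := prod_decomp hKS J
    have h1 : C ≤ J.comap (MonoidHom.inl K S) := by
      intro c hc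
      exact hJ.le (mem_prod.2 ⟨hc, mem_top _⟩)
    have h2 : J.comap (MonoidHom.inr K S) = ⊤ := by
      rw [eq_top_iff]
      intro s _
      exact hJ.le (mem_prod.2 ⟨C.one_mem, mem_top _⟩)
    have h3 : J.comap (MonoidHom.inl K S) ≠ C := by
      intro h
      rw [h, h2] at hd
      exact hJ.ne hd.symm
    rw [hd, h2, hC.2 _ (lt_of_le_of_ne h1 (Ne.symm h3)), top_prod_top]

theorem nmax_prod [Finite K] [Finite S]
    (hKS : (Nat.card K).Coprime (Nat.card S)) (h : NMax K) : NMax (K × S) := by
  intro H hH
  have hd := prod_decomp hKS H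
  have h1 : ¬ (H.comap (MonoidHom.inl K S)).Normal := by
    intro hn
    apply hH
    rw [← normalizer_eq_top_iff, hd, normalizer_prod_top, normalizer_eq_top_iff.2 hn, top_prod_top]
  rw [hd, normalizer_prod_top]
  exact coatom_prod_top hKS (h _ h1)

end prod

end Cfsg.Agent.Lib.Helper7.NMax
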