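import Mathlib
import Cfsg.Agent.Lib.Helper7.PSL2Emb
import Cfsg.Agent.Lib.Helper7.SL2Unip2
import Cfsg.Agent.Lib.Helper7.SL2Gen2

set_option autoImplicit false
set_option linter.unusedSimpArgs false
set_option linter.unusedSectionVars false
set_option linter.unusedVariables false

/-! A transvection acting on a `p'`-subgroup of `SL₂(q)`. -/

namespace Cfsg.Agent.Lib.Helper7.PMax

open Matrix MatrixGroups Subgroup Cfsg.Agent.Lib.Helper46 Cfsg.Agent.Lib.Helper18.SL2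
open Cfsg.Agent.Lib.Helper7

variable {F : Type*} [Field F]

/-- the hypotheses: `N ≥ Z` has no `p`-torsion and is normalised by the transvection `a` -/
structure PAct (p : ℕ) (N : Subgroup (SpecialLinearGroup (Fin 2) F))
    (a : SpecialLinearGroup (Fin 2) F) : Prop where
  hZ : center (SpecialLinearGroup (Fin 2) F) ≤ N
  norm : ∀ i : ℤ, ∀ n ∈ N, a ^ i * n * (a ^ i)⁻¹ ∈ N
  tors : ∀ u ∈ N, u ^ p = 1 → u = 1
  apow : a ^ p = 1
  tra : tr a = 2
  ne : a ≠ 1

/-- the group `N⟨a⟩` -/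
def PG (N : Subgroup (SpecialLinearGroup (Fin 2) F)) (a : SpecialLinearGroup (Fin 2) F)
    (h : ∀ i : ℤ, ∀ n ∈ N, a ^ i * n * (a ^ i)⁻¹ ∈ N) :
    Subgroup (SpecialLinearGroup (Fin 2) F) where
  carrier := {g | ∃ n ∈ N, ∃ i : ℤ, g = n * a ^ i}
  mul_mem' := by
    rintro _ _ ⟨n, hn, i, rfl⟩ ⟨m, hm, j, rfl⟩
    exact ⟨n * (a ^ i * m * (a ^ i)⁻¹), N.mul_mem hn (h i m hm), i + j, by
      rw [_root_.zpow_add]; group⟩
  one_mem' := ⟨1, N.one_mem, 0, by simp⟩
  inv_mem' := by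
    rintro _ ⟨n, hn, i, rfl⟩
    exact ⟨a ^ (-i) * n⁻¹ * (a ^ (-i))⁻¹, h (-i) _ (N.inv_mem hn), -i, by
      simp only [_root_.zpow_neg]; group⟩

variable {p : ℕ} {N : Subgroup (SpecialLinearGroup (Fin 2) F)}
  {a : SpecialLinearGroup (Fin 2) F}

theorem PAct.le_PG (h : PAct p N a) : N ≤ PG N a h.norm :=
  fun n hn => ⟨n, hn, 0, by simp⟩

theorem PAct.a_mem (h : PAct p N a) : a ∈ PG N a h.norm := ⟨1, N.one_mem, 1, by simp⟩

theorem PAct.comm_mem (h : PAct p N a) {x y : SpecialLinearGroup (Fin 2) F}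
    (hx : x ∈ PG N a h.norm) (hy : y ∈ PG N a h.norm) : x * y * x⁻¹ * y⁻¹ ∈ N := by
  obtain ⟨n, hn, i, rfl⟩ := hx
  obtain ⟨m, hm, j, rfl⟩ := hy
  have e : n * a ^ i * (m * a ^ j) * (n * a ^ i)⁻¹ * (m * a ^ j)⁻¹ =
      n * (a ^ i * m * (a ^ i)⁻¹) * (a ^ j * n⁻¹ * (a ^ j)⁻¹) * m⁻¹ := by
    have hc : a ^ i * a ^ j = a ^ j * a ^ i := by rw [← _root_.zpow_add, ← _root_.zpow_add, add_comm]
    calc n * a ^ i * (m * a ^ j) * (n * a ^ i)⁻¹ * (m * a ^ j)⁻¹
        = n * (a ^ i * m * (a ^ i)⁻¹) * ((a ^ i * a ^ j) * (a ^ i)⁻¹) * n⁻¹ * (a ^ j)⁻¹ * m⁻¹ := by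
          group
      _ = n * (a ^ i * m * (a ^ i)⁻¹) * (a ^ j * n⁻¹ * (a ^ j)⁻¹) * m⁻¹ := by
          rw [hc]; group
  rw [e]
  exact N.mul_mem (N.mul_mem (N.mul_mem hn (h.norm i m hm)) (h.norm j _ (N.inv_mem hn)))
    (N.inv_mem hm)

theorem PAct.a_not_center (h : PAct p N a) : a ∉ center (SpecialLinearGroup (Fin 2) F) :=
  fun hc => h.ne (h.tors a (h.hZ hc) h.apow)

theorem uu_pow_char [CharP F p] (e : F) : uu e ^ p = 1 := by
  rw [uu_pow, CharP.cast_eq_zero, zero_mul, Cfsg.Agent.Lib.Helper7.uu_zero]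

/-- the triangular case: `a` centralises `N` -/
theorem PAct.bor [CharP F p] (h : PAct p N a) (hB : BorType (PG N a h.norm)) :
    ∀ n ∈ N, n * a = a * n := by
  obtain ⟨g, hg⟩ := hB.commutator
  intro n hn
  obtain ⟨e, he⟩ := hg n (h.le_PG hn) a h.a_mem
  have h1 : (n * a * n⁻¹ * a⁻¹) ^ p = 1 := by
    rw [he]
    have : (g⁻¹ * uu e * g) ^ p = g⁻¹ * uu e ^ p * g := by
      have := conj_pow (a := g⁻¹) (b := uu e) (i := p)
      simpa using this
    rw [this, uu_pow_char]; group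
  have h2 := h.tors _ (h.comm_mem (h.le_PG hn) h.a_mem) h1
  calc n * a = (n * a * n⁻¹ * a⁻¹) * (a * n) := by group
    _ = a * n := by rw [h2, one_mul]

theorem PAct.tr_sq_of_commute (h : PAct p N a) {x : SpecialLinearGroup (Fin 2) F}
    (hx : Commute x a) : tr x ^ 2 = 4 := by
  obtain ⟨g, b, hg⟩ := exists_conj_uu h.tra
  have hb : b ≠ 0 := by
    rintro rfl
    rw [Cfsg.Agent.Lib.Helper7.uu_zero] at hg
    apply h.ne
    have := congrArg (fun w => g⁻¹ * w * g) hg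
    simpa [mul_assoc] using this
  have h1 : Commute (g * x * g⁻¹) (uu b) := by
    rw [← hg]
    show g * x * g⁻¹ * (g * a * g⁻¹) = g * a * g⁻¹ * (g * x * g⁻¹)
    calc g * x * g⁻¹ * (g * a * g⁻¹) = g * (x * a) * g⁻¹ := by group
      _ = g * (a * x) * g⁻¹ := by rw [hx.eq]
      _ = g * a * g⁻¹ * (g * x * g⁻¹) := by group
  have := tr_sq_of_commute_uu hb h1
  rwa [tr_conj] at this

/-- the toral case is impossible -/
theorem PAct.not_tor [Fintype F] (hp : Odd p) (h : PAct p N a) : ¬ Tor (PG N a h.norm) := by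
  rintro ⟨x, hx, hs, hall⟩
  rcases hall a h.a_mem with h1 | h1
  · exact hs (h.tr_sq_of_commute h1.symm)
  · apply hs
    apply h.tr_sq_of_commute
    have h2 : Commute x (a * a) := by
      show x * (a * a) = a * a * x
      have h3 : a * x = x⁻¹ * a := by rw [← h1]; group
      have h4 : a * x⁻¹ = x * a := by
        have : x = (a * x * a⁻¹)⁻¹ := by rw [h1, inv_inv]
        calc a * x⁻¹ = (a * x * a⁻¹)⁻¹ * a := by group
          _ = x * a := by rw [← this]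
      calc x * (a * a) = (x * a) * a := by group
        _ = a * (x⁻¹ * a) := by rw [← h4]; group
        _ = a * a * x := by rw [← h3]; group
    obtain ⟨k, hk⟩ := hp
    have h5 : a = (a * a) ^ (k + 1) := by
      have : (a * a) ^ (k + 1) = a ^ p * a := by
        rw [hk, ← pow_two, ← pow_mul, ← pow_succ]; congr 1
      rw [this, h.apow, one_mul]
    rw [h5]
    exact h2.pow_right _

/-- class data with `ε = 2` are impossible for `a` -/
theorem PAct.not_CD [Fintype F] (h : PAct p N a) {c : ℕ} (hc : 0 < c) :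
    ¬ CD (PG N a h.norm) c 2 a := by
  intro hcd
  set G := PG N a h.norm with hG
  have hz := zc_pos F
  have hlt : ¬ norIn G (cenIn G a) ≤ cenIn G a := by
    intro hle
    have := Subgroup.card_le_of_le hle
    rw [hcd.1, hcd.2] at this
    have : 0 < zc F * c := Nat.mul_pos hz hc
    omega
  obtain ⟨w, hw, hwn⟩ := SetLike.not_le_iff_exists.1 hlt
  obtain ⟨hwG, hwnorm⟩ := mem_norIn.1 hw
  have h1 := (hwnorm a).1 (self_mem_cenIn h.a_mem)
  have h2 : Commute (w * a * w⁻¹) a := (mem_cenIn.1 h1).2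
  have h3 : (w * a * w⁻¹ * a⁻¹) ^ p = 1 := by
    rw [(h2.inv_right).mul_pow, conj_pow, h.apow, inv_pow, h.apow]
    group
  have h4 := h.tors _ (h.comm_mem hwG h.a_mem) h3
  apply hwn
  refine mem_cenIn.2 ⟨hwG, ?_⟩
  show w * a = a * w
  calc w * a = (w * a * w⁻¹ * a⁻¹) * (a * w) := by group
    _ = a * w := by rw [h4, one_mul]

end Cfsg.Agent.Lib.Helper7.PMax
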