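import Mathlib
import Cfsg.Agent.Lib.Helper7.SL2PAct
import Cfsg.Agent.Lib.Helper18.SL2.PartC

set_option autoImplicit false
set_option linter.unusedSimpArgs false
set_option linter.unusedSectionVars false
set_option linter.unusedVariables false

/-! A transvection acting on a `p'`-subgroup of `SL₂(q)`: the subfield case. -/

namespace Cfsg.Agent.Lib.Helper7.PMax

open Matrix MatrixGroups Subgroup Cfsg.Agent.Lib.Helper46 Cfsg.Agent.Lib.Helper18.SL2
open Cfsg.Agent.Lib.Helper7

variable {F : Type*} [Field F]

theorem map_uu (K : Subfield F) (c : K) :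
    SpecialLinearGroup.map (n := Fin 2) K.subtype (uu c) = uu (c : F) := by
  apply ext2 <;> simp [uu, SpecialLinearGroup.map_apply_coe]

theorem embK_uu_pow {p : ℕ} [CharP F p] (K : Subfield F) (D : GL (Fin 2) F) (c : K) :
    embK K D (uu c) ^ p = 1 := by
  show (conjGLHom D (SpecialLinearGroup.map (n := Fin 2) K.subtype (uu c))) ^ p = 1
  rw [map_uu, ← map_pow, uu_pow_char, map_one]

theorem embK_uu_eq_one {K : Subfield F} {D : GL (Fin 2) F} {c : K}
    (h : embK K D (uu c) = 1) : c = 0 := by
  rw [← map_one (embK K D)] at h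
  have := embK_injective K D h
  rw [← Cfsg.Agent.Lib.Helper7.uu_zero] at this
  exact Cfsg.Agent.Lib.Helper7.uu_injective this

theorem dd_uu_comm {K : Type*} [Field K] (t : Kˣ) :
    dd t * uu 1 * (dd t)⁻¹ * (uu (1 : K))⁻¹ = uu ((t : K) ^ 2 - 1) := by
  have ht : (t : K) * ((t⁻¹ : Kˣ) : K) = 1 := by simp
  apply ext2 <;>
    simp only [dd, uu, mul_00, mul_01, mul_10, mul_11, inv_00, inv_01, inv_10, inv_11, mk2_00,
      mk2_01, mk2_10, mk2_11]
  · linear_combination ht
  · linear_combination (-1 : K) * ht
  · ring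
  · linear_combination ht

theorem conjGL_negOne (D : GL (Fin 2) F) : conjGL D negOne = negOne := by
  apply toGL_inj
  rw [toGL_conjGL]
  have hc : SpecialLinearGroup.toGL (negOne : SpecialLinearGroup (Fin 2) F) * D =
      D * SpecialLinearGroup.toGL negOne := by
    apply Units.ext
    show (negOne : SpecialLinearGroup (Fin 2) F).1 * D.1 =
      D.1 * (negOne : SpecialLinearGroup (Fin 2) F).1
    ext i j
    fin_cases i <;> fin_cases j <;>
      simp [negOne, mk2, Matrix.mul_apply, Fin.sum_univ_two]
  rw [mul_assoc, hc]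
  group

theorem map_negOne (K : Subfield F) :
    SpecialLinearGroup.map (n := Fin 2) K.subtype negOne = negOne := by
  apply ext2 <;> simp [negOne, SpecialLinearGroup.map_apply_coe]

theorem embK_negOne (K : Subfield F) (D : GL (Fin 2) F) : embK K D negOne = negOne := by
  show conjGL D (SpecialLinearGroup.map (n := Fin 2) K.subtype negOne) = negOne
  rw [map_negOne, conjGL_negOne]

theorem diag_conj_uu {K : Type*} [Field K] :
    diagGL (-1 : K) (by simp) * SpecialLinearGroup.toGL (uu 1) * (diagGL (-1 : K) (by simp))⁻¹ =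
      SpecialLinearGroup.toGL (uu (-1)) := by
  rw [mul_inv_eq_iff_eq_mul]
  apply Units.ext
  show (diagGL (-1 : K) (by simp)).1 * (uu (1 : K)).1 =
    (uu (-1 : K)).1 * (diagGL (-1 : K) (by simp)).1
  rw [diagGL_val]
  ext i j
  fin_cases i <;> fin_cases j <;>
    simp [uu, mk2, Matrix.mul_apply, Fin.sum_univ_two]

variable {p : ℕ} {N : Subgroup (SpecialLinearGroup (Fin 2) F)}
  {a : SpecialLinearGroup (Fin 2) F}

theorem PAct.insub [Fintype F] [Fact p.Prime] [CharP F p] (h2 : (2 : F) ≠ 0) (h : PAct p N a)
    {K : Subfield F} {D : GL (Fin 2) F} (hIn : InSub K D (PG N a h.norm)) :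
    Nat.card K = 3 ∧ PG N a h.norm = (embK K D).range := by
  classical
  set G := PG N a h.norm with hG
  have hZG : center (SpecialLinearGroup (Fin 2) F) ≤ G := h.hZ.trans h.le_PG
  have hmem := fun s => InSub.embK_mem hIn hZG s
  have h2K : (2 : K) ≠ 0 := by
    intro h0
    apply h2
    have h3 : ((2 : K) : F) = ((0 : K) : F) := congrArg Subtype.val h0
    push_cast at h3
    exact h3
  have hunits : ∀ t : Kˣ, (t : K) ^ 2 = 1 := by
    intro t
    have h1 := h.comm_mem (hmem (dd t)) (hmem (uu 1))
    rw [← map_inv, ← map_inv, ← map_mul, ← map_mul, ← map_mul, dd_uu_comm] at h1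
    have h3 := embK_uu_eq_one (h.tors _ h1 (embK_uu_pow K D _))
    linear_combination h3
  have := Fintype.ofFinite K
  refine ⟨?_, ?_⟩
  · apply le_antisymm
    · have hsub : (Finset.univ : Finset K) ⊆ {0, 1, -1} := by
        intro x _
        by_cases hx : x = 0
        · simp [hx]
        · have := hunits (Units.mk0 x hx)
          rw [Units.val_mk0, sq, mul_self_eq_one_iff] at this
          rcases this with h | h <;> simp [h]
      have h1 := Finset.card_le_card hsub
      have h3 : ({0, 1, -1} : Finset K).card ≤ 3 := Finset.card_le_three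
      rw [Finset.card_univ, ← Nat.card_eq_fintype_card] at h1
      omega
    · have h1 : ({0, 1, -1} : Finset K).card = 3 := by
        rw [Finset.card_insert_of_notMem, Finset.card_insert_of_notMem, Finset.card_singleton]
        · simp only [Finset.mem_singleton]
          intro h1
          apply h2K
          linear_combination h1
        · simp
      rw [Nat.card_eq_fintype_card, ← h1]
      exact Finset.card_le_univ _
  · apply le_antisymm
    · rcases InSub.range_or hIn hZG with hr | hr
      · intro g hg
        obtain ⟨s, z, hz, rfl⟩ := hr g hg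
        rcases Cfsg.Agent.Lib.Helper46.eq_one_or_negOne_of_mem_center z hz with rfl | rfl
        · exact ⟨s, by simp⟩
        · exact ⟨s * negOne, by rw [map_mul, embK_negOne]⟩
      · exfalso
        obtain ⟨g', hg', hgy⟩ := hr (ProjGenLinGroup.mk (diagGL (-1 : K) (by simp)))
        have e1 : Phi D (g' * embK K D (uu 1) * g'⁻¹) = Phi D (embK K D (uu (-1))) := by
          rw [map_mul, map_mul, map_inv, hgy, Phi_embK, Phi_embK, ← map_inv, ← map_mul,
            ← map_mul]
          congr 1
          show ProjGenLinGroup.mk _ * ProjGenLinGroup.mk (SpecialLinearGroup.toGL (uu 1)) *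
            (ProjGenLinGroup.mk _)⁻¹ = ProjGenLinGroup.mk (SpecialLinearGroup.toGL (uu (-1)))
          rw [← map_inv, ← map_mul, ← map_mul, diag_conj_uu]
        rw [Phi_eq_iff] at e1
        set z := (g' * embK K D (uu 1) * g'⁻¹)⁻¹ * embK K D (uu (-1)) with hz
        have e2 : g' * embK K D (uu 1) * g'⁻¹ = embK K D (uu (-1)) * z⁻¹ := by
          rw [hz]; group
        have hzc : ∀ w, z⁻¹ * w = w * z⁻¹ := fun w =>
          (mem_center_iff.1 ((center _).inv_mem e1) w).symm
        have hzz : z⁻¹ * z⁻¹ = 1 := sq_eq_one_of_mem_center _ ((center _).inv_mem e1)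
        have hc := h.comm_mem hg' (hmem (uu 1))
        rw [e2] at hc
        have e3 : (embK K D (uu (-1)) * z⁻¹ * (embK K D (uu 1))⁻¹) *
            (embK K D (uu (-1)) * z⁻¹ * (embK K D (uu 1))⁻¹) = embK K D (uu (-4)) := by
          have e4 : embK K D (uu (-1)) * z⁻¹ * (embK K D (uu 1))⁻¹ =
              embK K D (uu (-2)) * z⁻¹ := by
            rw [mul_assoc, hzc, ← mul_assoc, ← map_inv, ← map_mul, uu_inv, uu_mul]
            norm_num
          rw [e4, mul_assoc, ← mul_assoc z⁻¹, hzc, mul_assoc, hzz, mul_one, ← map_mul, uu_mul]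
          norm_num
        have h4 := N.mul_mem hc hc
        rw [e3] at h4
        have h5 := embK_uu_eq_one (h.tors _ h4 (embK_uu_pow K D _))
        apply h2K
        have : (2 : K) ^ 2 = 0 := by linear_combination -h5
        exact pow_eq_zero_iff (two_ne_zero) |>.1 this
    · rintro _ ⟨s, rfl⟩
      exact hmem s

end Cfsg.Agent.Lib.Helper7.PMax
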