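import Mathlib
import Cfsg.Agent.Lib.Helper7.PSL2SubM
import Cfsg.Agent.Lib.Helper7.PSL2Bor
import Cfsg.Agent.Lib.Helper7.PSL2TorN
import Cfsg.Agent.Lib.Helper7.SL2Full3

set_option autoImplicit false
set_option linter.unusedSimpArgs false
set_option linter.unusedSectionVars false
set_option linter.unusedVariables false

/-! The maximal subgroups of `PSL₂(q)`: first reduction. -/

namespace Cfsg.Agent.Lib.Helper7.PMax

open Matrix MatrixGroups Subgroup Cfsg.Agent.Lib.Helper46 Cfsg.Agent.Lib.Helper18.SL2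
open Cfsg.Agent.Lib.Helper7

variable {F : Type*} [Field F]

theorem pre_top : pre (⊤ : Subgroup (ProjectiveSpecialLinearGroup (Fin 2) F)) = ⊤ := rfl

theorem coatom_eq_img {M : Subgroup (ProjectiveSpecialLinearGroup (Fin 2) F)} (hM : IsCoatom M)
    {A : Subgroup (SpecialLinearGroup (Fin 2) F)}
    (hZ : center (SpecialLinearGroup (Fin 2) F) ≤ A) (hle : pre M ≤ A) (hA : A ≠ ⊤) :
    M = img A := by
  have h1 : M ≤ img A := by
    rw [← img_pre M]
    exact Subgroup.map_mono hle
  by_contra hne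
  apply hA
  rw [← pre_img hZ, hM.2 _ (lt_of_le_of_ne h1 hne), pre_top]

variable [Fintype F]

theorem ne_top_of_card_lt {A : Subgroup (SpecialLinearGroup (Fin 2) F)}
    (h : Nat.card A < Fintype.card F * (Fintype.card F ^ 2 - 1)) : A ≠ ⊤ := by
  intro hA
  rw [hA, Subgroup.card_top, card_SL2] at h
  exact lt_irrefl _ h

/-- the conjugate Borel subgroup -/
theorem borType_le {G : Subgroup (SpecialLinearGroup (Fin 2) F)} (h : BorType G) :
    ∃ B : Subgroup (SpecialLinearGroup (Fin 2) F), G ≤ B ∧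
      center (SpecialLinearGroup (Fin 2) F) ≤ B ∧
      Nat.card B = Fintype.card F * (Fintype.card F - 1) := by
  obtain ⟨g, hg⟩ := h
  refine ⟨(BorS F).map (MulAut.conj g⁻¹).toMonoidHom, ?_, ?_, ?_⟩
  · intro x hx
    refine ⟨g * x * g⁻¹, hg x hx, ?_⟩
    simp only [MulEquiv.coe_toMonoidHom, MulAut.conj_apply]
    group
  · intro z hz
    refine ⟨z, center_le_BorS hz, ?_⟩
    simp only [MulEquiv.coe_toMonoidHom, MulAut.conj_apply]
    rw [mem_center_iff.1 hz g⁻¹]
    group
  · rw [card_map_conj, card_BorS]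

theorem coatom_cases (p : ℕ) [Fact p.Prime] [CharP F p] (hq : 3 ≤ Fintype.card F)
    {M : Subgroup (ProjectiveSpecialLinearGroup (Fin 2) F)} (hM : IsCoatom M) :
    (zc F * Nat.card M = Fintype.card F * (Fintype.card F - 1)) ∨
    (∃ x : SpecialLinearGroup (Fin 2) F, tr x ^ 2 ≠ 4 ∧ M = img (torN x)) ∨
    (Exc (pre M) ∧ (2 : F) ≠ 0) ∨
    (∃ (L : Subfield F) (D : GL (Fin 2) F) (l : ℕ), l.Prime ∧ 3 ≤ Nat.card L ∧
      Nat.card L ^ l = Fintype.card F ∧ M = subM L D) := by
  set q := Fintype.card F with hqdef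
  have hq2 : q ≤ q ^ 2 := by nlinarith
  rcases dickson p (pre M) (center_le_pre M) with h | ⟨x, hx, hs, hall⟩ | h | ⟨K, D, hIn, hK⟩
  · left
    obtain ⟨B, hGB, hZB, hB⟩ := borType_le (G := pre M) h
    have hBt : B ≠ ⊤ := by
      apply ne_top_of_card_lt
      rw [hB, ← hqdef]
      apply Nat.mul_lt_mul_of_pos_left _ (by omega)
      have : q < q ^ 2 := by nlinarith
      omega
    have := coatom_eq_img hM hZB hGB hBt
    rw [this, ← card_img hZB, hB]
  · right; left
    refine ⟨x, hs, coatom_eq_img hM (center_le_torN x) (le_torN hs hall) ?_⟩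
    apply ne_top_of_card_lt
    rw [card_torN hs hq, ← hqdef]
    have h1 : Nat.card (centralizer ({x} : Set (SpecialLinearGroup (Fin 2) F))) ≤ q + 1 := by
      rcases card_centralizer_ss hs with h | h <;> rw [h] <;> omega
    have h2 : 2 * (q + 1) < q * (q ^ 2 - 1) := by
      have h3 : 8 ≤ q ^ 2 - 1 := by
        have : 9 ≤ q ^ 2 := by nlinarith
        omega
      nlinarith
    omega
  · right; right; left; exact h
  · right; right; right
    obtain ⟨L, l, hl, hKL, hL, hML⟩ := coatom_insub hM hIn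
    refine ⟨L, D, l, hl, hK.trans ?_, hL, hML⟩
    exact Nat.card_le_card_of_injective (Subfield.inclusion hKL) (Subfield.inclusion hKL).injective

end Cfsg.Agent.Lib.Helper7.PMax
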