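import Mathlib
import Cfsg.Agent.Lib.Helper7.PSL2Sub

set_option autoImplicit false
set_option linter.unusedSimpArgs false
set_option linter.unusedSectionVars false
set_option linter.unusedVariables false

/-! Subfield subgroups of `PSL₂(F)`: maximality and isomorphism type. -/

namespace Cfsg.Agent.Lib.Helper7.PSub

open Matrix MatrixGroups Subgroup Cfsg.Agent.Lib.Helper46 Cfsg.Agent.Lib.Helper18.SL2
open Cfsg.Agent.Lib.Helper7

variable {F : Type*} [Field F] {F₀ : Subfield F}

theorem subH_isCoatom [Finite F] (hdich : ∀ K : Subfield F, F₀ ≤ K → K = F₀ ∨ K = ⊤)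
    (hne : ∃ lam : F, lam ∉ F₀)
    (hnorm : ∀ G : Subgroup (SpecialLinearGroup (Fin 2) F), subG F₀ ≤ G → ¬ G ≤ subG F₀ →
      Normalized G) : IsCoatom (subH F₀) := by
  constructor
  · intro htop
    obtain ⟨lam, hlam⟩ := hne
    have h1 : (QuotientGroup.mk (uu lam) : ProjectiveSpecialLinearGroup (Fin 2) F) ∈ subH F₀ := by
      rw [htop]; trivial
    rw [mem_subH_iff, uu_mem_subG_iff] at h1
    exact hlam h1
  · intro H' hlt
    set G : Subgroup (SpecialLinearGroup (Fin 2) F) :=
      H'.comap (QuotientGroup.mk' (center (SpecialLinearGroup (Fin 2) F))) with hG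
    have hmem : ∀ g, g ∈ G ↔ (QuotientGroup.mk g : ProjectiveSpecialLinearGroup (Fin 2) F) ∈ H' :=
      fun g => Iff.rfl
    have hle : subG F₀ ≤ G := by
      intro g hg
      rw [hmem]
      exact hlt.le ((mem_subH_iff g).2 hg)
    have hnle : ¬ G ≤ subG F₀ := by
      intro h
      apply hlt.not_ge
      intro x hx
      induction x using QuotientGroup.induction_on with | H g =>
      exact (mem_subH_iff g).2 (h ((hmem g).2 hx))
    rcases overgroup_dich hdich G hle (hnorm G hle hnle) with h | h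
    · exact absurd h hnle
    · rw [eq_top_iff]
      intro x _
      induction x using QuotientGroup.induction_on with | H g =>
      rw [← hmem, h]; trivial

/-- the comparison group inside `PGL₂(F₀)` -/
def cmpH (F₀ : Subfield F) : Subgroup (PGL(Fin 2, F₀)) :=
  (ProjectiveSpecialLinearGroup.toPGL (n := Fin 2) (R := F)).range.comap
    (ProjGenLinGroup.map (n := Fin 2) F₀.subtype)

theorem subH_equiv_cmpH : Nonempty (subH F₀ ≃* cmpH F₀) := by
  set ι := ProjGenLinGroup.map (n := Fin 2) F₀.subtype with hι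
  have hιinj : Function.Injective ι := pgl_map_injective F₀.subtype
  have e1 : subH F₀ ≃* (subH F₀).map ProjectiveSpecialLinearGroup.toPGL :=
    (subH F₀).equivMapOfInjective _ ProjectiveSpecialLinearGroup.toPGL_injective
  have e2 : cmpH F₀ ≃* (cmpH F₀).map ι := (cmpH F₀).equivMapOfInjective _ hιinj
  have h : (subH F₀).map ProjectiveSpecialLinearGroup.toPGL = (cmpH F₀).map ι := by
    rw [subH, cmpH, Subgroup.map_comap_eq, Subgroup.map_comap_eq, inf_comm]
  exact ⟨(e1.trans (MulEquiv.subgroupCongr h)).trans e2.symm⟩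

theorem mk_mem_cmpH_iff (g₀ : GL (Fin 2) F₀) :
    ProjGenLinGroup.mk g₀ ∈ cmpH F₀ ↔ IsSquare (((g₀.det : F₀ˣ) : F₀) : F) := by
  rw [cmpH, mem_comap, ProjGenLinGroup.map_mk]
  have hdet : (((GeneralLinearGroup.map (n := Fin 2) F₀.subtype g₀).det : Fˣ) : F)
      = (((g₀.det : F₀ˣ) : F₀) : F) := by
    simp only [GeneralLinearGroup.val_det_apply]
    have : ((GeneralLinearGroup.map (n := Fin 2) F₀.subtype g₀ : GL (Fin 2) F) :
        Matrix (Fin 2) (Fin 2) F) = (g₀ : Matrix (Fin 2) (Fin 2) F₀).map F₀.subtype := rfl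
    rw [this]
    exact (RingHom.map_det F₀.subtype _).symm
  constructor
  · rintro ⟨x, hx⟩
    induction x using QuotientGroup.induction_on with | H s =>
    rw [ProjectiveSpecialLinearGroup.toPGL_mk, ProjGenLinGroup.mk_eq_mk_iff] at hx
    obtain ⟨u, hu⟩ := hx
    have h1 := congrArg (fun z : GL (Fin 2) F => ((z.det : Fˣ) : F)) hu
    simp only [map_mul, Units.val_mul] at h1
    rw [hdet] at h1
    rw [← h1]
    refine ⟨u, ?_⟩
    have a1 : (((SpecialLinearGroup.toGL s).det : Fˣ) : F) = 1 := by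
      simp
    have a2 : (((GeneralLinearGroup.scalar (Fin 2) u).det : Fˣ) : F) = u * u := by
      simp [Matrix.scalar_apply, Matrix.det_diagonal, Fin.prod_univ_two]
      ring
    rw [a1, a2, one_mul]
  · intro h
    apply mk_mem_range_toPGL
    rw [hdet]; exact h

theorem cmpH_eq_top (h : ∀ a : F₀, IsSquare (a : F)) : cmpH F₀ = ⊤ := by
  rw [eq_top_iff]
  intro x _
  induction x using Matrix.ProjGenLinGroup.induction_on with | mk g₀ =>
  exact (mk_mem_cmpH_iff g₀).2 (h _)

theorem cmpH_eq_range (h : ∀ a : F₀, IsSquare (a : F) → IsSquare a) :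
    cmpH F₀ = (ProjectiveSpecialLinearGroup.toPGL (n := Fin 2) (R := F₀)).range := by
  apply le_antisymm
  · intro x hx
    induction x using Matrix.ProjGenLinGroup.induction_on with | mk g₀ =>
    exact mk_mem_range_toPGL g₀ (h _ ((mk_mem_cmpH_iff g₀).1 hx))
  · rintro _ ⟨x, rfl⟩
    induction x using QuotientGroup.induction_on with | H s =>
    rw [ProjectiveSpecialLinearGroup.toPGL_mk, mk_mem_cmpH_iff]
    refine ⟨1, ?_⟩
    simp

theorem subH_equiv_pgl (h : ∀ a : F₀, IsSquare (a : F)) :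
    Nonempty (subH F₀ ≃* PGL(Fin 2, F₀)) := by
  obtain ⟨e⟩ := subH_equiv_cmpH (F₀ := F₀)
  exact ⟨(e.trans (MulEquiv.subgroupCongr (cmpH_eq_top h))).trans Subgroup.topEquiv⟩

theorem subH_equiv_psl (h : ∀ a : F₀, IsSquare (a : F) → IsSquare a) :
    Nonempty (subH F₀ ≃* ProjectiveSpecialLinearGroup (Fin 2) F₀) := by
  obtain ⟨e⟩ := subH_equiv_cmpH (F₀ := F₀)
  exact ⟨(e.trans (MulEquiv.subgroupCongr (cmpH_eq_range h))).trans
    (MonoidHom.ofInjective ProjectiveSpecialLinearGroup.toPGL_injective).symm⟩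

end Cfsg.Agent.Lib.Helper7.PSub
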