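import Mathlib
import Cfsg.Agent.Lib.Helper7.PSL2Sub2
import Cfsg.Agent.Lib.Helper50.FiniteFieldExt
import Cfsg.Agent.Lib.Helper6.SLEquiv

set_option autoImplicit false
set_option linter.unusedSimpArgs false
set_option linter.unusedSectionVars false
set_option linter.unusedVariables false

/-! Subfield subgroups of `PSL₂(F)`: the normalisation hypotheses, squares, final statements. -/

namespace Cfsg.Agent.Lib.Helper7.PSub

open Matrix MatrixGroups Subgroup Cfsg.Agent.Lib.Helper46 Cfsg.Agent.Lib.Helper18.SL2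
open Cfsg.Agent.Lib.Helper7

variable {F : Type*} [Field F] [Fintype F] {F₀ : Subfield F}

theorem normalized_or (p : ℕ) [Fact p.Prime] [CharP F p]
    (G : Subgroup (SpecialLinearGroup (Fin 2) F))
    (hZ : center (SpecialLinearGroup (Fin 2) F) ≤ G) {a₀ b₀ : F} (ha₀ : a₀ ≠ 0) (hb₀ : b₀ ≠ 0)
    (hu : uu a₀ ∈ G) (hl : ll b₀ ∈ G) (h3 : 3 ≤ Nat.card (addOf G)) :
    Normalized G ∨ (Nat.card (addOf G) = 3 ∧ Nat.card G = zc F * 60) := by
  have h0 := zero_mem_ptsOf p G ha₀ hb₀ hu hl
  rcases main_analysisZ p G hZ ha₀ hb₀ hu hl h3 with h | h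
  · left
    refine ⟨⟨b₀, hb₀, hl⟩, fun g hg => ?_⟩
    by_cases g10 : g.1 1 0 = 0
    · left; exact g10
    · right
      have hm : g.1 0 0 / g.1 1 0 ∈ ptsOf G := ⟨g, hg, g10, by field_simp⟩
      have := h _ hm _ h0
      rwa [sub_zero] at this
  · right; exact h

theorem card_le_addOf {G : Subgroup (SpecialLinearGroup (Fin 2) F)} (hle : subG F₀ ≤ G) :
    Nat.card F₀ ≤ Nat.card (addOf G) := by
  apply Nat.card_le_card_of_injective
    (fun a : F₀ => (⟨a.1, hle (uu_mem_subG a.2)⟩ : addOf G))
  intro a b h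
  exact Subtype.ext (congrArg (fun z : addOf G => z.1) h)

theorem normalized_or' (G : Subgroup (SpecialLinearGroup (Fin 2) F)) (hle : subG F₀ ≤ G)
    (h3 : 3 ≤ Nat.card F₀) :
    Normalized G ∨ (Nat.card (addOf G) = 3 ∧ Nat.card G = zc F * 60) := by
  obtain ⟨p, hp⟩ := CharP.exists F
  haveI : Fact p.Prime := ⟨CharP.char_is_prime F p⟩
  exact normalized_or p G (center_le_subG.trans hle) one_ne_zero one_ne_zero
    (hle (uu_mem_subG F₀.one_mem)) (hle (ll_mem_subG F₀.one_mem))
    (h3.trans (card_le_addOf hle))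

theorem normalized_of_four' (G : Subgroup (SpecialLinearGroup (Fin 2) F)) (hle : subG F₀ ≤ G)
    (h4 : 4 ≤ Nat.card F₀) : Normalized G := by
  rcases normalized_or' G hle (by omega) with h | ⟨h, -⟩
  · exact h
  · have := card_le_addOf hle
    omega

/-- squares descend in odd degree -/
theorem isSquare_descend {r : ℕ} (hr : Odd r) (hcard : Fintype.card F = Nat.card F₀ ^ r)
    (h2 : (2 : F) ≠ 0) (a : F₀) (ha : IsSquare (a : F)) : IsSquare a := by
  have := Fintype.ofFinite F₀
  by_cases ha0 : a = 0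
  · rw [ha0]; exact IsSquare.zero
  obtain ⟨u, hu⟩ := ha
  set q := Fintype.card F₀ with hq
  have hqc : Nat.card F₀ = q := Nat.card_eq_fintype_card
  have hchar : ringChar F₀ ≠ 2 := by
    intro h
    have h3 : ((2 : ℕ) : F₀) = 0 := by rw [← h]; exact ringChar.Nat.cast_ringChar
    apply h2
    have := congrArg (fun z : F₀ => (z : F)) h3
    push_cast at this
    exact this
  have hqodd : Odd q := Nat.odd_iff.2 (FiniteField.odd_card_of_char_ne_two hchar)
  have hu0 : u ≠ 0 := by
    rintro rfl
    apply ha0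
    apply Subtype.ext
    simpa using hu
  have haq : (a : F) ^ q = a := by
    have := FiniteField.pow_card a
    have h3 := congrArg (fun z : F₀ => (z : F)) this
    simpa using h3
  have h1 : u ^ q * u ^ q = u * u := by
    rw [← mul_pow, ← hu, haq]
  rcases mul_self_eq_mul_self_iff.1 h1 with h | h
  · have h3 : u ^ (q - 1) = 1 := by
      have hq1 : 1 ≤ q := hqodd.pos
      have : u ^ (q - 1) * u = 1 * u := by
        rw [← pow_succ, Nat.sub_add_cancel hq1, h, one_mul]
      exact mul_right_cancel₀ hu0 this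
    rw [FiniteField.isSquare_iff hchar ha0]
    apply Subtype.ext
    have h4 : ((a ^ (Fintype.card F₀ / 2) : F₀) : F) = u ^ (q - 1) := by
      obtain ⟨m, hm⟩ := hqodd
      have e1 : q / 2 = m := by omega
      have e2 : q - 1 = 2 * m := by omega
      rw [← hq, e1, e2]
      push_cast
      rw [hu, pow_mul, pow_two]
    rw [h4, h3]; rfl
  · exfalso
    have key : ∀ k : ℕ, u ^ (q ^ k) = (-1) ^ k * u := by
      intro k
      induction k with
      | zero => simp
      | succ k ih =>
        rw [pow_succ, pow_mul, ih, mul_pow, h, ← pow_mul, mul_comm k q, pow_mul, hqodd.neg_one_pow,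
          pow_succ]
        ring
    have h3 := key r
    rw [← hqc, ← hcard, FiniteField.pow_card, hr.neg_one_pow] at h3
    have : 2 * u = 0 := by linear_combination h3
    rcases mul_eq_zero.1 this with h5 | h5
    · exact h2 h5
    · exact hu0 h5

/-- everything becomes a square in degree two -/
theorem isSquare_of_sq (hcard : Fintype.card F = Nat.card F₀ ^ 2) (a : F₀) : IsSquare (a : F) := by
  have := Fintype.ofFinite F₀
  by_cases hchar : ringChar F = 2
  · exact FiniteField.isSquare_of_char_two hchar _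
  by_cases ha0 : (a : F) = 0
  · rw [ha0]; exact IsSquare.zero
  rw [FiniteField.isSquare_iff hchar ha0]
  set q := Fintype.card F₀ with hq
  have hqc : Nat.card F₀ = q := Nat.card_eq_fintype_card
  have ha0' : a ≠ 0 := fun h => ha0 (by rw [h]; rfl)
  have h1 : (a : F) ^ (q - 1) = 1 := by
    have := FiniteField.pow_card_sub_one_eq_one a ha0'
    have h3 := congrArg (fun z : F₀ => (z : F)) this
    simpa using h3
  have hodd : Odd (Fintype.card F) := Nat.odd_iff.2 (FiniteField.odd_card_of_char_ne_two hchar)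
  rw [hcard, hqc] at hodd ⊢
  have hqodd : Odd q := by
    rcases Nat.even_or_odd q with h | h
    · exfalso
      have : Even (q ^ 2) := h.pow_of_ne_zero (by norm_num)
      exact (Nat.not_even_iff_odd.2 hodd) this
    · exact h
  obtain ⟨m, hm⟩ := hqodd
  have e : q ^ 2 / 2 = (q - 1) * (m + 1) := by
    rw [hm]
    have : (2 * m + 1) ^ 2 = 2 * (2 * m * (m + 1)) + 1 := by ring
    rw [this]
    have e2 : 2 * m + 1 - 1 = 2 * m := by omega
    rw [e2]
    omega
  rw [e, pow_mul, h1, one_pow]

/-- a subfield of the right order -/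
theorem exists_subfield {K : Type*} [Field K] [Fintype K] (r : ℕ)
    (h : Fintype.card F = Fintype.card K ^ r) :
    ∃ F₀ : Subfield F, Nonempty (K ≃+* F₀) ∧ Nat.card F₀ = Fintype.card K := by
  obtain ⟨alg, -⟩ := Cfsg.Agent.Lib.Helper50.exists_algebra_of_card_pow r h
  refine ⟨(algebraMap K F).fieldRange, ⟨(algebraMap K F).rangeRestrictFieldEquiv⟩, ?_⟩
  rw [← Nat.card_eq_fintype_card]
  exact (Nat.card_congr (algebraMap K F).rangeRestrictFieldEquiv.toEquiv).symm

theorem exists_not_mem {r : ℕ} (hr : 2 ≤ r) (hcard : Fintype.card F = Nat.card F₀ ^ r) :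
    ∃ lam : F, lam ∉ F₀ := by
  by_contra hcon
  push Not at hcon
  have htop : F₀ = ⊤ := eq_top_iff.2 (fun x _ => hcon x)
  have h1 : Nat.card F₀ = Fintype.card F := by
    rw [htop, ← Nat.card_eq_fintype_card]
    exact Nat.card_congr Subfield.topEquiv.toEquiv
  rw [h1] at hcard
  have h2 : 1 < Fintype.card F := Fintype.one_lt_card
  have h4 : Fintype.card F ^ 1 = Fintype.card F ^ r := by rw [pow_one]; exact hcard
  have := Nat.pow_right_injective h2 h4
  omega

end Cfsg.Agent.Lib.Helper7.PSub
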