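import Mathlib
import Cfsg.Agent.Lib.Helper7.PSL2MaxCls
import Cfsg.Agent.Lib.Helper7.PSL2Sub3
import Cfsg.Agent.Lib.Helper18.SL2.PartCFinal

set_option autoImplicit false
set_option linter.unusedSimpArgs false
set_option linter.unusedSectionVars false
set_option linter.unusedVariables false

/-! Maximal subgroups of `PSL₂(q)`, `q` odd: the subfield case. -/

namespace Cfsg.Agent.Lib.Helper7.PMax

open Matrix MatrixGroups Subgroup Cfsg.Agent.Lib.Helper46 Cfsg.Agent.Lib.Helper18.SL2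
open Cfsg.Agent.Lib.Helper7

variable {F : Type*} [Field F]

theorem range_PhiBar (D : GL (Fin 2) F) :
    (PhiBar D).range = (ProjectiveSpecialLinearGroup.toPGL (n := Fin 2) (R := F)).range := by
  apply le_antisymm
  · rintro _ ⟨x, rfl⟩
    induction x using QuotientGroup.induction_on with | H g =>
    refine ⟨QuotientGroup.mk (conjGL D⁻¹ g), ?_⟩
    rw [PhiBar_mk, Phi_apply]
    show ProjGenLinGroup.mk (SpecialLinearGroup.toGL (conjGL D⁻¹ g)) = _
    rw [toGL_conjGL, inv_inv]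
  · rintro _ ⟨x, rfl⟩
    induction x using QuotientGroup.induction_on with | H g =>
    refine ⟨QuotientGroup.mk (conjGL D g), ?_⟩
    rw [PhiBar_mk, Phi_conjGL]
    rfl

theorem subM_equiv_subH (L : Subfield F) (D : GL (Fin 2) F) :
    Nonempty (subM L D ≃* PSub.subH L) := by
  have e1 : subM L D ≃* (subM L D).map (PhiBar D) :=
    (subM L D).equivMapOfInjective _ (PhiBar_injective D)
  have e2 : PSub.subH L ≃* (PSub.subH L).map ProjectiveSpecialLinearGroup.toPGL :=
    (PSub.subH L).equivMapOfInjective _ ProjectiveSpecialLinearGroup.toPGL_injective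
  have h : (subM L D).map (PhiBar D) = (PSub.subH L).map ProjectiveSpecialLinearGroup.toPGL := by
    rw [subM, PSub.subH, Subgroup.map_comap_eq, Subgroup.map_comap_eq, range_PhiBar]
  exact ⟨(e1.trans (MulEquiv.subgroupCongr h)).trans e2.symm⟩

/-- the two subfield conclusions -/
def GoalS (F : Type*) [Field F] [Fintype F] (X : Type*) [Group X] : Prop :=
    (∃ (F₀ : Type) (_ : Field F₀) (_ : Fintype F₀), Fintype.card F = Fintype.card F₀ ^ 2 ∧
        Nonempty (X ≃* Matrix.ProjGenLinGroup (Fin 2) F₀)) ∨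
    (∃ (F₀ : Type) (_ : Field F₀) (_ : Fintype F₀) (r : ℕ), r.Prime ∧ Odd r ∧
        Fintype.card F = Fintype.card F₀ ^ r ∧
        Nonempty (X ≃* Matrix.ProjectiveSpecialLinearGroup (Fin 2) F₀))

theorem GoalS.congr [Fintype F] {X Y : Type*} [Group X] [Group Y] (e : X ≃* Y)
    (h : GoalS F Y) : GoalS F X := by
  rcases h with ⟨F₀, i1, i2, h1, ⟨f⟩⟩ | ⟨F₀, i1, i2, r, h1, h2, h3, ⟨f⟩⟩
  · exact Or.inl ⟨F₀, i1, i2, h1, ⟨e.trans f⟩⟩
  · exact Or.inr ⟨F₀, i1, i2, r, h1, h2, h3, ⟨e.trans f⟩⟩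

variable [Fintype F]

theorem sub_case (h2 : (2 : F) ≠ 0) {L : Subfield F} (D : GL (Fin 2) F) {l : ℕ} (hl : l.Prime)
    (hL : Nat.card L ^ l = Fintype.card F) : GoalS F (subM L D) := by
  have e : Shrink.{0} L ≃+* L := Shrink.ringEquiv.{0} L
  have : Fintype (Shrink.{0} L) := Fintype.ofFinite _
  have hcard : Fintype.card (Shrink.{0} L) = Nat.card L := by
    rw [← Nat.card_eq_fintype_card]
    exact Nat.card_congr e.toEquiv
  obtain ⟨f⟩ := subM_equiv_subH L D
  rcases hl.eq_two_or_odd' with rfl | hodd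
  · left
    obtain ⟨f'⟩ := PSub.subH_equiv_pgl (F₀ := L) (PSub.isSquare_of_sq hL.symm)
    exact ⟨Shrink.{0} L, inferInstance, inferInstance, by rw [hcard, hL],
      ⟨(f.trans f').trans (pglEquiv e.symm)⟩⟩
  · right
    obtain ⟨f'⟩ := PSub.subH_equiv_psl (F₀ := L) (PSub.isSquare_descend hodd hL.symm h2)
    exact ⟨Shrink.{0} L, inferInstance, inferInstance, l, hl, hodd, by rw [hcard, hL],
      ⟨(f.trans f').trans (Cfsg.Agent.Lib.Helper6.pslEquiv e.symm)⟩⟩

/-- a maximal subgroup contained in a subfield subgroup -/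
theorem sub_case_of_le (h2 : (2 : F) ≠ 0)
    {M : Subgroup (ProjectiveSpecialLinearGroup (Fin 2) F)} (hM : IsCoatom M)
    {K : Subfield F} (hK : K ≠ ⊤) (D : GL (Fin 2) F) (hle : M ≤ subM K D) : GoalS F M := by
  obtain ⟨L, l, hl, hKL, hL⟩ := exists_prime_subfield K hK
  rw [Nat.card_eq_fintype_card (α := F)] at hL
  have h1 : M ≤ subM L D := by
    intro x hx
    exact range_map_mono hKL (hle hx)
  have h3 : M = subM L D := by
    by_contra hne
    exact subM_ne_top hl.two_le hL D (hM.2 _ (lt_of_le_of_ne h1 hne))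
  rw [h3]
  exact sub_case h2 D hl hL

end Cfsg.Agent.Lib.Helper7.PMax
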