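import Mathlib
import Cfsg.Agent.Lib.Helper7.PSL2Sol

set_option autoImplicit false
set_option linter.unusedSimpArgs false
set_option linter.unusedSectionVars false
set_option linter.unusedVariables false

/-! Solubilizers in `PSL₂(q)`, `q` even: the criteria. -/

namespace Cfsg.Agent.Lib.Helper7.PMax

open Matrix MatrixGroups Subgroup Cfsg.Agent.Lib.Helper46 Cfsg.Agent.Lib.Helper18.SL2
open Cfsg.Agent.Lib.Helper7

variable {F : Type*} [Field F] [Fintype F]

theorem conj_10_of_10 {g y : SpecialLinearGroup (Fin 2) F} (hg : g.1 1 0 = 0)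
    (h : (g * y * g⁻¹).1 1 0 = 0) : y.1 1 0 = 0 := by
  have hd := bor_det hg
  simp only [mul_00, mul_01, mul_10, mul_11, inv_00, inv_01, inv_10, inv_11, hg] at h
  have h3 : g.1 1 1 ≠ 0 := right_ne_zero_of_mul (by rw [hd]; exact one_ne_zero)
  have : g.1 1 1 * g.1 1 1 * y.1 1 0 = 0 := by linear_combination h
  exact (mul_eq_zero.1 this).resolve_left (mul_ne_zero h3 h3)

theorem conj_10_of_11 {g y : SpecialLinearGroup (Fin 2) F} (hg : g.1 1 1 = 0)
    (h : (g * y * g⁻¹).1 1 0 = 0) : y.1 0 1 = 0 := by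
  have hd := det2 g
  rw [hg] at hd
  simp only [mul_00, mul_01, mul_10, mul_11, inv_00, inv_01, inv_10, inv_11, hg] at h
  have h3 : g.1 1 0 ≠ 0 := by
    intro h0
    rw [h0] at hd
    simp at hd
  have : g.1 1 0 * g.1 1 0 * y.1 0 1 = 0 := by linear_combination -h
  exact (mul_eq_zero.1 this).resolve_left (mul_ne_zero h3 h3)

theorem conj_uu_10 {g : SpecialLinearGroup (Fin 2) F} {a : F} (ha : a ≠ 0)
    (h : (g * uu a * g⁻¹).1 1 0 = 0) : g.1 1 0 = 0 := by
  simp only [mul_00, mul_01, mul_10, mul_11, inv_00, inv_01, inv_10, inv_11, uu, mk2_00, mk2_01,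
    mk2_10, mk2_11] at h
  have : a * (g.1 1 0 * g.1 1 0) = 0 := by linear_combination -h
  have h2 := (mul_eq_zero.1 this).resolve_left ha
  exact mul_self_eq_zero.1 h2

theorem unit_sub_inv_ne {u : Fˣ} (hu : u ^ 2 ≠ 1) : (u : F) - ((u⁻¹ : Fˣ) : F) ≠ 0 := by
  intro h'
  apply hu
  have h1 : (u : F) * ((u⁻¹ : Fˣ) : F) = 1 := by simp
  apply Units.ext
  push_cast
  linear_combination (u : F) * h' + h1

theorem conj_dd_10 {g : SpecialLinearGroup (Fin 2) F} {u : Fˣ} (hu : u ^ 2 ≠ 1)
    (h : (g * dd u * g⁻¹).1 1 0 = 0) : g.1 1 0 = 0 ∨ g.1 1 1 = 0 := by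
  simp only [mul_00, mul_01, mul_10, mul_11, inv_00, inv_01, inv_10, inv_11, dd, mk2_00, mk2_01,
    mk2_10, mk2_11] at h
  have : ((u : F) - ((u⁻¹ : Fˣ) : F)) * (g.1 1 0 * g.1 1 1) = 0 := by linear_combination h
  exact mul_eq_zero.1 ((mul_eq_zero.1 this).resolve_left (unit_sub_inv_ne hu))

theorem sq_ne_four_of_ne_zero (h2 : (2 : F) = 0) {a : F} (ha : a ≠ 0) : a ^ 2 ≠ 4 := by
  intro h
  have : a ^ 2 = 0 := by linear_combination h + 2 * h2
  exact ha (pow_eq_zero_iff (two_ne_zero) |>.1 this)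

theorem ne_zero_of_sq_ne_four (h2 : (2 : F) = 0) {a : F} (ha : a ^ 2 ≠ 4) : a ≠ 0 := by
  rintro rfl
  apply ha
  linear_combination -2 * h2

theorem mul_self_of_tr_zero (h2 : (2 : F) = 0) {y : SpecialLinearGroup (Fin 2) F}
    (h : tr y = 0) : y * y = 1 := by
  rw [sq_of_tr_zero y h, Cfsg.Agent.Lib.Helper47.negOne_eq_one h2]

theorem uu_mul_self (h2 : (2 : F) = 0) (a : F) : uu a * uu a = 1 := by
  rw [Cfsg.Agent.Lib.Helper7.uu_mul, ← Cfsg.Agent.Lib.Helper7.uu_zero]
  congr 1
  linear_combination a * h2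

/-- the solubilizer of an involution -/
theorem sol_uu (h2 : (2 : F) = 0) {a : F} (ha : a ≠ 0) (y : SpecialLinearGroup (Fin 2) F) :
    Group.IsSolvable (gen2 (uu a) y) ↔ tr y = 0 ∨ y.1 1 0 = 0 ∨ tr (uu a * y) = 0 := by
  have hx2 := uu_mul_self h2 a
  have hxi : (uu a)⁻¹ = uu a := inv_eq_of_mul_eq_one_left hx2
  have c1 : y.1 1 0 = 0 → Group.IsSolvable (gen2 (uu a) y) := by
    intro h
    apply gen2_solvable_of_bor 1
    · simp [uu]
    · simpa using h
  have c2 : tr y = 0 → tr (uu a * y) ≠ 0 → Group.IsSolvable (gen2 (uu a) y) := by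
    intro h h'
    have hy2 := mul_self_of_tr_zero h2 h
    have hyi : y⁻¹ = y := inv_eq_of_mul_eq_one_left hy2
    have hs := sq_ne_four_of_ne_zero h2 h'
    apply gen2_solvable_of_tor hs
    · rw [mem_torN_iff hs]
      right
      rw [_root_.mul_inv_rev, hxi, hyi, ← mul_assoc, hx2, one_mul]
    · rw [mem_torN_iff hs]
      right
      rw [_root_.mul_inv_rev, hxi, hyi, mul_assoc, mul_assoc, hy2, mul_one]
  have c3 : tr (uu a * y) = 0 → tr y ≠ 0 → Group.IsSolvable (gen2 (uu a) y) := by
    intro h h'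
    have hy2 := mul_self_of_tr_zero h2 h
    have hs := sq_ne_four_of_ne_zero h2 h'
    apply gen2_solvable_of_tor hs _ (self_mem_torN y)
    rw [mem_torN_iff hs]
    right
    rw [hxi]
    apply eq_inv_of_mul_eq_one_left
    rw [← hy2]; group
  constructor
  · intro h
    rcases gen2_cases_two h2 h with ⟨g, hgx, hgy⟩ | ⟨t, hs, hx, hy⟩
    · right; left
      exact conj_10_of_10 (conj_uu_10 ha hgx) hgy
    · have hxt : uu a * t * (uu a)⁻¹ = t⁻¹ := by
        rcases (mem_torN_iff hs).1 hx with h1 | h1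
        · exact absurd (tr_sq_of_commute_uu ha h1.symm) hs
        · exact h1
      rcases (mem_torN_iff hs).1 hy with h1 | h1
      · right; right
        apply tr_eq_zero_of_inverts hs
        rw [← hxt, _root_.mul_inv_rev]
        have : y * t * y⁻¹ = t := by rw [h1.eq]; group
        calc uu a * y * t * (y⁻¹ * (uu a)⁻¹) = uu a * (y * t * y⁻¹) * (uu a)⁻¹ := by group
          _ = _ := by rw [this]
      · left
        exact tr_eq_zero_of_inverts hs h1
  · rintro (h | h | h)
    · by_cases h' : tr (uu a * y) = 0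
      · apply c1
        rw [tr_uu_mul, h, zero_add] at h'
        exact (mul_eq_zero.1 h').resolve_left ha
      · exact c2 h h'
    · exact c1 h
    · by_cases h' : tr y = 0
      · apply c1
        rw [tr_uu_mul, h', zero_add] at h
        exact (mul_eq_zero.1 h).resolve_left ha
      · exact c3 h h'

/-- the solubilizer of a split semisimple element -/
theorem sol_dd (h2 : (2 : F) = 0) {u : Fˣ} (hu : u ^ 2 ≠ 1) (y : SpecialLinearGroup (Fin 2) F) :
    Group.IsSolvable (gen2 (dd u) y) ↔
      y.1 1 0 = 0 ∨ y.1 0 1 = 0 ∨ (y.1 0 0 = 0 ∧ y.1 1 1 = 0) := by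
  have hs := tr_dd_sq_ne u hu
  have hne := unit_sub_inv_ne hu
  constructor
  · intro h
    rcases gen2_cases_two h2 h with ⟨g, hgx, hgy⟩ | ⟨t, ht, hx, hy⟩
    · rcases conj_dd_10 hu hgx with h1 | h1
      · left; exact conj_10_of_10 h1 hgy
      · right; left; exact conj_10_of_11 h1 hgy
    · have hxt : Commute (dd u) t := by
        rcases (mem_torN_iff ht).1 hx with h1 | h1
        · exact h1
        · exact absurd (tr_eq_zero_of_inverts ht h1) (ne_zero_of_sq_ne_four h2 hs)
      rw [torN_eq_of_commute ht hs hxt] at hy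
      rcases (mem_torN_iff hs).1 hy with h1 | h1
      · left; exact ((commute_dd_iff u hu y).1 h1.eq).2
      · right; right
        have h' : y * dd u = (dd u)⁻¹ * y := by
          have := congrArg (· * y) h1
          simpa using this
        have e00 := congrArg (fun Z : SpecialLinearGroup (Fin 2) F => Z.1 0 0) h'
        have e11 := congrArg (fun Z : SpecialLinearGroup (Fin 2) F => Z.1 1 1) h'
        simp only [mul_00, mul_01, mul_10, mul_11, inv_00, inv_01, inv_10, inv_11, dd, mk2_00,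
          mk2_01, mk2_10, mk2_11] at e00 e11
        constructor
        · have : ((u : F) - ((u⁻¹ : Fˣ) : F)) * y.1 0 0 = 0 := by linear_combination e00
          exact (mul_eq_zero.1 this).resolve_left hne
        · have : ((u : F) - ((u⁻¹ : Fˣ) : F)) * y.1 1 1 = 0 := by linear_combination -e11
          exact (mul_eq_zero.1 this).resolve_left hne
  · rintro (h | h | ⟨h, h'⟩)
    · apply gen2_solvable_of_bor 1
      · simp [dd]
      · simpa using h
    · apply gen2_solvable_of_bor ww
      · simp [mul_00, mul_01, mul_10, mul_11, inv_00, inv_01, inv_10, inv_11, dd, ww]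
      · simp [mul_00, mul_01, mul_10, mul_11, inv_00, inv_01, inv_10, inv_11, ww, h]
    · apply gen2_solvable_of_tor hs (self_mem_torN _)
      rw [mem_torN_iff hs]
      right
      have hd := det2 y
      rw [h, h'] at hd
      apply ext2 <;>
        simp only [mul_00, mul_01, mul_10, mul_11, inv_00, inv_01, inv_10, inv_11, dd, mk2_00,
          mk2_01, mk2_10, mk2_11, h, h']
      · linear_combination ((u⁻¹ : Fˣ) : F) * hd
      · ring
      · ring
      · linear_combination (u : F) * hd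

theorem tr_sq_ne_of_nonsplit {x : SpecialLinearGroup (Fin 2) F}
    (hroot : ∀ a : F, a ^ 2 - tr x * a + 1 ≠ 0) : tr x ^ 2 ≠ 4 := by
  intro h
  have h' : (tr x - 2) * (tr x + 2) = 0 := by linear_combination h
  rcases mul_eq_zero.1 h' with h1 | h1
  · exact hroot 1 (by linear_combination -h1)
  · exact hroot (-1) (by linear_combination h1)

theorem not_bor_of_nonsplit {x : SpecialLinearGroup (Fin 2) F}
    (hroot : ∀ a : F, a ^ 2 - tr x * a + 1 ≠ 0) (g : SpecialLinearGroup (Fin 2) F) :
    (g * x * g⁻¹).1 1 0 ≠ 0 := by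
  intro h
  have hd := bor_det h
  apply hroot ((g * x * g⁻¹).1 0 0)
  rw [← tr_conj g x, tr]
  linear_combination -hd

/-- the solubilizer of a nonsplit semisimple element -/
theorem sol_nonsplit (h2 : (2 : F) = 0) {x : SpecialLinearGroup (Fin 2) F}
    (hroot : ∀ a : F, a ^ 2 - tr x * a + 1 ≠ 0) (y : SpecialLinearGroup (Fin 2) F) :
    Group.IsSolvable (gen2 x y) ↔ y ∈ torN x := by
  have hs := tr_sq_ne_of_nonsplit hroot
  constructor
  · intro h
    rcases gen2_cases_two h2 h with ⟨g, hgx, hgy⟩ | ⟨t, ht, hx, hy⟩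
    · exact absurd hgx (not_bor_of_nonsplit hroot g)
    · have hxt : Commute x t := by
        rcases (mem_torN_iff ht).1 hx with h1 | h1
        · exact h1
        · exact absurd (tr_eq_zero_of_inverts ht h1) (ne_zero_of_sq_ne_four h2 hs)
      rw [torN_eq_of_commute ht hs hxt] at hy
      exact hy
  · intro h
    exact gen2_solvable_of_tor hs (self_mem_torN x) h

end Cfsg.Agent.Lib.Helper7.PMax
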