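import Mathlib
import Cfsg.Agent.Lib.Helper7.PSL2Sol2

set_option autoImplicit false
set_option linter.unusedSimpArgs false
set_option linter.unusedSectionVars false
set_option linter.unusedVariables false

/-! Solubilizers in `PSL₂(q)`: counting. -/

namespace Cfsg.Agent.Lib.Helper7.PMax

open Matrix MatrixGroups Subgroup Cfsg.Agent.Lib.Helper46 Cfsg.Agent.Lib.Helper18.SL2
open Cfsg.Agent.Lib.Helper7

variable {F : Type*} [Field F] [Fintype F]

theorem ncard_c0 : {y : SpecialLinearGroup (Fin 2) F | y.1 1 0 = 0}.ncard =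
    Fintype.card F * (Fintype.card F - 1) := by
  rw [← Nat.card_coe_set_eq]
  exact card_BorS

theorem ncard_b0 : {y : SpecialLinearGroup (Fin 2) F | y.1 0 1 = 0}.ncard =
    Fintype.card F * (Fintype.card F - 1) := by
  rw [← ncard_c0, ← Nat.card_coe_set_eq, ← Nat.card_coe_set_eq]
  apply Nat.card_congr
  refine Equiv.subtypeEquiv (MulAut.conj ww).toEquiv (fun y => ?_)
  simp [mul_00, mul_01, mul_10, mul_11, inv_00, inv_01, inv_10, inv_11, ww]

theorem ncard_diag : {y : SpecialLinearGroup (Fin 2) F | y.1 1 0 = 0 ∧ y.1 0 1 = 0}.ncard =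
    Fintype.card F - 1 := by
  have : {y : SpecialLinearGroup (Fin 2) F | y.1 1 0 = 0 ∧ y.1 0 1 = 0} = Set.range dd := by
    ext y
    constructor
    · rintro ⟨h1, h2⟩
      have hd := bor_det h1
      have h0 : y.1 0 0 ≠ 0 := left_ne_zero_of_mul (by rw [hd]; exact one_ne_zero)
      refine ⟨Units.mk0 _ h0, ?_⟩
      apply ext2 <;> simp [dd, h1, h2]
      exact (eq_inv_of_mul_eq_one_right hd).symm
    · rintro ⟨u, rfl⟩
      simp [dd]
  rw [this, ← Nat.card_coe_set_eq, Nat.card_range_of_injective dd_injective, Nat.card_units,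
    Nat.card_eq_fintype_card]

theorem ncard_anti : {y : SpecialLinearGroup (Fin 2) F | y.1 0 0 = 0 ∧ y.1 1 1 = 0}.ncard =
    Fintype.card F - 1 := by
  rw [← ncard_diag, ← Nat.card_coe_set_eq, ← Nat.card_coe_set_eq]
  apply Nat.card_congr
  refine Equiv.subtypeEquiv (Equiv.mulLeft ww) (fun y => ?_)
  simp [mul_00, mul_01, mul_10, mul_11, ww]

theorem ncard_unip (h2 : (2 : F) = 0) :
    {y : SpecialLinearGroup (Fin 2) F | y.1 1 0 = 0 ∧ tr y = 0}.ncard = Fintype.card F := by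
  have : {y : SpecialLinearGroup (Fin 2) F | y.1 1 0 = 0 ∧ tr y = 0} = Set.range uu := by
    ext y
    constructor
    · rintro ⟨h1, h3⟩
      exact ⟨_, (eq_uu_of_tr (by rw [h3, h2]) h1).symm⟩
    · rintro ⟨u, rfl⟩
      refine ⟨by simp [uu], ?_⟩
      rw [Cfsg.Agent.Lib.Helper7.tr_uu, h2]
  rw [this, ← Nat.card_coe_set_eq, Nat.card_range_of_injective Cfsg.Agent.Lib.Helper7.uu_injective,
    Nat.card_eq_fintype_card]

theorem ncard_tr0 (h2 : (2 : F) = 0) :
    {y : SpecialLinearGroup (Fin 2) F | tr y = 0}.ncard = Fintype.card F * Fintype.card F := by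
  have hc : CharP F 2 := by
    apply CharTwo.of_one_ne_zero_of_two_eq_zero one_ne_zero h2
  have hneg : ∀ a : F, -a = a := fun a => by linear_combination -a * h2
  rw [← Nat.card_coe_set_eq, ← Nat.card_eq_fintype_card, ← Nat.card_prod]
  apply Nat.card_congr
  refine Equiv.ofBijective (fun y => (y.1.1 0 1, y.1.1 1 0)) ⟨?_, ?_⟩
  · rintro ⟨y, hy⟩ ⟨z, hz⟩ h
    simp only [Prod.mk.injEq] at h
    obtain ⟨h01, h10⟩ := h
    have hy' : y.1 1 1 = y.1 0 0 := by
      have : y.1 0 0 + y.1 1 1 = 0 := hy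
      linear_combination this - y.1 0 0 * h2
    have hz' : z.1 1 1 = z.1 0 0 := by
      have : z.1 0 0 + z.1 1 1 = 0 := hz
      linear_combination this - z.1 0 0 * h2
    have dy := det2 y
    have dz := det2 z
    rw [hy'] at dy
    rw [hz', ← h01, ← h10] at dz
    have h00 : (y.1 0 0 - z.1 0 0) ^ 2 = 0 := by
      linear_combination dy - dz + (z.1 0 0 ^ 2 - y.1 0 0 * z.1 0 0) * h2
    have h00' : y.1 0 0 = z.1 0 0 := sub_eq_zero.1 (pow_eq_zero_iff (two_ne_zero) |>.1 h00)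
    apply Subtype.ext
    apply ext2
    · exact h00'
    · exact h01
    · exact h10
    · rw [hy', hz', h00']
  · rintro ⟨b, c⟩
    obtain ⟨a, ha⟩ := FiniteField.isSquare_of_char_two (CharP.ringChar_of_prime_eq_zero Nat.prime_two
      (by exact_mod_cast h2)) (1 + b * c)
    refine ⟨⟨mk2 a b c a (by linear_combination -ha), ?_⟩, ?_⟩
    · show tr _ = 0
      simp only [tr, mk2_00, mk2_11]
      linear_combination a * h2
    · simp

theorem ncard_tr0' (h2 : (2 : F) = 0) (x : SpecialLinearGroup (Fin 2) F) :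
    {y : SpecialLinearGroup (Fin 2) F | tr (x * y) = 0}.ncard =
      Fintype.card F * Fintype.card F := by
  rw [← ncard_tr0 h2, ← Nat.card_coe_set_eq, ← Nat.card_coe_set_eq]
  apply Nat.card_congr
  exact Equiv.subtypeEquiv (Equiv.mulLeft x) (fun y => Iff.rfl)

theorem count_uu (h2 : (2 : F) = 0) {a : F} (ha : a ≠ 0) :
    {y : SpecialLinearGroup (Fin 2) F | tr y = 0 ∨ y.1 1 0 = 0 ∨ tr (uu a * y) = 0}.ncard =
      3 * Fintype.card F * (Fintype.card F - 1) := by
  set A := {y : SpecialLinearGroup (Fin 2) F | tr y = 0} with hA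
  set B := {y : SpecialLinearGroup (Fin 2) F | y.1 1 0 = 0} with hB
  set C := {y : SpecialLinearGroup (Fin 2) F | tr (uu a * y) = 0} with hC
  set U := {y : SpecialLinearGroup (Fin 2) F | y.1 1 0 = 0 ∧ tr y = 0} with hU
  have e0 : {y : SpecialLinearGroup (Fin 2) F | tr y = 0 ∨ y.1 1 0 = 0 ∨ tr (uu a * y) = 0} =
      (A ∪ B) ∪ C := by
    ext y
    simp only [hA, hB, hC, Set.mem_union, Set.mem_setOf_eq, or_assoc]
  have e1 : A ∩ B = U := by
    ext y
    simp only [hA, hB, hU, Set.mem_inter_iff, Set.mem_setOf_eq, and_comm]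
  have e2 : (A ∪ B) ∩ C = U := by
    ext y
    simp only [hA, hB, hC, hU, Set.mem_inter_iff, Set.mem_union, Set.mem_setOf_eq, tr_uu_mul]
    constructor
    · rintro ⟨h | h, h'⟩
      · rw [h, zero_add] at h'
        exact ⟨(mul_eq_zero.1 h').resolve_left ha, h⟩
      · rw [h, mul_zero, add_zero] at h'
        exact ⟨h, h'⟩
    · rintro ⟨h, h'⟩
      exact ⟨Or.inl h', by rw [h, h']; ring⟩
  have f1 := Set.ncard_union_add_ncard_inter A B
  have f2 := Set.ncard_union_add_ncard_inter (A ∪ B) C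
  rw [e1, hA, hB, hU, ncard_tr0 h2, ncard_c0, ncard_unip h2, ← hA, ← hB] at f1
  rw [e2, hC, hU, ncard_tr0' h2, ncard_unip h2, ← hC] at f2
  rw [e0]
  have hq : 0 < Fintype.card F := Fintype.card_pos
  obtain ⟨k, hk⟩ : ∃ k, Fintype.card F = k + 1 := ⟨Fintype.card F - 1, by omega⟩
  rw [hk] at f1 f2 ⊢
  simp only [Nat.add_sub_cancel] at f1 f2 ⊢
  nlinarith

theorem count_dd :
    {y : SpecialLinearGroup (Fin 2) F |
      y.1 1 0 = 0 ∨ y.1 0 1 = 0 ∨ (y.1 0 0 = 0 ∧ y.1 1 1 = 0)}.ncard =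
      2 * Fintype.card F * (Fintype.card F - 1) := by
  set A := {y : SpecialLinearGroup (Fin 2) F | y.1 1 0 = 0} with hA
  set B := {y : SpecialLinearGroup (Fin 2) F | y.1 0 1 = 0} with hB
  set C := {y : SpecialLinearGroup (Fin 2) F | y.1 0 0 = 0 ∧ y.1 1 1 = 0} with hC
  set U := {y : SpecialLinearGroup (Fin 2) F | y.1 1 0 = 0 ∧ y.1 0 1 = 0} with hU
  have e0 : {y : SpecialLinearGroup (Fin 2) F |
      y.1 1 0 = 0 ∨ y.1 0 1 = 0 ∨ (y.1 0 0 = 0 ∧ y.1 1 1 = 0)} = (A ∪ B) ∪ C := by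
    ext y
    simp only [hA, hB, hC, Set.mem_union, Set.mem_setOf_eq, or_assoc]
  have e1 : A ∩ B = U := by
    ext y
    simp only [hA, hB, hU, Set.mem_inter_iff, Set.mem_setOf_eq]
  have e2 : (A ∪ B) ∩ C = ∅ := by
    ext y
    simp only [hA, hB, hC, Set.mem_inter_iff, Set.mem_union, Set.mem_setOf_eq,
      Set.mem_empty_iff_false, iff_false]
    rintro ⟨h, h', h''⟩
    have hd := det2 y
    rw [h', h''] at hd
    rcases h with h | h <;> rw [h] at hd <;> simp at hd
  have f1 := Set.ncard_union_add_ncard_inter A B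
  have f2 := Set.ncard_union_add_ncard_inter (A ∪ B) C
  rw [e1, hA, hB, hU, ncard_b0, ncard_c0, ncard_diag, ← hA, ← hB] at f1
  rw [e2, hC, ncard_anti, ← hC, Set.ncard_empty] at f2
  rw [e0]
  have hq : 0 < Fintype.card F := Fintype.card_pos
  obtain ⟨k, hk⟩ : ∃ k, Fintype.card F = k + 1 := ⟨Fintype.card F - 1, by omega⟩
  rw [hk] at f1 f2 ⊢
  simp only [Nat.add_sub_cancel] at f1 f2 ⊢
  nlinarith

end Cfsg.Agent.Lib.Helper7.PMax
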