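import Mathlib
import Cfsg.Agent.Lib.Helper7.PSL2SolCount
import Cfsg.Agent.Lib.Helper7.PSL2SubM
import Cfsg.Agent.Lib.Helper7.SL2Gen
import Cfsg.Agent.S3378

set_option autoImplicit false
set_option linter.unusedSimpArgs false
set_option linter.unusedSectionVars false
set_option linter.unusedVariables false

/-! Solvable subgroups of `PSL₂(q)`, `q` an odd power of three. -/

namespace Cfsg.Agent.Lib.Helper7.PMax

open Matrix MatrixGroups Subgroup Cfsg.Agent.Lib.Helper46 Cfsg.Agent.Lib.Helper18.SL2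
open Cfsg.Agent.Lib.Helper7

variable {F : Type*} [Field F] [Fintype F]

/-- traces in the solvable subgroups which are neither triangular nor toral -/
theorem solvable_tr_cube (h3 : (3 : F) = 0) (hns : ¬ IsSquare (-1 : F))
    {M : Subgroup (ProjectiveSpecialLinearGroup (Fin 2) F)} (hs : Group.IsSolvable M) :
    BorType (pre M) ∨ Tor (pre M) ∨ ∀ g ∈ pre M, tr g ^ 3 = tr g := by
  have hZ := center_le_pre M
  have c0 : ∀ g : SpecialLinearGroup (Fin 2) F, tr g = 0 → tr g ^ 3 = tr g := by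
    intro g h; rw [h]; ring
  have c1 : ∀ g : SpecialLinearGroup (Fin 2) F, tr g ^ 2 = 1 → tr g ^ 3 = tr g := by
    intro g h; linear_combination tr g * h
  have c4 : ∀ g : SpecialLinearGroup (Fin 2) F, tr g ^ 2 = 4 → tr g ^ 3 = tr g := by
    intro g h; linear_combination tr g * h + tr g * h3
  have c2 : ∀ g : SpecialLinearGroup (Fin 2) F, tr g ^ 2 = 2 → tr g ^ 3 = tr g := by
    intro g h
    exact absurd ⟨tr g, by linear_combination -h - h3⟩ hns
  have c5 : ∀ g : SpecialLinearGroup (Fin 2) F, tr g ^ 4 - 3 * tr g ^ 2 + 1 = 0 →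
      tr g ^ 3 = tr g := by
    intro g h
    exact absurd ⟨tr g ^ 2, by linear_combination -h - tr g ^ 2 * h3⟩ hns
  rcases solvable_cases hs with h | h | ⟨hE, -⟩ | ⟨K, D, hIn, hK⟩
  · left; exact h
  · right; left; exact h
  · right; right
    intro g hg
    by_cases hgc : g ∈ center (SpecialLinearGroup (Fin 2) F)
    · exact c4 g (tr_sq_of_mem_center g hgc)
    obtain ⟨t2, t3, t4, t5⟩ := CD_tr hZ hg hgc (ε := 2)
    obtain ⟨-, t3', -, -⟩ := CD_tr hZ hg hgc (ε := 1)
    rcases hE with ⟨-, h⟩ | ⟨-, h⟩ | ⟨-, h⟩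
    · rcases h g hg hgc with h | h
      · exact c0 g (t2 h)
      · exact c1 g (t3' h)
    · rcases h g hg hgc with h | h | h
      · exact c0 g (t2 h)
      · exact c1 g (t3 h)
      · rcases t4 h with h | h
        · exact c0 g h
        · exact c2 g h
    · rcases h g hg hgc with h | h | h
      · exact c0 g (t2 h)
      · exact c1 g (t3 h)
      · exact c5 g (t5 h)
  · right; right
    intro g hg
    have h1 := InSub.tr_sq_mem hIn hg
    have := Fintype.ofFinite K
    have h2 : (⟨tr g ^ 2, h1⟩ : K) ^ 3 = ⟨tr g ^ 2, h1⟩ := by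
      have := FiniteField.pow_card (⟨tr g ^ 2, h1⟩ : K)
      rwa [← Nat.card_eq_fintype_card, hK] at this
    have h4 : (tr g ^ 2) ^ 3 = tr g ^ 2 := congrArg Subtype.val h2
    have h5 : tr g ^ 2 * ((tr g ^ 2 - 1) * (tr g ^ 2 + 1)) = 0 := by linear_combination h4
    rcases mul_eq_zero.1 h5 with h6 | h6
    · exact c0 g (pow_eq_zero_iff (two_ne_zero) |>.1 h6)
    · rcases mul_eq_zero.1 h6 with h7 | h7
      · exact c1 g (by linear_combination h7)
      · exact absurd ⟨tr g, by linear_combination -h7⟩ hns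

theorem subM_solvable {K : Subfield F} (hK : Nat.card K = 3) (D : GL (Fin 2) F) :
    Group.IsSolvable (subM K D) := by
  have hz := zc_pos F
  have hle : Nat.card (subM K D) ≤ 24 := by
    rcases (InSub_subM K D).equiv (subM K D) (fun g => Iff.rfl) with ⟨⟨f⟩⟩ | ⟨⟨f⟩⟩
    · have h1 := card_of_equiv_psl f
      rw [hK] at h1
      have : Nat.card (subM K D) ≤ zc F * Nat.card (subM K D) := Nat.le_mul_of_pos_left _ hz
      omega
    · have h1 := card_of_equiv_pgl f
      rw [hK] at h1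
      omega
  exact Cfsg.Agent.S3378.solvable_of_lt _ (subM K D) rfl (by omega)

/-- the diagonal matrix `diag(1, a)` -/
def dg (a : F) (ha : a ≠ 0) : GL (Fin 2) F :=
  ⟨!![1, 0; 0, a], !![1, 0; 0, a⁻¹], by
    ext i j; fin_cases i <;> fin_cases j <;> simp [Matrix.mul_apply, Fin.sum_univ_two, ha], by
    ext i j; fin_cases i <;> fin_cases j <;> simp [Matrix.mul_apply, Fin.sum_univ_two, ha]⟩

theorem dg_conj (a : F) (ha : a ≠ 0) (g : SpecialLinearGroup (Fin 2) F) :
    ((dg a ha * SpecialLinearGroup.toGL g * (dg a ha)⁻¹ : GL (Fin 2) F) :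
      Matrix (Fin 2) (Fin 2) F) = !![g.1 0 0, g.1 0 1 * a⁻¹; a * g.1 1 0, g.1 1 1] := by
  show !![1, 0; 0, a] * g.1 * !![1, 0; 0, a⁻¹] = _
  ext i j
  fin_cases i <;> fin_cases j <;>
    simp [Matrix.mul_apply, Fin.sum_univ_two, ha, Matrix.vecMul, dotProduct]
  field_simp

theorem mem_of_cube (K : Subfield F) {t : F} (h : t ^ 3 = t) : t ∈ K := by
  have h5 : t * ((t - 1) * (t + 1)) = 0 := by linear_combination h
  rcases mul_eq_zero.1 h5 with h6 | h6
  · rw [h6]; exact K.zero_mem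
  · rcases mul_eq_zero.1 h6 with h7 | h7
    · rw [sub_eq_zero.1 h7]; exact K.one_mem
    · rw [eq_neg_of_add_eq_zero_left h7]; exact K.neg_mem K.one_mem

theorem gen2_conj (g x y : SpecialLinearGroup (Fin 2) F) :
    Group.IsSolvable (gen2 (g * x * g⁻¹) (g * y * g⁻¹)) ↔ Group.IsSolvable (gen2 x y) :=
  solvable_pair_conj (QuotientGroup.mk g : ProjectiveSpecialLinearGroup (Fin 2) F)
    (QuotientGroup.mk x) (QuotientGroup.mk y)

theorem gen2_comm (x y : SpecialLinearGroup (Fin 2) F) : gen2 x y = gen2 y x := by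
  rw [gen2, gen2, Set.pair_comm]

theorem mk_negOne_mul (x : SpecialLinearGroup (Fin 2) F) :
    (QuotientGroup.mk (negOne * x) : ProjectiveSpecialLinearGroup (Fin 2) F) =
      QuotientGroup.mk x := by
  rw [QuotientGroup.mk_mul, (QuotientGroup.eq_one_iff negOne).2 negOne_mem_center, one_mul]

theorem gen2_neg_left (x y : SpecialLinearGroup (Fin 2) F) : gen2 (negOne * x) y = gen2 x y := by
  rw [gen2, gen2, mk_negOne_mul]

theorem gen2_neg_right (x y : SpecialLinearGroup (Fin 2) F) : gen2 x (negOne * y) = gen2 x y := by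
  rw [gen2, gen2, mk_negOne_mul]

/-- the groups of type `A₄` containing a transvection -/
theorem gen2_uu_solvable (h3 : (3 : F) = 0) {a : F} {y : SpecialLinearGroup (Fin 2) F}
    (hc : (a * y.1 1 0) ^ 2 = 1) (ht : tr y ^ 3 = tr y) : Group.IsSolvable (gen2 (uu a) y) := by
  haveI : Fact (Nat.Prime 3) := ⟨Nat.prime_three⟩
  haveI : CharP F 3 := (CharP.charP_iff_prime_eq_zero Nat.prime_three).2 (by exact_mod_cast h3)
  have ha : a ≠ 0 := by
    rintro rfl
    simp at hc
  have hc0 : y.1 1 0 ≠ 0 := by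
    intro h
    rw [h] at hc
    simp at hc
  set s : F := - y.1 0 0 / y.1 1 0 with hs
  set y' := uu s * y * (uu s)⁻¹ with hy'
  have hy00 : y'.1 0 0 = 0 := by
    simp only [hy', mul_00, mul_01, mul_10, mul_11, inv_00, inv_01, inv_10, inv_11, uu, mk2_00,
      mk2_01, mk2_10, mk2_11]
    rw [hs]; field_simp; ring
  have hy10 : y'.1 1 0 = y.1 1 0 := by
    simp only [hy', mul_00, mul_01, mul_10, mul_11, inv_00, inv_01, inv_10, inv_11, uu, mk2_00,
      mk2_01, mk2_10, mk2_11]
    ring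
  have hy11 : y'.1 1 1 = tr y := by
    have := tr_conj (uu s) y
    rw [← hy', tr, hy00, zero_add] at this
    exact this
  have hdet := det2 y'
  rw [hy00, hy10] at hdet
  have hx : uu s * uu a * (uu s)⁻¹ = uu a := by
    rw [Cfsg.Agent.Lib.Helper7.uu_mul, add_comm, ← Cfsg.Agent.Lib.Helper7.uu_mul]; group
  rw [← gen2_conj (uu s), hx, ← hy']
  have hsol := subM_solvable (Subfield.card_bot F 3) (dg a ha)
  refine solvable_of_le (gen2_le_img (A := pre (subM ⊥ (dg a ha))) ?_ ?_) (by rw [img_pre]; exact hsol)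
  · rw [mem_pre_subM, Phi_apply, PSub.mk_mem_range_iff]
    refine ⟨1, one_ne_zero, fun i j => ?_⟩
    rw [dg_conj, mul_one]
    fin_cases i <;> fin_cases j <;> simp [uu, ha, Subfield.one_mem, Subfield.zero_mem]
  · rw [mem_pre_subM, Phi_apply, PSub.mk_mem_range_iff]
    refine ⟨1, one_ne_zero, fun i j => ?_⟩
    rw [dg_conj, mul_one, hy00, hy10, hy11]
    have he : a * y.1 1 0 ∈ (⊥ : Subfield F) :=
      mem_of_cube _ (by linear_combination (a * y.1 1 0) * hc)
    have he' : y'.1 0 1 * a⁻¹ = -(a * y.1 1 0) := by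
      have h1 : y'.1 0 1 * a⁻¹ * (a * y.1 1 0) ^ 2 = -(a * y.1 1 0) := by
        have h2 : y'.1 0 1 * a⁻¹ * (a * y.1 1 0) ^ 2 =
            (y'.1 0 1 * y.1 1 0) * (a * y.1 1 0) * (a * a⁻¹) := by ring
        rw [h2, mul_inv_cancel₀ ha]
        linear_combination (-(a * y.1 1 0)) * hdet
      rwa [hc, mul_one] at h1
    fin_cases i <;> fin_cases j
    · exact Subfield.zero_mem _
    · show y'.1 0 1 * a⁻¹ ∈ _
      rw [he']; exact Subfield.neg_mem _ he
    · exact he
    · exact mem_of_cube _ ht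

end Cfsg.Agent.Lib.Helper7.PMax
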