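import Mathlib
import Cfsg.Agent.Lib.Helper7.PSL2Sol3

set_option autoImplicit false
set_option linter.unusedSimpArgs false
set_option linter.unusedSectionVars false
set_option linter.unusedVariables false

/-! Solubilizers in `PSL₂(q)`, `q` an odd power of three: the criteria. -/

namespace Cfsg.Agent.Lib.Helper7.PMax

open Matrix MatrixGroups Subgroup Cfsg.Agent.Lib.Helper46 Cfsg.Agent.Lib.Helper18.SL2
open Cfsg.Agent.Lib.Helper7

variable {F : Type*} [Field F] [Fintype F]

theorem aniso (hns : ¬ IsSquare (-1 : F)) {u v : F} (h : u ^ 2 + v ^ 2 = 0) : u = 0 ∧ v = 0 := by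
  have hv : v = 0 := by
    by_contra hv
    apply hns
    refine ⟨u / v, ?_⟩
    field_simp
    linear_combination -h
  refine ⟨?_, hv⟩
  rw [hv] at h
  have : u ^ 2 = 0 := by linear_combination h
  exact pow_eq_zero_iff (two_ne_zero) |>.1 this

theorem cube_cases {t : F} (h : t ^ 3 = t) : t = 0 ∨ t ^ 2 = 1 := by
  have h5 : t * (t ^ 2 - 1) = 0 := by linear_combination h
  rcases mul_eq_zero.1 h5 with h6 | h6
  · left; exact h6
  · right; linear_combination h6

theorem two_ne_zero_of_three (h3 : (3 : F) = 0) : (2 : F) ≠ 0 := by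
  intro h2
  have : (1 : F) = 0 := by linear_combination h3 - h2
  exact one_ne_zero this

/-- the solubilizer of an element of order three -/
theorem crit_uu (h3 : (3 : F) = 0) (hns : ¬ IsSquare (-1 : F)) {a : F} (ha : a ≠ 0)
    (y : SpecialLinearGroup (Fin 2) F) :
    Group.IsSolvable (gen2 (uu a) y) ↔
      y.1 1 0 = 0 ∨ ((a * y.1 1 0) ^ 2 = 1 ∧ tr y ^ 3 = tr y) := by
  constructor
  · intro h
    have hx := left_mem_pre (uu a) y
    have hy := right_mem_pre (uu a) y
    rcases solvable_tr_cube h3 hns h with ⟨g, hg⟩ | ⟨t, -, hs, hall⟩ | htr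
    · left
      exact conj_10_of_10 (conj_uu_10 ha (hg _ hx)) (hg _ hy)
    · exfalso
      rcases hall _ hx with h1 | h1
      · exact hs (tr_sq_of_commute_uu ha h1.symm)
      · have := tr_eq_zero_of_inverts hs h1
        rw [Cfsg.Agent.Lib.Helper7.tr_uu] at this
        exact two_ne_zero_of_three h3 this
    · have t1 := htr y hy
      have t2 := htr (uu a * y) ((pre _).mul_mem hx hy)
      rw [tr_uu_mul] at t2
      have t3 : (a * y.1 1 0) ^ 3 = a * y.1 1 0 := by
        linear_combination t2 - t1 - (tr y ^ 2 * (a * y.1 1 0) + tr y * (a * y.1 1 0) ^ 2) * h3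
      rcases cube_cases t3 with h4 | h4
      · left; exact (mul_eq_zero.1 h4).resolve_left ha
      · right; exact ⟨h4, t1⟩
  · rintro (h | ⟨h, h'⟩)
    · apply gen2_solvable_of_bor 1
      · simp [uu]
      · simpa using h
    · exact gen2_uu_solvable h3 h h'

theorem torN_of_torN {x y t : SpecialLinearGroup (Fin 2) F} (hs : tr x ^ 2 ≠ 4) (h0 : tr x ≠ 0)
    (ht : tr t ^ 2 ≠ 4) (hx : x ∈ torN t) (hy : y ∈ torN t) : y ∈ torN x := by
  have hxt : Commute x t := by
    rcases (mem_torN_iff ht).1 hx with h1 | h1
    · exact h1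
    · exact absurd (tr_eq_zero_of_inverts ht h1) h0
  rw [torN_eq_of_commute ht hs hxt] at hy
  exact hy

theorem not_cube (h3 : (3 : F) = 0) {x : SpecialLinearGroup (Fin 2) F} (hs : tr x ^ 2 ≠ 4)
    (h0 : tr x ≠ 0) : tr x ^ 3 ≠ tr x := by
  intro h
  rcases cube_cases h with h1 | h1
  · exact h0 h1
  · exact hs (by linear_combination h1 - h3)

/-- the solubilizer of a split semisimple element -/
theorem crit_dd (h3 : (3 : F) = 0) (hns : ¬ IsSquare (-1 : F)) {u : Fˣ} (hu : u ^ 2 ≠ 1)
    (h0 : tr (dd u) ≠ 0) (y : SpecialLinearGroup (Fin 2) F) :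
    Group.IsSolvable (gen2 (dd u) y) ↔
      y.1 1 0 = 0 ∨ y.1 0 1 = 0 ∨ (y.1 0 0 = 0 ∧ y.1 1 1 = 0) := by
  have hs := tr_dd_sq_ne u hu
  have hne := unit_sub_inv_ne hu
  constructor
  · intro h
    have hx := left_mem_pre (dd u) y
    have hy := right_mem_pre (dd u) y
    rcases solvable_tr_cube h3 hns h with ⟨g, hg⟩ | ⟨t, -, ht, hall⟩ | htr
    · rcases conj_dd_10 hu (hg _ hx) with h1 | h1
      · left; exact conj_10_of_10 h1 (hg _ hy)
      · right; left; exact conj_10_of_11 h1 (hg _ hy)
    · have hy' := torN_of_torN hs h0 ht ((mem_torN_iff ht).2 (hall _ hx))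
        ((mem_torN_iff ht).2 (hall _ hy))
      rcases (mem_torN_iff hs).1 hy' with h1 | h1
      · left; exact ((commute_dd_iff u hu y).1 h1.eq).2
      · right; right
        have h' : y * dd u = (dd u)⁻¹ * y := by
          have := congrArg (· * y) h1
          simpa using this
        have e00 := congrArg (fun Z : SpecialLinearGroup (Fin 2) F => Z.1 0 0) h'
        have e11 := congrArg (fun Z : SpecialLinearGroup (Fin 2) F => Z.1 1 1) h'
        simp only [mul_00, mul_01, mul_10, mul_11, inv_00, inv_01, inv_10, inv_11, dd, mk2_00,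
          mk2_01, mk2_10, mk2_11] at e00 e11
        constructor
        · have : ((u : F) - ((u⁻¹ : Fˣ) : F)) * y.1 0 0 = 0 := by linear_combination e00
          exact (mul_eq_zero.1 this).resolve_left hne
        · have : ((u : F) - ((u⁻¹ : Fˣ) : F)) * y.1 1 1 = 0 := by linear_combination -e11
          exact (mul_eq_zero.1 this).resolve_left hne
    · exact absurd (htr _ hx) (not_cube h3 hs h0)
  · rintro (h | h | ⟨h, h'⟩)
    · apply gen2_solvable_of_bor 1
      · simp [dd]
      · simpa using h
    · apply gen2_solvable_of_bor ww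
      · simp [mul_00, mul_01, mul_10, mul_11, inv_00, inv_01, inv_10, inv_11, dd, ww]
      · simp [mul_00, mul_01, mul_10, mul_11, inv_00, inv_01, inv_10, inv_11, ww, h]
    · apply gen2_solvable_of_tor hs (self_mem_torN _)
      rw [mem_torN_iff hs]
      right
      have hd := det2 y
      rw [h, h'] at hd
      apply ext2 <;>
        simp only [mul_00, mul_01, mul_10, mul_11, inv_00, inv_01, inv_10, inv_11, dd, mk2_00,
          mk2_01, mk2_10, mk2_11, h, h']
      · linear_combination ((u⁻¹ : Fˣ) : F) * hd
      · ring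
      · ring
      · linear_combination (u : F) * hd

/-- the solubilizer of a nonsplit semisimple element which is not an involution -/
theorem crit_nonsplit (h3 : (3 : F) = 0) (hns : ¬ IsSquare (-1 : F))
    {x : SpecialLinearGroup (Fin 2) F} (hroot : ∀ a : F, a ^ 2 - tr x * a + 1 ≠ 0)
    (h0 : tr x ≠ 0) (y : SpecialLinearGroup (Fin 2) F) :
    Group.IsSolvable (gen2 x y) ↔ y ∈ torN x := by
  have hs := tr_sq_ne_of_nonsplit hroot
  constructor
  · intro h
    have hx := left_mem_pre x y
    have hy := right_mem_pre x y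
    rcases solvable_tr_cube h3 hns h with ⟨g, hg⟩ | ⟨t, -, ht, hall⟩ | htr
    · exact absurd (hg _ hx) (not_bor_of_nonsplit hroot g)
    · exact torN_of_torN hs h0 ht ((mem_torN_iff ht).2 (hall _ hx))
        ((mem_torN_iff ht).2 (hall _ hy))
    · exact absurd (htr _ hx) (not_cube h3 hs h0)
  · intro h
    exact gen2_solvable_of_tor hs (self_mem_torN x) h

theorem tr_ww_mul (y : SpecialLinearGroup (Fin 2) F) : tr (ww * y) = y.1 1 0 - y.1 0 1 := by
  simp only [tr, mul_00, mul_11, ww, mk2_00, mk2_01, mk2_10, mk2_11]; ring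

theorem commute_ww_iff (h2 : (2 : F) ≠ 0) (y : SpecialLinearGroup (Fin 2) F) :
    Commute y ww ↔ y.1 0 0 = y.1 1 1 ∧ y.1 1 0 = -y.1 0 1 := by
  constructor
  · intro h
    have h' : y * ww = ww * y := h
    have e00 := congrArg (fun Z : SpecialLinearGroup (Fin 2) F => Z.1 0 0) h'
    have e01 := congrArg (fun Z : SpecialLinearGroup (Fin 2) F => Z.1 0 1) h'
    simp only [mul_00, mul_01, mul_10, mul_11, ww, mk2_00, mk2_01, mk2_10, mk2_11] at e00 e01
    exact ⟨by linear_combination e01, by linear_combination -e00⟩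
  · rintro ⟨h1, h4⟩
    show y * ww = ww * y
    apply ext2 <;>
      simp only [mul_00, mul_01, mul_10, mul_11, ww, mk2_00, mk2_01, mk2_10, mk2_11, h1, h4] <;>
      ring

theorem ww_nonsplit (hns : ¬ IsSquare (-1 : F)) :
    ∀ a : F, a ^ 2 - tr (ww : SpecialLinearGroup (Fin 2) F) * a + 1 ≠ 0 := by
  intro a h
  rw [Cfsg.Agent.Lib.Helper47.tr_ww] at h
  exact hns ⟨a, by linear_combination -h⟩

/-- the solubilizer of an involution -/
theorem crit_ww (h3 : (3 : F) = 0) (hns : ¬ IsSquare (-1 : F))
    (y : SpecialLinearGroup (Fin 2) F) :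
    Group.IsSolvable (gen2 ww y) ↔
      tr y = 0 ∨ tr (ww * y) = 0 ∨ Commute y ww ∨ (tr y ^ 2 = 1 ∧ tr (ww * y) ^ 2 = 1) := by
  have h2 := two_ne_zero_of_three h3
  have hroot := ww_nonsplit hns
  have hs := tr_sq_ne_of_nonsplit hroot
  have htw : tr (ww : SpecialLinearGroup (Fin 2) F) = 0 := Cfsg.Agent.Lib.Helper47.tr_ww
  have cC : Commute y ww → Group.IsSolvable (gen2 ww y) := fun h =>
    gen2_solvable_of_tor hs (self_mem_torN ww) ((mem_torN_iff hs).2 (Or.inl h))
  constructor
  · intro h
    have hx := left_mem_pre ww y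
    have hy := right_mem_pre ww y
    rcases solvable_tr_cube h3 hns h with ⟨g, hg⟩ | ⟨t, -, ht, hall⟩ | htr
    · exact absurd (hg _ hx) (not_bor_of_nonsplit hroot g)
    · rcases hall _ hx with h1 | h1
      · have hy' : y ∈ torN ww := by
          rw [← torN_eq_of_commute ht hs h1]
          exact (mem_torN_iff ht).2 (hall _ hy)
        rcases (mem_torN_iff hs).1 hy' with h4 | h4
        · right; right; left; exact h4
        · left; exact tr_eq_zero_of_inverts hs h4
      · rcases hall _ hy with h4 | h4
        · right; left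
          apply tr_eq_zero_of_inverts ht
          rw [← h1, _root_.mul_inv_rev]
          have : y * t * y⁻¹ = t := by rw [h4.eq]; group
          calc ww * y * t * (y⁻¹ * ww⁻¹) = ww * (y * t * y⁻¹) * ww⁻¹ := by group
            _ = _ := by rw [this]
        · left; exact tr_eq_zero_of_inverts ht h4
    · have t1 := htr y hy
      have t2 := htr (ww * y) ((pre _).mul_mem hx hy)
      rcases cube_cases t1 with h4 | h4
      · left; exact h4
      · rcases cube_cases t2 with h5 | h5
        · right; left; exact h5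
        · right; right; right; exact ⟨h4, h5⟩
  · have hd := det2 y
    rintro (h | h | h | ⟨h, h'⟩)
    · by_cases h4 : tr (ww * y) ^ 2 = 4
      · apply cC
        rw [commute_ww_iff h2]
        rw [tr_ww_mul] at h4
        rw [tr] at h
        have h5 : (y.1 1 0 + y.1 0 1) ^ 2 + (2 * y.1 0 0) ^ 2 = 0 := by
          linear_combination h4 - 4 * hd + 4 * y.1 0 0 * h
        obtain ⟨h6, h7⟩ := aniso hns h5
        have h8 : y.1 0 0 = 0 := (mul_eq_zero.1 h7).resolve_left h2
        exact ⟨by linear_combination 2 * h8 - h, by linear_combination h6⟩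
      · apply gen2_solvable_of_tor h4
        · rw [mem_torN_iff h4]
          right
          rw [tr] at h
          apply ext2 <;>
            simp only [mul_00, mul_01, mul_10, mul_11, inv_00, inv_01, inv_10, inv_11, ww, mk2_00,
              mk2_01, mk2_10, mk2_11]
          · ring
          · linear_combination h
          · linear_combination -h
          · ring
        · rw [mem_torN_iff h4]
          right
          have e : y * (ww * y) * y⁻¹ = y * ww := by group
          rw [e]
          rw [tr] at h
          apply ext2 <;>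
            simp only [mul_00, mul_01, mul_10, mul_11, inv_00, inv_01, inv_10, inv_11, ww, mk2_00,
              mk2_01, mk2_10, mk2_11]
          · ring
          · linear_combination h
          · linear_combination -h
          · ring
    · rw [tr_ww_mul] at h
      by_cases h4 : tr y ^ 2 = 4
      · apply cC
        rw [commute_ww_iff h2]
        rw [tr] at h4
        have h5 : (y.1 0 0 - y.1 1 1) ^ 2 + (2 * y.1 0 1) ^ 2 = 0 := by
          linear_combination h4 - 4 * hd - 4 * y.1 0 1 * h
        obtain ⟨h6, h7⟩ := aniso hns h5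
        have h8 : y.1 0 1 = 0 := (mul_eq_zero.1 h7).resolve_left h2
        exact ⟨by linear_combination h6, by linear_combination h + 2 * h8⟩
      · apply gen2_solvable_of_tor h4 _ (self_mem_torN y)
        rw [mem_torN_iff h4]
        right
        apply ext2 <;>
          simp only [mul_00, mul_01, mul_10, mul_11, inv_00, inv_01, inv_10, inv_11, ww, mk2_00,
            mk2_01, mk2_10, mk2_11]
        · ring
        · linear_combination -h
        · linear_combination h
        · ring
    · exact cC h
    · -- the case of type `A₄`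
      obtain ⟨y₁, hy₁, ht₁, hσ₁⟩ : ∃ y₁ : SpecialLinearGroup (Fin 2) F, gen2 ww y₁ = gen2 ww y ∧
          tr y₁ = 2 ∧ tr (ww * y₁) ^ 2 = 1 := by
        have h5 : (tr y - 2) * (tr y + 2) = 0 := by linear_combination h - h3
        rcases mul_eq_zero.1 h5 with h6 | h6
        · exact ⟨y, rfl, by linear_combination h6, h'⟩
        · refine ⟨negOne * y, gen2_neg_right _ _, ?_, ?_⟩
          · rw [tr_negOne_mul]; linear_combination -h6
          · have : ww * (negOne * y) = negOne * (ww * y) := by
              rw [← mul_assoc, ← mul_assoc, mem_center_iff.1 negOne_mem_center ww]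
            rw [this, tr_negOne_mul]
            linear_combination h'
      obtain ⟨g, a, hg⟩ := exists_conj_uu ht₁
      rw [← hy₁, ← gen2_conj g, hg, gen2_comm]
      apply gen2_uu_solvable h3
      · have e1 := tr_uu_mul a (g * ww * g⁻¹)
        rw [tr_conj, htw, zero_add] at e1
        rw [← e1, ← hg]
        have e2 : g * y₁ * g⁻¹ * (g * ww * g⁻¹) = g * (y₁ * ww) * g⁻¹ := by group
        rw [e2, tr_conj, tr_mul_comm]
        exact hσ₁
      · rw [tr_conj, htw]; ring

end Cfsg.Agent.Lib.Helper7.PMax
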