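import Mathlib
import Cfsg.Agent.Lib.Helper7.PSL2Sol4

set_option autoImplicit false
set_option linter.unusedSimpArgs false
set_option linter.unusedSectionVars false
set_option linter.unusedVariables false

/-! Quaternions of norm one as elements of `SL₂(F)`. -/

namespace Cfsg.Agent.Lib.Helper7.PMax

open Matrix MatrixGroups Subgroup Cfsg.Agent.Lib.Helper46 Cfsg.Agent.Lib.Helper18.SL2
open Cfsg.Agent.Lib.Helper7

variable {F : Type*} [Field F]

/-- the quaternion `α + β i + γ j + δ k`, where `i = ww` and `j = [[u, v], [v, -u]]` -/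
def qq (u v : F) (h : u ^ 2 + v ^ 2 = -1) (α β γ δ : F)
    (hn : α ^ 2 + β ^ 2 + γ ^ 2 + δ ^ 2 = 1) : SpecialLinearGroup (Fin 2) F :=
  mk2 (α + γ * u + δ * v) (β + γ * v - δ * u) (-β + γ * v - δ * u) (α - γ * u - δ * v)
    (by linear_combination hn - (γ ^ 2 + δ ^ 2) * h)

variable {u v : F} (h : u ^ 2 + v ^ 2 = -1)

theorem qq_congr {α β γ δ a b c d : F} (hn : α ^ 2 + β ^ 2 + γ ^ 2 + δ ^ 2 = 1)
    (hn' : a ^ 2 + b ^ 2 + c ^ 2 + d ^ 2 = 1) (e0 : α = a) (e1 : β = b) (e2 : γ = c) (e3 : δ = d) :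
    qq u v h α β γ δ hn = qq u v h a b c d hn' := by
  subst e0 e1 e2 e3
  rfl

theorem qq_mul_eq {α β γ δ α' β' γ' δ' a b c d : F} (hn : α ^ 2 + β ^ 2 + γ ^ 2 + δ ^ 2 = 1)
    (hn' : α' ^ 2 + β' ^ 2 + γ' ^ 2 + δ' ^ 2 = 1) (hn'' : a ^ 2 + b ^ 2 + c ^ 2 + d ^ 2 = 1)
    (e0 : a = α * α' - β * β' - γ * γ' - δ * δ') (e1 : b = α * β' + β * α' + γ * δ' - δ * γ')
    (e2 : c = α * γ' - β * δ' + γ * α' + δ * β') (e3 : d = α * δ' + β * γ' - γ * β' + δ * α') :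
    qq u v h α β γ δ hn * qq u v h α' β' γ' δ' hn' = qq u v h a b c d hn'' := by
  subst e0 e1 e2 e3
  apply ext2 <;> simp only [qq, mul_00, mul_01, mul_10, mul_11, mk2_00, mk2_01, mk2_10, mk2_11]
  · linear_combination (γ * γ' + δ * δ') * h
  · linear_combination (δ * γ' - γ * δ') * h
  · linear_combination (γ * δ' - δ * γ') * h
  · linear_combination (γ * γ' + δ * δ') * h

theorem tr_qq {α β γ δ : F} (hn : α ^ 2 + β ^ 2 + γ ^ 2 + δ ^ 2 = 1) :
    tr (qq u v h α β γ δ hn) = 2 * α := by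
  simp only [tr, qq, mk2_00, mk2_11]; ring

theorem qq_inv {α β γ δ : F} (hn : α ^ 2 + β ^ 2 + γ ^ 2 + δ ^ 2 = 1) :
    (qq u v h α β γ δ hn)⁻¹ = qq u v h α (-β) (-γ) (-δ) (by linear_combination hn) := by
  apply ext2 <;> simp only [qq, inv_00, inv_01, inv_10, inv_11, mk2_00, mk2_01, mk2_10, mk2_11] <;>
    ring

/-- the unit `i` -/
def qI : SpecialLinearGroup (Fin 2) F := qq u v h 0 1 0 0 (by ring)
/-- the unit `j` -/
def qJ : SpecialLinearGroup (Fin 2) F := qq u v h 0 0 1 0 (by ring)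
/-- the unit `k` -/
def qK : SpecialLinearGroup (Fin 2) F := qq u v h 0 0 0 1 (by ring)

theorem qI_eq : qI h = ww := by
  apply ext2 <;> simp [qI, qq, ww]

theorem qJ_eq : qJ h = mk2 u v v (-u) (by linear_combination -h) := by
  apply ext2 <;> simp [qJ, qq]

theorem qq_one : qq u v h 1 0 0 0 (by ring) = 1 := by
  apply ext2 <;> simp [qq]

theorem qq_negOne : qq u v h (-1) 0 0 0 (by ring) = negOne := by
  apply ext2 <;> simp [qq, negOne]

theorem qI_mul_qJ : qI h * qJ h = qK h := by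
  apply qq_mul_eq <;> ring

theorem negOne_mul_qq {α β γ δ : F} (hn : α ^ 2 + β ^ 2 + γ ^ 2 + δ ^ 2 = 1) :
    negOne * qq u v h α β γ δ hn = qq u v h (-α) (-β) (-γ) (-δ) (by linear_combination hn) := by
  rw [← qq_negOne h]
  apply qq_mul_eq <;> ring

section half

variable (h2 : (2 : F) ≠ 0)

/-- the Hurwitz unit `(1 + i + j + k) / 2` -/
def qX : SpecialLinearGroup (Fin 2) F :=
  qq u v h (1 / 2) (1 / 2) (1 / 2) (1 / 2) (by field_simp; norm_num)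

theorem qX_mul_qI : qX h h2 * qI h = qJ h * qX h h2 := by
  have hn : (-(1 / 2) : F) ^ 2 + (1 / 2) ^ 2 + (1 / 2) ^ 2 + (-(1 / 2)) ^ 2 = 1 := by
    field_simp; norm_num
  rw [qX, qI, qJ, qq_mul_eq h _ _ hn, qq_mul_eq h _ _ hn] <;> ring

theorem qX_mul_qJ : qX h h2 * qJ h = qK h * qX h h2 := by
  have hn : (-(1 / 2) : F) ^ 2 + (-(1 / 2)) ^ 2 + (1 / 2) ^ 2 + (1 / 2) ^ 2 = 1 := by
    field_simp; norm_num
  rw [qX, qK, qJ, qq_mul_eq h _ _ hn, qq_mul_eq h _ _ hn] <;> ring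

theorem tr_qX : tr (qX h h2) = 1 := by
  rw [qX, tr_qq]; field_simp

end half

section sqrt2

variable {s : F} (hs : s ^ 2 = 2) (h2 : (2 : F) ≠ 0)

include hs h2 in
theorem sqrt2_ne : s ≠ 0 := by
  rintro rfl
  apply h2
  rw [← hs]; ring

/-- `(1 + i) / √2` -/
def qG : SpecialLinearGroup (Fin 2) F :=
  qq u v h (1 / s) (1 / s) 0 0 (by
    have := sqrt2_ne hs h2
    field_simp
    linear_combination -hs)

theorem qG_mul_qI : qG h hs h2 * qI h = qI h * qG h hs h2 := by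
  have h0 := sqrt2_ne hs h2
  have hn : (-(1 / s) : F) ^ 2 + (1 / s) ^ 2 + 0 ^ 2 + 0 ^ 2 = 1 := by
    field_simp
    linear_combination -hs
  rw [qG, qI, qq_mul_eq h _ _ hn, qq_mul_eq h _ _ hn] <;> ring

theorem qG_mul_qJ : qG h hs h2 * qJ h = qK h * qG h hs h2 := by
  have h0 := sqrt2_ne hs h2
  have hn : (0 : F) ^ 2 + 0 ^ 2 + (1 / s) ^ 2 + (1 / s) ^ 2 = 1 := by
    field_simp
    linear_combination -hs
  rw [qG, qJ, qK, qq_mul_eq h _ _ hn, qq_mul_eq h _ _ hn] <;> ring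

theorem qG_mul_self : qG h hs h2 * qG h hs h2 = qI h := by
  have h0 := sqrt2_ne hs h2
  rw [qG, qI]
  apply qq_mul_eq
  · ring
  · field_simp
    linear_combination hs
  · ring
  · ring

/-- `(i - j) / √2` -/
def qT : SpecialLinearGroup (Fin 2) F :=
  qq u v h 0 (1 / s) (-(1 / s)) 0 (by
    have := sqrt2_ne hs h2
    field_simp
    linear_combination -hs)

theorem tr_qT : tr (qT h hs h2) = 0 := by
  rw [qT, tr_qq]; ring

theorem qT_mul_qI : qT h hs h2 * qI h = negOne * qJ h * qT h hs h2 := by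
  have h0 := sqrt2_ne hs h2
  have hn : (-(1 / s) : F) ^ 2 + 0 ^ 2 + 0 ^ 2 + (1 / s) ^ 2 = 1 := by
    field_simp
    linear_combination -hs
  rw [qT, qI, qJ, negOne_mul_qq, qq_mul_eq h _ _ hn, qq_mul_eq h _ _ hn] <;> ring

theorem qT_mul_qJ : qT h hs h2 * qJ h = negOne * qI h * qT h hs h2 := by
  have h0 := sqrt2_ne hs h2
  have hn : ((1 / s) : F) ^ 2 + 0 ^ 2 + 0 ^ 2 + (1 / s) ^ 2 = 1 := by
    field_simp
    linear_combination -hs
  rw [qT, qI, qJ, negOne_mul_qq, qq_mul_eq h _ _ hn, qq_mul_eq h _ _ hn] <;> ring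

theorem qT_mul_qX : qT h hs h2 * qX h h2 = (qX h h2)⁻¹ * qT h hs h2 := by
  have h0 := sqrt2_ne hs h2
  have hn : (0 : F) ^ 2 + 0 ^ 2 + (-(1 / s)) ^ 2 + (1 / s) ^ 2 = 1 := by
    field_simp
    linear_combination -hs
  rw [qT, qX, qq_inv, qq_mul_eq h _ _ hn, qq_mul_eq h _ _ hn] <;> field_simp <;> ring

end sqrt2

section golden

variable {φ : F} (hφ : φ ^ 2 = φ + 1) (h2 : (2 : F) ≠ 0)

/-- the icosian `(φ + φ⁻¹ i + j) / 2` -/
def qY : SpecialLinearGroup (Fin 2) F :=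
  qq u v h (φ / 2) ((φ - 1) / 2) (1 / 2) 0 (by
    field_simp
    linear_combination 2 * hφ)

theorem tr_qY : tr (qY h hφ h2) = φ := by
  rw [qY, tr_qq]; field_simp

theorem tr_qX_mul_qY : tr (qX h h2 * qY h hφ h2) = 0 := by
  have hn : (0 : F) ^ 2 + ((φ - 1) / 2) ^ 2 + (φ / 2) ^ 2 + (1 / 2) ^ 2 = 1 := by
    field_simp
    linear_combination 2 * hφ
  rw [qX, qY, qq_mul_eq h _ _ hn, tr_qq]
  · ring
  all_goals (field_simp; ring)

theorem qK_mul_qY : qK h * qY h hφ h2 = (qY h hφ h2)⁻¹ * qK h := by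
  have hn : (0 : F) ^ 2 + (-(1 / 2)) ^ 2 + ((φ - 1) / 2) ^ 2 + (φ / 2) ^ 2 = 1 := by
    field_simp
    linear_combination 2 * hφ
  rw [qK, qY, qq_inv, qq_mul_eq h _ _ hn, qq_mul_eq h _ _ hn] <;> ring

theorem qY_mul_qJ : qY h hφ h2 * qJ h = qX h h2 * qY h hφ h2 * qY h hφ h2 := by
  have hn : (0 : F) ^ 2 + ((φ - 1) / 2) ^ 2 + (φ / 2) ^ 2 + (1 / 2) ^ 2 = 1 := by
    field_simp
    linear_combination 2 * hφ
  have hn' : (-(1 / 2) : F) ^ 2 + 0 ^ 2 + (φ / 2) ^ 2 + ((φ - 1) / 2) ^ 2 = 1 := by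
    field_simp
    linear_combination 2 * hφ
  have e1 : qX h h2 * qY h hφ h2 = qq u v h 0 ((φ - 1) / 2) (φ / 2) (1 / 2) hn := by
    rw [qX, qY]
    apply qq_mul_eq <;> field_simp <;> ring
  rw [e1, qY, qJ, qq_mul_eq h _ _ hn', qq_mul_eq h _ _ hn']
  all_goals (field_simp; try linear_combination (0 : F) * hφ)
  · linear_combination hφ
  · linear_combination -hφ
  · linear_combination -hφ
  · linear_combination hφ

end golden

end Cfsg.Agent.Lib.Helper7.PMax
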