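import Mathlib
import Cfsg.Agent.Lib.Helper7.PSL2OddA
import Cfsg.Agent.Lib.Helper7.SL2Quat

set_option autoImplicit false
set_option linter.unusedSimpArgs false
set_option linter.unusedSectionVars false
set_option linter.unusedVariables false

/-! Groups containing a quaternion frame whose traces lie in a subfield. -/

namespace Cfsg.Agent.Lib.Helper7.PMax

open Matrix MatrixGroups Subgroup Cfsg.Agent.Lib.Helper46 Cfsg.Agent.Lib.Helper18.SL2
open Cfsg.Agent.Lib.Helper7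

variable {F : Type*} [Field F]

theorem tr_mul_tr (A B : SpecialLinearGroup (Fin 2) F) :
    tr A * tr B = tr (A * B) + tr (A * B⁻¹) := by
  simp only [tr, mul_00, mul_11, inv_00, inv_01, inv_10, inv_11]
  ring

variable {u v : F} (h : u ^ 2 + v ^ 2 = -1)

theorem exists_qq (h2 : (2 : F) ≠ 0) (g : SpecialLinearGroup (Fin 2) F) :
    ∃ (α β γ δ : F) (hn : α ^ 2 + β ^ 2 + γ ^ 2 + δ ^ 2 = 1), g = qq u v h α β γ δ hn ∧
      α = tr g / 2 ∧ β = -tr (g * qI h) / 2 ∧ γ = -tr (g * qJ h) / 2 ∧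
      δ = -tr (g * qK h) / 2 := by
  have hd := det2 g
  have e1 : tr (g * qI h) = g.1 1 0 - g.1 0 1 := by
    simp only [tr, mul_00, mul_11, qI, qq, mk2_00, mk2_01, mk2_10, mk2_11]; ring
  have e2 : tr (g * qJ h) = (g.1 0 0 - g.1 1 1) * u + (g.1 0 1 + g.1 1 0) * v := by
    simp only [tr, mul_00, mul_11, qJ, qq, mk2_00, mk2_01, mk2_10, mk2_11]; ring
  have e3 : tr (g * qK h) = (g.1 0 0 - g.1 1 1) * v - (g.1 0 1 + g.1 1 0) * u := by
    simp only [tr, mul_00, mul_11, qK, qq, mk2_00, mk2_01, mk2_10, mk2_11]; ring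
  refine ⟨tr g / 2, -tr (g * qI h) / 2, -tr (g * qJ h) / 2, -tr (g * qK h) / 2, ?_, ?_,
    rfl, rfl, rfl, rfl⟩
  · rw [e1, e2, e3, tr]
    field_simp
    linear_combination 4 * hd + ((g.1 0 0 - g.1 1 1) ^ 2 + (g.1 0 1 + g.1 1 0) ^ 2) * h
  · apply ext2 <;> simp only [qq, mk2_00, mk2_01, mk2_10, mk2_11] <;> simp only [e1, e2, e3] <;>
      (try simp only [tr]) <;> field_simp
    · linear_combination ((g.1 0 0 - g.1 1 1)) * h
    · linear_combination ((g.1 0 1 + g.1 1 0)) * h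
    · linear_combination ((g.1 0 1 + g.1 1 0)) * h
    · linear_combination (-(g.1 0 0 - g.1 1 1)) * h

/-- rotating the frame -/
theorem exists_rot {u₀ v₀ : F} (h₀ : u₀ ^ 2 + v₀ ^ 2 = -1) (h2 : (2 : F) ≠ 0)
    (hc : u₀ * u + v₀ * v ≠ 1) :
    ∃ D : GL (Fin 2) F, ∀ (α β γ δ : F) (hn : α ^ 2 + β ^ 2 + γ ^ 2 + δ ^ 2 = 1),
      D * SpecialLinearGroup.toGL (qq u v h α β γ δ hn) * D⁻¹ =
        SpecialLinearGroup.toGL (qq u₀ v₀ h₀ α β γ δ hn) := by
  have hdet : (!![1 - (u₀ * u + v₀ * v), -(u₀ * v - v₀ * u); u₀ * v - v₀ * u,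
      1 - (u₀ * u + v₀ * v)] : Matrix (Fin 2) (Fin 2) F).det ≠ 0 := by
    rw [Matrix.det_fin_two_of]
    intro h0
    apply hc
    have h3 : 2 * (1 - (u₀ * u + v₀ * v)) = 0 := by
      linear_combination h0 - (u ^ 2 + v ^ 2) * h₀ + h
    have := (mul_eq_zero.1 h3).resolve_left h2
    linear_combination -this
  refine ⟨GeneralLinearGroup.mkOfDetNeZero _ hdet, fun α β γ δ hn => ?_⟩
  rw [mul_inv_eq_iff_eq_mul]
  apply Units.ext
  show !![1 - (u₀ * u + v₀ * v), -(u₀ * v - v₀ * u); u₀ * v - v₀ * u,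
      1 - (u₀ * u + v₀ * v)] * (qq u v h α β γ δ hn).1 = (qq u₀ v₀ h₀ α β γ δ hn).1 *
      !![1 - (u₀ * u + v₀ * v), -(u₀ * v - v₀ * u); u₀ * v - v₀ * u,
      1 - (u₀ * u + v₀ * v)]
  ext i j
  fin_cases i <;> fin_cases j <;>
    simp only [Matrix.mul_apply, Fin.sum_univ_two, qq, mk2_00, mk2_01, mk2_10, mk2_11,
      Fin.zero_eta, Fin.mk_one, Fin.isValue, Matrix.of_apply, Matrix.cons_val', Matrix.cons_val_zero,
      Matrix.cons_val_one, Matrix.cons_val_fin_one]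
  · linear_combination (γ * u + δ * v) * h₀ - (γ * u₀ + δ * v₀) * h
  · linear_combination (γ * v - δ * u) * h₀ - (γ * v₀ - δ * u₀) * h
  · linear_combination (γ * v - δ * u) * h₀ - (γ * v₀ - δ * u₀) * h
  · linear_combination (-γ * u - δ * v) * h₀ - (-γ * u₀ - δ * v₀) * h

theorem exists_rot' (p : ℕ) [Fact p.Prime] [CharP F p] (h2 : (2 : F) ≠ 0) (K : Subfield F) :
    ∃ (D : GL (Fin 2) F) (u₀ v₀ : F) (h₀ : u₀ ^ 2 + v₀ ^ 2 = -1), u₀ ∈ K ∧ v₀ ∈ K ∧
      ∀ (α β γ δ : F) (hn : α ^ 2 + β ^ 2 + γ ^ 2 + δ ^ 2 = 1),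
      D * SpecialLinearGroup.toGL (qq u v h α β γ δ hn) * D⁻¹ =
        SpecialLinearGroup.toGL (qq u₀ v₀ h₀ α β γ δ hn) := by
  obtain ⟨a, b, hab⟩ := CharP.sq_add_sq F p (-1)
  have h₀ : (a : F) ^ 2 + (b : F) ^ 2 = -1 := by simpa using hab
  by_cases hc : (a : F) * u + (b : F) * v = 1
  · have hd : (a : F) * v - (b : F) * u = 0 := by
      have : ((a : F) * v - (b : F) * u) ^ 2 = 0 := by
        linear_combination (u ^ 2 + v ^ 2) * h₀ - h - ((a : F) * u + (b : F) * v + 1) * hc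
      exact pow_eq_zero_iff (two_ne_zero) |>.1 this
    have hu : u = -(a : F) := by linear_combination u * h₀ - (a : F) * hc + (b : F) * hd
    have hv : v = -(b : F) := by linear_combination v * h₀ - (b : F) * hc - (a : F) * hd
    refine ⟨1, u, v, h, ?_, ?_, fun α β γ δ hn => by simp⟩
    · rw [hu]; exact K.neg_mem (natCast_mem K a)
    · rw [hv]; exact K.neg_mem (natCast_mem K b)
  · obtain ⟨D, hD⟩ := exists_rot h h₀ h2 hc
    exact ⟨D, a, b, h₀, natCast_mem K a, natCast_mem K b, hD⟩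

theorem sub_frame (p : ℕ) [Fact p.Prime] [CharP F p] (h2 : (2 : F) ≠ 0) (K : Subfield F)
    (G N : Subgroup (SpecialLinearGroup (Fin 2) F))
    (hI : qI h ∈ N) (hJ : qJ h ∈ N) (htr : ∀ n ∈ N, tr n ∈ K)
    (hG : ∀ g ∈ G, ∀ x ∈ N, ∀ y ∈ N, g * x * (g * y) ∈ N) :
    ∃ D : GL (Fin 2) F, G ≤ pre (subM K D) := by
  obtain ⟨D, u₀, v₀, h₀, hu, hv, hD⟩ := exists_rot' h p h2 K
  refine ⟨D, fun g hg => ?_⟩
  rw [mem_pre_subM, Phi_apply]
  obtain ⟨α, β, γ, δ, hn, hgq, eα, eβ, eγ, eδ⟩ := exists_qq h h2 g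
  have h1 := hD α β γ δ hn
  rw [← hgq] at h1
  rw [h1, PSub.mk_mem_range_iff]
  have key : ∀ x ∈ N, ∀ y ∈ N, tr (g * x) * tr (g * y) ∈ K := by
    intro x hx y hy
    rw [tr_mul_tr]
    apply K.add_mem (htr _ (hG g hg x hx y hy))
    have : g * x * (g * y)⁻¹ = g * (x * y⁻¹) * g⁻¹ := by group
    rw [this, tr_conj]
    exact htr _ (N.mul_mem hx (N.inv_mem hy))
  have hK : qK h ∈ N := by rw [← qI_mul_qJ]; exact N.mul_mem hI hJ
  have half : (1 / 2 : F) ∈ K := K.div_mem K.one_mem (by exact_mod_cast natCast_mem K 2)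
  set T : Fin 4 → F := ![α, β, γ, δ] with hTdef
  have hT : ∀ i j, T i * T j ∈ K := by
    have hX : ∀ i, ∃ x ∈ N, ∃ ε ∈ K, T i = ε * tr (g * x) := by
      intro i
      fin_cases i
      · exact ⟨1, N.one_mem, 1 / 2, half, by
          show α = _
          rw [eα, mul_one]; ring⟩
      · exact ⟨qI h, hI, -(1 / 2), K.neg_mem half, by
          show β = _
          rw [eβ]; ring⟩
      · exact ⟨qJ h, hJ, -(1 / 2), K.neg_mem half, by
          show γ = _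
          rw [eγ]; ring⟩
      · exact ⟨qK h, hK, -(1 / 2), K.neg_mem half, by
          show δ = _
          rw [eδ]; ring⟩
    intro i j
    obtain ⟨x, hx, ε, hε, e1⟩ := hX i
    obtain ⟨y, hy, ε', hε', e2⟩ := hX j
    have : T i * T j = ε * ε' * (tr (g * x) * tr (g * y)) := by rw [e1, e2]; ring
    rw [this]
    exact K.mul_mem (K.mul_mem hε hε') (key x hx y hy)
  have lin : ∀ c d : Fin 4 → F, (∀ i, c i ∈ K) → (∀ i, d i ∈ K) →
      (∑ i, c i * T i) * (∑ j, d j * T j) ∈ K := by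
    intro c d hc hd
    rw [Finset.sum_mul_sum]
    refine sum_mem fun i _ => sum_mem fun j _ => ?_
    have : c i * T i * (d j * T j) = c i * d j * (T i * T j) := by ring
    rw [this]
    exact K.mul_mem (K.mul_mem (hc i) (hd j)) (hT i j)
  have hmem4 : ∀ a b c d : F, a ∈ K → b ∈ K → c ∈ K → d ∈ K → ∀ i, (![a, b, c, d] : Fin 4 → F) i ∈ K := by
    intro a b c d ha hb hc hd i
    fin_cases i
    · exact ha
    · exact hb
    · exact hc
    · exact hd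
  have hE : ∀ i j, ∃ c : Fin 4 → F, (∀ k, c k ∈ K) ∧
      (qq u₀ v₀ h₀ α β γ δ hn).1 i j = ∑ k, c k * T k := by
    apply PSub.forall_fin2
    · refine ⟨![1, 0, u₀, v₀], hmem4 _ _ _ _ K.one_mem K.zero_mem hu hv, ?_⟩
      simp only [qq, mk2_00, Fin.sum_univ_four, hTdef]
      simp
      ring
    · refine ⟨![0, 1, v₀, -u₀], hmem4 _ _ _ _ K.zero_mem K.one_mem hv (K.neg_mem hu), ?_⟩
      simp only [qq, mk2_01, Fin.sum_univ_four, hTdef]
      simp
      ring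
    · refine ⟨![0, -1, v₀, -u₀], hmem4 _ _ _ _ K.zero_mem (K.neg_mem K.one_mem) hv
        (K.neg_mem hu), ?_⟩
      simp only [qq, mk2_10, Fin.sum_univ_four, hTdef]
      simp
      ring
    · refine ⟨![1, 0, -u₀, -v₀], hmem4 _ _ _ _ K.one_mem K.zero_mem (K.neg_mem hu)
        (K.neg_mem hv), ?_⟩
      simp only [qq, mk2_11, Fin.sum_univ_four, hTdef]
      simp
      ring
  have hne : ∃ i j, (qq u₀ v₀ h₀ α β γ δ hn).1 i j ≠ 0 := by
    by_contra hcon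
    push Not at hcon
    have := det2 (qq u₀ v₀ h₀ α β γ δ hn)
    rw [hcon 0 0, hcon 0 1] at this
    simp at this
  obtain ⟨i₀, j₀, hw⟩ := hne
  refine ⟨_, hw, fun i j => ?_⟩
  obtain ⟨c, hc, e1⟩ := hE i j
  obtain ⟨d, hd, e2⟩ := hE i₀ j₀
  show (qq u₀ v₀ h₀ α β γ δ hn).1 i j * _ ∈ K
  rw [e1, e2]
  exact lin c d hc hd

end Cfsg.Agent.Lib.Helper7.PMax
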