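import Mathlib
import Cfsg.Agent.Lib.Helper7.SL2Gen2

set_option autoImplicit false
set_option linter.unusedSimpArgs false
set_option linter.unusedSectionVars false
set_option linter.unusedVariables false

/-! The exceptional case `|F| = 9`, `λ² = -1` of Dickson's generation theorem. -/

namespace Cfsg.Agent.Lib.Helper7.PMax

open Matrix MatrixGroups Subgroup Cfsg.Agent.Lib.Helper46 Cfsg.Agent.Lib.Helper18.SL2
open Cfsg.Agent.Lib.Helper7

variable {F : Type*} [Field F]

/-- the element of order five modulo the centre -/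
def genY (lam : F) : SpecialLinearGroup (Fin 2) F := uu lam * ll (-1) * uu lam

theorem tr_genY (lam : F) : tr (genY lam) = 2 - 2 * lam := by
  simp only [genY, tr, mul_00, mul_01, mul_10, mul_11, uu, ll, mk2_00, mk2_01, mk2_10, mk2_11]
  ring

theorem tr_ll_genY (lam : F) : tr (ll 1 * genY lam) = 2 - lam ^ 2 := by
  simp only [genY, tr, mul_00, mul_01, mul_10, mul_11, uu, ll, mk2_00, mk2_01, mk2_10, mk2_11]
  ring

theorem genY_word {lam : F} (h1 : lam ^ 2 + 1 = 0) (h3 : (3 : F) = 0) :
    ll (-1) * genY lam * genY lam * ll (-1) = negOne * uu lam := by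
  apply ext2 <;>
    simp only [genY, negOne, mul_00, mul_01, mul_10, mul_11, uu, ll, mk2_00, mk2_01, mk2_10,
      mk2_11]
  · linear_combination (8 - 2 * lam) * h1 + (-2 - 2 * lam) * h3
  · linear_combination (-6 + 2 * lam) * h1 + (2 + lam) * h3
  · linear_combination (-10 + 2 * lam) * h1 + (2 + 4 * lam) * h3
  · linear_combination (8 - 2 * lam) * h1 + (-2 - 2 * lam) * h3

theorem mk_pow_eq_one {X : SpecialLinearGroup (Fin 2) F} {n : ℕ}
    (h : X ^ n ∈ center (SpecialLinearGroup (Fin 2) F)) :
    (QuotientGroup.mk X : ProjectiveSpecialLinearGroup (Fin 2) F) ^ n = 1 := by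
  have : (QuotientGroup.mk X : ProjectiveSpecialLinearGroup (Fin 2) F) ^ n =
      QuotientGroup.mk (X ^ n) := rfl
  rw [this]
  exact (QuotientGroup.eq_one_iff _).2 h

theorem card_genZ_le [Fintype F] {lam : F} (h1 : lam ^ 2 + 1 = 0) (h3 : (3 : F) = 0) :
    Nat.card (genZ lam) ≤ zc F * 60 := by
  set xb : ProjectiveSpecialLinearGroup (Fin 2) F := QuotientGroup.mk (ll 1) with hxb
  set yb : ProjectiveSpecialLinearGroup (Fin 2) F := QuotientGroup.mk (genY lam) with hyb
  set S : Subgroup (ProjectiveSpecialLinearGroup (Fin 2) F) := closure {xb, yb} with hS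
  have hxS : xb ∈ S := subset_closure (by simp)
  have hyS : yb ∈ S := subset_closure (by simp)
  have hx3 : xb ^ 3 = 1 := by
    apply mk_pow_eq_one
    rw [ll_pow]
    have : ((3 : ℕ) : F) * 1 = 0 := by push_cast; rw [h3, zero_mul]
    rw [this, ll_zero]
    exact one_mem _
  have hy5 : yb ^ 5 = 1 := by
    apply mk_pow_eq_one
    have h := Cfsg.Agent.Lib.Helper47.pow_five (genY lam)
    have e : tr (genY lam) ^ 4 - 3 * tr (genY lam) ^ 2 + 1 = 0 := by
      rw [tr_genY]
      linear_combination (68 - 64 * lam + 16 * lam ^ 2) * h1 + (-21 + 8 * lam) * h3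
    rw [e] at h
    exact pow_mem_center_of_coeff h
  have hxy2 : (xb * yb) ^ 2 = 1 := by
    have : xb * yb = QuotientGroup.mk (ll 1 * genY lam) := rfl
    rw [this]
    apply mk_pow_eq_one
    have h := mat_pow_two (ll 1 * genY lam)
    have e : tr (ll 1 * genY lam) = 0 := by
      rw [tr_ll_genY]
      linear_combination (-1) * h1 + h3
    rw [e] at h
    exact pow_mem_center_of_coeff h
  have hgen : closure ({⟨xb, hxS⟩, ⟨yb, hyS⟩} : Set S) = ⊤ := by
    have := Subgroup.closure_closure_coe_preimage (k := ({xb, yb} : Set _))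
    convert this using 2
    ext ⟨w, hw⟩
    simp [Subtype.ext_iff]
  have hcard := (Cfsg.Agent.S3377.card_le (P := S) ⟨xb, hxS⟩ ⟨yb, hyS⟩ hgen
    (Subtype.ext hx3) (Subtype.ext hy5) (Subtype.ext hxy2)).2
  have hle : genZ lam ≤ pre S := by
    apply sup_le _ (center_le_pre S)
    rw [genG, closure_le]
    have hl : ll (1 : F) ∈ pre S := hxS
    have hY : genY lam ∈ pre S := hyS
    have hl' : ll (-1 : F) ∈ pre S := by
      rw [← ll_inv]; exact (pre S).inv_mem hl
    rintro g (rfl | rfl)
    · exact hl
    · have hW : negOne * uu lam ∈ pre S := by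
        rw [← genY_word h1 h3]
        exact (pre S).mul_mem ((pre S).mul_mem ((pre S).mul_mem hl' hY) hY) hl'
      have hn : (negOne : SpecialLinearGroup (Fin 2) F) ∈ pre S :=
        center_le_pre S negOne_mem_center
      have := (pre S).mul_mem ((pre S).inv_mem hn) hW
      rwa [inv_mul_cancel_left] at this
  calc Nat.card (genZ lam) ≤ Nat.card (pre S) := Subgroup.card_le_of_le hle
    _ = zc F * Nat.card S := card_pre S
    _ ≤ zc F * 60 := Nat.mul_le_mul_left _ hcard

theorem negOne_mem_genG {lam : F} (h1 : lam ^ 2 + 1 = 0) (h3 : (3 : F) = 0) :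
    negOne ∈ genG lam := by
  have h5 : (ll 1 * uu lam) ^ 5 = negOne := by
    have h := Cfsg.Agent.Lib.Helper47.pow_five (ll 1 * uu lam)
    have e : tr (ll 1 * uu lam) ^ 4 - 3 * tr (ll 1 * uu lam) ^ 2 + 1 = 0 := by
      rw [tr_ll_uu]
      linear_combination (20 + 8 * lam + lam ^ 2) * h1 + (-5 + 4 * lam) * h3
    have e' : tr (ll 1 * uu lam) ^ 3 - 2 * tr (ll 1 * uu lam) = 1 := by
      rw [tr_ll_uu]
      linear_combination (6 + lam) * h1 + (-1 + 3 * lam) * h3
    rw [e, e'] at h
    apply ext2 <;> rw [Matrix.SpecialLinearGroup.coe_pow, h] <;> simp [negOne]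
  rw [← h5]
  exact (genG lam).pow_mem (ll_uu_mem lam) 5

theorem genZ_eq_genG {lam : F} (h1 : lam ^ 2 + 1 = 0) (h3 : (3 : F) = 0) :
    genZ lam = genG lam := by
  apply sup_eq_left.2
  intro z hz
  obtain ⟨z01, z10, z00⟩ := (mem_center_iff2 z).1 hz
  rcases center_entry z hz with h | h
  · have : z = 1 := by
      apply ext2 <;> simp only [one_00, one_01, one_10, one_11]
      · exact h
      · exact z01
      · exact z10
      · rw [← z00]; exact h
    rw [this]; exact one_mem _
  · have : z = negOne := by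
      apply ext2 <;> simp only [negOne, mk2_00, mk2_01, mk2_10, mk2_11]
      · exact h
      · exact z01
      · exact z10
      · rw [← z00]; exact h
    rw [this]; exact negOne_mem_genG h1 h3

theorem card_three_or_nine [Fintype F] [CharP F 3] {lam : F} (h1 : lam ^ 2 = -1)
    (hgen : Subfield.closure ({lam} : Set F) = ⊤) :
    Fintype.card F = 3 ∨ Fintype.card F = 9 := by
  classical
  haveI : Fact (Nat.Prime 3) := ⟨Nat.prime_three⟩
  have hall : ∀ x : F, x ^ 9 = x := by
    have hle : Subfield.closure ({lam} : Set F) ≤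
        ((frobenius F 3).comp (frobenius F 3)).eqLocusField (RingHom.id F) := by
      rw [Subfield.closure_le]
      rintro x rfl
      show ((frobenius F 3).comp (frobenius F 3)) x = RingHom.id F x
      simp only [RingHom.comp_apply, frobenius_def, RingHom.id_apply]
      calc (x ^ 3) ^ 3 = x * (x ^ 2) ^ 4 := by ring
        _ = x := by rw [h1]; ring
    intro x
    have hx : x ∈ Subfield.closure ({lam} : Set F) := by rw [hgen]; trivial
    have := hle hx
    have h2 : ((frobenius F 3).comp (frobenius F 3)) x = RingHom.id F x := this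
    simp only [RingHom.comp_apply, frobenius_def, RingHom.id_apply] at h2
    calc x ^ 9 = (x ^ 3) ^ 3 := by ring
      _ = x := h2
  obtain ⟨g, hg⟩ := IsCyclic.exists_generator (α := Fˣ)
  have hord : orderOf g = Fintype.card F - 1 := by
    rw [orderOf_eq_card_of_forall_mem_zpowers hg, Nat.card_eq_fintype_card, Fintype.card_units]
  have hg8 : g ^ 8 = 1 := by
    have h9 : g ^ 9 = g := by
      ext
      push_cast
      exact hall _
    have : g ^ 8 * g = 1 * g := by rw [one_mul, ← pow_succ]; exact h9
    exact mul_right_cancel this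
  have hd : Fintype.card F - 1 ∣ 8 := hord ▸ orderOf_dvd_of_pow_eq_one hg8
  obtain ⟨n, -, hn⟩ := FiniteField.card F 3
  have h3d : 3 ∣ Fintype.card F := by rw [hn]; exact dvd_pow_self _ n.ne_zero
  have hle : Fintype.card F - 1 ≤ 8 := Nat.le_of_dvd (by norm_num) hd
  have hq2 : 2 ≤ Fintype.card F := Fintype.one_lt_card
  generalize Fintype.card F = q at *
  have : q ≤ 9 := by omega
  interval_cases q <;> omega

end Cfsg.Agent.Lib.Helper7.PMax
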