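import Mathlib
import Cfsg.Agent.Lib.Helper7.SL2Red2

set_option autoImplicit false
set_option linter.unusedSimpArgs false
set_option linter.unusedSectionVars false
set_option linter.unusedVariables false

/-! Sylow `2`-subgroups of `SL₂(q)` when `q - 1` or `q + 1` is a power of two. -/

namespace Cfsg.Agent.Lib.Helper7.PMax

open Matrix MatrixGroups Subgroup Cfsg.Agent.Lib.Helper46 Cfsg.Agent.Lib.Helper18.SL2
open Cfsg.Agent.Lib.Helper7

variable {F : Type*} [Field F] [Fintype F]

theorem commute_conj_iff {G : Type*} [Group G] (g w x : G) :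
    Commute (g⁻¹ * w * g) x ↔ Commute w (g * x * g⁻¹) := by
  constructor
  · intro h
    have h' : g⁻¹ * w * g * x = x * (g⁻¹ * w * g) := h
    show w * (g * x * g⁻¹) = g * x * g⁻¹ * w
    calc w * (g * x * g⁻¹) = g * (g⁻¹ * w * g * x) * g⁻¹ := by group
      _ = g * (x * (g⁻¹ * w * g)) * g⁻¹ := by rw [h']
      _ = _ := by group
  · intro h
    have h' : w * (g * x * g⁻¹) = g * x * g⁻¹ * w := h
    show g⁻¹ * w * g * x = x * (g⁻¹ * w * g)
    calc g⁻¹ * w * g * x = g⁻¹ * (w * (g * x * g⁻¹)) * g := by group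
      _ = g⁻¹ * (g * x * g⁻¹ * w) * g := by rw [h']
      _ = _ := by group

theorem invert_conj_iff {G : Type*} [Group G] (g w x : G) :
    (g⁻¹ * w * g) * x * (g⁻¹ * w * g)⁻¹ = x⁻¹ ↔
      w * (g * x * g⁻¹) * w⁻¹ = (g * x * g⁻¹)⁻¹ := by
  constructor
  · intro h
    calc w * (g * x * g⁻¹) * w⁻¹ = g * ((g⁻¹ * w * g) * x * (g⁻¹ * w * g)⁻¹) * g⁻¹ := by group
      _ = g * x⁻¹ * g⁻¹ := by rw [h]
      _ = _ := by group
  · intro h
    calc (g⁻¹ * w * g) * x * (g⁻¹ * w * g)⁻¹ = g⁻¹ * (w * (g * x * g⁻¹) * w⁻¹) * g := by group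
      _ = g⁻¹ * (g * x * g⁻¹)⁻¹ * g := by rw [h]
      _ = _ := by group

theorem mem_torN_conj {x : SpecialLinearGroup (Fin 2) F} (hs : tr x ^ 2 ≠ 4)
    (g w : SpecialLinearGroup (Fin 2) F) : g⁻¹ * w * g ∈ torN x ↔ w ∈ torN (g * x * g⁻¹) := by
  have hs' : tr (g * x * g⁻¹) ^ 2 ≠ 4 := by rw [tr_conj]; exact hs
  rw [mem_torN_iff hs, mem_torN_iff hs', commute_conj_iff, invert_conj_iff]

/-- if a torus normaliser is a Sylow `2`-subgroup, no Sylow `2`-subgroup is redundant -/
theorem pin_of_torus (h2 : (2 : F) ≠ 0) (hq : 3 ≤ Fintype.card F)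
    {x₀ : SpecialLinearGroup (Fin 2) F} (hs : tr x₀ ^ 2 ≠ 4) {k : ℕ} (ho : orderOf x₀ = 2 ^ k)
    (hc : Nat.card (centralizer ({x₀} : Set (SpecialLinearGroup (Fin 2) F))) = 2 ^ k)
    (hi : ¬ 2 ∣ (torN x₀).index) (Q : Sylow 2 (SpecialLinearGroup (Fin 2) F)) :
    ∃ x : SpecialLinearGroup (Fin 2) F, (∃ j : ℕ, orderOf x = 2 ^ j) ∧
      ∀ P : Sylow 2 (SpecialLinearGroup (Fin 2) F), x ∈ P → P = Q := by
  haveI : Fact (Nat.Prime 2) := ⟨Nat.prime_two⟩
  have hp : IsPGroup 2 (torN x₀) :=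
    IsPGroup.of_card (n := k + 1) (by rw [card_torN hs hq, hc, pow_succ, mul_comm])
  set N₀ : Sylow 2 (SpecialLinearGroup (Fin 2) F) := hp.toSylow hi with hN₀
  have hcz : ∀ w, Commute w x₀ → w ∈ zpowers x₀ := by
    have hle : zpowers x₀ ≤ centralizer ({x₀} : Set (SpecialLinearGroup (Fin 2) F)) :=
      zpowers_le.2 (mem_centralizer_singleton_iff.2 rfl)
    have he := eq_of_le_of_card_ge hle (by rw [hc, Nat.card_zpowers, ho])
    intro w hw
    rw [he]
    exact mem_centralizer_singleton_iff.2 hw.eq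
  have key : ∀ P : Sylow 2 (SpecialLinearGroup (Fin 2) F),
      ∃ g : SpecialLinearGroup (Fin 2) F, ∀ w, w ∈ P ↔ w ∈ torN (g * x₀ * g⁻¹) := by
    intro P
    obtain ⟨g, hg⟩ := MulAction.exists_smul_eq (SpecialLinearGroup (Fin 2) F) N₀ P
    refine ⟨g, fun w => ?_⟩
    rw [← hg, mem_smul_sylow, ← mem_torN_conj hs]
    exact Iff.rfl
  obtain ⟨g, hg⟩ := key Q
  set x := g * x₀ * g⁻¹ with hx
  clear_value x
  have hsx : tr x ^ 2 ≠ 4 := by rw [hx, tr_conj]; exact hs
  have hox : orderOf x = 2 ^ k := by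
    rw [← ho, hx]
    exact (MulAut.conj g).orderOf_eq x₀
  refine ⟨x, ⟨k, hox⟩, fun P hP => ?_⟩
  obtain ⟨h, hh⟩ := key P
  set x' := h * x₀ * h⁻¹ with hx'
  clear_value x'
  have hsx' : tr x' ^ 2 ≠ 4 := by rw [hx', tr_conj]; exact hs
  have hle : (P : Subgroup (SpecialLinearGroup (Fin 2) F)) ≤ Q := by
    rcases (mem_torN_iff hsx').1 ((hh x).1 hP) with h1 | h1
    · intro w hw
      have := (hh w).1 hw
      rw [torN_eq_of_commute hsx' hsx h1] at this
      exact (hg w).2 this
    · have ht : tr x = 0 := tr_eq_zero_of_inverts hsx' h1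
      have ht' : tr x' = 0 := by
        rw [hx', tr_conj]
        rw [hx, tr_conj] at ht
        exact ht
      have hxx := sq_of_tr_zero x ht
      have hxx' := sq_of_tr_zero x' ht'
      have hxi : x⁻¹ = negOne * x := by
        apply inv_eq_of_mul_eq_one_right
        rw [← mul_assoc, mem_center_iff.1 negOne_mem_center x, mul_assoc, hxx, negOne_mul_self]
      have hxi' : x'⁻¹ = negOne * x' := by
        apply inv_eq_of_mul_eq_one_right
        rw [← mul_assoc, mem_center_iff.1 negOne_mem_center x', mul_assoc, hxx',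
          negOne_mul_self]
      have e1 : x * x' = negOne * (x' * x) := by
        have := congrArg (· * x) h1
        simp only [inv_mul_cancel_right] at this
        rw [this, hxi', mul_assoc]
      have hx'Q : x' ∈ torN x := by
        rw [mem_torN_iff hsx]
        right
        rw [hxi, mul_inv_eq_iff_eq_mul, mul_assoc, e1, ← mul_assoc, negOne_mul_self, one_mul]
      have hcz' : ∀ w, Commute w x' → w ∈ torN x := by
        intro w hw
        have h3 := hcz _ ((commute_conj_iff h w x₀).2 (hx' ▸ hw))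
        obtain ⟨i, hi'⟩ := h3
        have h4 : w = x' ^ i := by
          rw [hx', conj_zpow]
          have h5 : x₀ ^ i = h⁻¹ * w * h := hi'
          rw [h5]; group
        rw [h4]
        exact zpow_mem hx'Q i
      intro w hw
      apply (hg w).2
      rcases (mem_torN_iff hsx').1 ((hh w).1 hw) with h3 | h3
      · exact hcz' w h3
      · have h4 : Commute (x⁻¹ * w) x' := by
          have e2 : x⁻¹ * x'⁻¹ * x = x' := by
            rw [← h1]; group
          show x⁻¹ * w * x' = x' * (x⁻¹ * w)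
          have e3 : w * x' = x'⁻¹ * w := by
            have := congrArg (· * w) h3
            simpa using this
          calc x⁻¹ * w * x' = x⁻¹ * (w * x') := by group
            _ = (x⁻¹ * x'⁻¹ * x) * (x⁻¹ * w) := by rw [e3]; group
            _ = _ := by rw [e2]
        have h5 := (torN x).mul_mem (self_mem_torN x) (hcz' _ h4)
        rwa [mul_inv_cancel_left] at h5
  exact Sylow.ext (P.3 Q.2 hle).symm

end Cfsg.Agent.Lib.Helper7.PMax
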