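import Mathlib
import Cfsg.Agent.Lib.Helper7.SL2Red3
import Cfsg.Agent.Lib.Helper7.PSL2Sol2

set_option autoImplicit false
set_option linter.unusedSimpArgs false
set_option linter.unusedSectionVars false
set_option linter.unusedVariables false

/-! Redundant Sylow subgroups of `SL₂(q)`. -/

namespace Cfsg.Agent.Lib.Helper7.PMax

open Matrix MatrixGroups Subgroup Cfsg.Agent.Lib.Helper46 Cfsg.Agent.Lib.Helper18.SL2
open Cfsg.Agent.Lib.Helper7

variable {F : Type*} [Field F] [Fintype F]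

theorem four_dvd_two_pow {k : ℕ} (h : 3 ≤ 2 ^ k) : 4 ∣ 2 ^ k := by
  have hk : 2 ≤ k := by
    by_contra hlt
    have : k = 0 ∨ k = 1 := by omega
    rcases this with rfl | rfl <;> norm_num at h
  exact pow_dvd_pow 2 hk

theorem good_torus_plus {k : ℕ} (hk : Fintype.card F + 1 = 2 ^ k) :
    ∃ (x₀ : SpecialLinearGroup (Fin 2) F), tr x₀ ^ 2 ≠ 4 ∧ orderOf x₀ = 2 ^ k ∧
      Nat.card (centralizer ({x₀} : Set (SpecialLinearGroup (Fin 2) F))) = 2 ^ k ∧
      ¬ 2 ∣ (torN x₀).index := by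
  have hq2 : 2 ≤ Fintype.card F := Fintype.one_lt_card
  obtain ⟨s, hs4⟩ := four_dvd_two_pow (k := k) (by omega)
  obtain ⟨v, hv⟩ : ∃ v, Fintype.card F = 4 * v + 3 := ⟨s - 1, by omega⟩
  obtain ⟨X₀, hX, hroot⟩ := Cfsg.Agent.Lib.Helper47.exists_nonsplit (F := F)
  have hs := tr_sq_ne_of_nonsplit hroot
  have hxc : X₀ ∉ center (SpecialLinearGroup (Fin 2) F) := fun h => hs (tr_sq_of_mem_center X₀ h)
  have hc : Nat.card (centralizer ({X₀} : Set (SpecialLinearGroup (Fin 2) F))) =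
      Fintype.card F + 1 := by
    rcases Cfsg.Agent.Lib.Helper47.card_centralizer_cases X₀ hxc with ⟨-, h⟩ | ⟨⟨a, ha, -⟩, -⟩ |
      ⟨h, -⟩
    · exact h
    · exact absurd ha (hroot a)
    · exact absurd h hs
  refine ⟨X₀, hs, by rw [hX, hk], by rw [hc, hk], ?_⟩
  have h1 := (torN X₀).card_mul_index
  rw [card_torN hs (by omega), hc, card_SL2, hv] at h1
  have e : (4 * v + 3) ^ 2 - 1 = 8 * (v + 1) * (2 * v + 1) := by
    apply Nat.sub_eq_of_eq_add
    ring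
  rw [e] at h1
  have h3 : (8 * (v + 1)) * (torN X₀).index = (8 * (v + 1)) * ((4 * v + 3) * (2 * v + 1)) := by
    rw [← mul_assoc] at h1 ⊢
    linarith
  have h4 := Nat.eq_of_mul_eq_mul_left (by positivity) h3
  have h5 : (torN X₀).index = 2 * (4 * v * v + 5 * v + 1) + 1 := by rw [h4]; ring
  omega

theorem good_torus_minus {k : ℕ} (hk : Fintype.card F = 2 ^ k + 1) (hq : 4 ≤ Fintype.card F) :
    ∃ (x₀ : SpecialLinearGroup (Fin 2) F), tr x₀ ^ 2 ≠ 4 ∧ orderOf x₀ = 2 ^ k ∧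
      Nat.card (centralizer ({x₀} : Set (SpecialLinearGroup (Fin 2) F))) = 2 ^ k ∧
      ¬ 2 ∣ (torN x₀).index := by
  obtain ⟨s, hs4⟩ := four_dvd_two_pow (k := k) (by omega)
  obtain ⟨v, hv⟩ : ∃ v, Fintype.card F = 4 * (v + 1) + 1 := ⟨s - 1, by omega⟩
  obtain ⟨u, hu⟩ := Cfsg.Agent.Lib.Helper47.exists_unit_order (F := F)
  have hu2 : u ^ 2 ≠ 1 := by
    intro h
    have := Nat.le_of_dvd (by norm_num) (orderOf_dvd_of_pow_eq_one h)
    omega
  have hs : tr (dd u) ^ 2 ≠ 4 := tr_dd_sq_ne u hu2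
  have hxc : dd u ∉ center (SpecialLinearGroup (Fin 2) F) :=
    fun h => hs (tr_sq_of_mem_center _ h)
  have hc : Nat.card (centralizer ({dd u} : Set (SpecialLinearGroup (Fin 2) F))) =
      Fintype.card F - 1 := by
    rcases Cfsg.Agent.Lib.Helper47.card_centralizer_cases (dd u) hxc with ⟨h1, -⟩ | ⟨-, h⟩ |
      ⟨h, -⟩
    · exact absurd (Cfsg.Agent.Lib.Helper47.dd_root u) (h1 u)
    · exact h
    · exact absurd h hs
  have ho : orderOf (dd u) = Fintype.card F - 1 := by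
    rw [← hu]
    exact orderOf_injective ddHom dd_injective u
  have hk' : Fintype.card F - 1 = 2 ^ k := by omega
  refine ⟨dd u, hs, by rw [ho, hk'], by rw [hc, hk'], ?_⟩
  have h1 := (torN (dd u)).card_mul_index
  rw [card_torN hs (by omega), hc, card_SL2, hv] at h1
  have e : (4 * (v + 1) + 1) ^ 2 - 1 = 8 * (v + 1) * (2 * v + 3) := by
    apply Nat.sub_eq_of_eq_add
    ring
  have e' : 4 * (v + 1) + 1 - 1 = 4 * (v + 1) := by omega
  rw [e, e'] at h1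
  have h3 : (8 * (v + 1)) * (torN (dd u)).index =
      (8 * (v + 1)) * ((4 * (v + 1) + 1) * (2 * v + 3)) := by
    rw [← mul_assoc] at h1 ⊢
    linarith
  have h4 := Nat.eq_of_mul_eq_mul_left (by positivity) h3
  have h5 : (torN (dd u)).index = 2 * (4 * v * v + 11 * v + 7) + 1 := by rw [h4]; ring
  omega

theorem two_eq_zero_of_card {k : ℕ} (hk : Fintype.card F = 2 ^ k) : (2 : F) = 0 := by
  have h := Nat.cast_card_eq_zero F
  rw [hk] at h
  push_cast at h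
  have hk0 : k ≠ 0 := by
    rintro rfl
    have : 1 < Fintype.card F := Fintype.one_lt_card
    omega
  exact pow_eq_zero_iff hk0 |>.1 h

/-- the cases without redundant Sylow subgroups -/
theorem exists_pin {p : ℕ} [Fact p.Prime]
    (h : p ≠ 2 ∨ (∃ k : ℕ, Fintype.card F + 1 = 2 ^ k) ∨ (∃ k : ℕ, Fintype.card F = 2 ^ k) ∨
      ∃ k : ℕ, Fintype.card F = 2 ^ k + 1)
    (Q : Sylow p (SpecialLinearGroup (Fin 2) F)) :
    ∃ x : SpecialLinearGroup (Fin 2) F, (∃ k : ℕ, orderOf x = p ^ k) ∧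
      ∀ P : Sylow p (SpecialLinearGroup (Fin 2) F), x ∈ P → P = Q := by
  by_cases hp : p ≠ 2 ∨ (2 : F) = 0
  · exact pin_of_comm hp Q
  push Not at hp
  obtain ⟨rfl, h2⟩ := hp
  have hq2 : 2 ≤ Fintype.card F := Fintype.one_lt_card
  have hq3 : 3 ≤ Fintype.card F := by
    by_contra hlt
    exact h2 (two_eq_zero_of_card (k := 1) (by omega))
  have main : ∃ (x₀ : SpecialLinearGroup (Fin 2) F) (k : ℕ), tr x₀ ^ 2 ≠ 4 ∧ orderOf x₀ = 2 ^ k ∧
      Nat.card (centralizer ({x₀} : Set (SpecialLinearGroup (Fin 2) F))) = 2 ^ k ∧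
      ¬ 2 ∣ (torN x₀).index := by
    rcases h with h | ⟨k, hk⟩ | ⟨k, hk⟩ | ⟨k, hk⟩
    · exact absurd rfl h
    · obtain ⟨x₀, hx⟩ := good_torus_plus hk
      exact ⟨x₀, k, hx⟩
    · exact absurd (two_eq_zero_of_card hk) h2
    · by_cases hq4 : 4 ≤ Fintype.card F
      · obtain ⟨x₀, hx⟩ := good_torus_minus hk hq4
        exact ⟨x₀, k, hx⟩
      · obtain ⟨x₀, hx⟩ := good_torus_plus (F := F) (k := 2) (by omega)
        exact ⟨x₀, 2, hx⟩
  obtain ⟨x₀, k, hs, ho, hc, hi⟩ := main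
  exact pin_of_torus h2 hq3 hs ho hc hi Q

theorem ww_not_center : (ww : SpecialLinearGroup (Fin 2) F) ∉
    center (SpecialLinearGroup (Fin 2) F) := by
  intro h
  have := ((mem_center_iff2 _).1 h).1
  simp [ww] at this

/-- the case with redundant Sylow subgroups -/
theorem two_sylows_all (h2 : (2 : F) ≠ 0) (h1 : ¬ ∃ k : ℕ, Fintype.card F + 1 = 2 ^ k)
    (h3 : ¬ ∃ k : ℕ, Fintype.card F = 2 ^ k + 1) (x : SpecialLinearGroup (Fin 2) F)
    (hx : ∃ k : ℕ, orderOf x = 2 ^ k) :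
    ∃ P₁ P₂ : Sylow 2 (SpecialLinearGroup (Fin 2) F), P₁ ≠ P₂ ∧ x ∈ P₁ ∧ x ∈ P₂ := by
  have hq2 : 2 ≤ Fintype.card F := Fintype.one_lt_card
  have hq3 : 3 ≤ Fintype.card F := by
    by_contra hlt
    exact h2 (two_eq_zero_of_card (k := 1) (by omega))
  have key : ∀ z : SpecialLinearGroup (Fin 2) F, z ∉ center (SpecialLinearGroup (Fin 2) F) →
      (∃ k : ℕ, orderOf z = 2 ^ k) →
      ∃ P₁ P₂ : Sylow 2 (SpecialLinearGroup (Fin 2) F), P₁ ≠ P₂ ∧ z ∈ P₁ ∧ z ∈ P₂ := by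
    rintro z hzc ⟨j, hj⟩
    apply two_sylows h2 hq3 hzc hj
    have hs := ss_of_two_element h2 hzc (j := j) (by rw [← hj]; exact pow_orderOf_eq_one z)
    rintro ⟨k, hk⟩
    rcases card_centralizer_ss hs with h | h
    · exact h1 ⟨k, h.symm.trans hk⟩
    · exact h3 ⟨k, by omega⟩
  by_cases hxc : x ∈ center (SpecialLinearGroup (Fin 2) F)
  · have hw2 := sq_of_tr_zero (ww : SpecialLinearGroup (Fin 2) F) Cfsg.Agent.Lib.Helper47.tr_ww
    have hw4 : (ww : SpecialLinearGroup (Fin 2) F) ^ 2 ^ 2 = 1 := by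
      have : (ww : SpecialLinearGroup (Fin 2) F) ^ 2 ^ 2 = (ww * ww) * (ww * ww) := by
        norm_num [pow_succ, mul_assoc]
      rw [this, hw2, negOne_mul_self]
    obtain ⟨i, -, hi⟩ := (Nat.dvd_prime_pow Nat.prime_two).1 (orderOf_dvd_of_pow_eq_one hw4)
    obtain ⟨P₁, P₂, hne, m1, m2⟩ := key ww ww_not_center ⟨i, hi⟩
    refine ⟨P₁, P₂, hne, ?_, ?_⟩
    · rcases Cfsg.Agent.Lib.Helper46.eq_one_or_negOne_of_mem_center x hxc with rfl | rfl
      · exact one_mem _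
      · rw [← hw2]; exact mul_mem m1 m1
    · rcases Cfsg.Agent.Lib.Helper46.eq_one_or_negOne_of_mem_center x hxc with rfl | rfl
      · exact one_mem _
      · rw [← hw2]; exact mul_mem m2 m2
  · exact key x hxc hx

theorem exists_two_pow_of_two_eq (h2 : (2 : F) = 0) : ∃ k : ℕ, Fintype.card F = 2 ^ k := by
  haveI : CharP F 2 := CharTwo.of_one_ne_zero_of_two_eq_zero one_ne_zero h2
  obtain ⟨n, -, hn⟩ := FiniteField.card F 2
  exact ⟨n, hn⟩

end Cfsg.Agent.Lib.Helper7.PMax
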