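import Mathlib
import Cfsg.Agent.Lib.Helper7.PSL2OddB
import Cfsg.Agent.Lib.Helper7.CoatomNorm
import Cfsg.Agent.Lib.Helper7.SL2Red4
import Cfsg.Agent.Lib.Helper7.SL2Gen3

set_option autoImplicit false
set_option linter.unusedSimpArgs false
set_option linter.unusedSectionVars false
set_option linter.unusedVariables false

/-! Quaternion frames in maximal subgroups of `PSL₂(q)`. -/

namespace Cfsg.Agent.Lib.Helper7.PMax

open Matrix MatrixGroups Subgroup Cfsg.Agent.Lib.Helper46 Cfsg.Agent.Lib.Helper18.SL2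
open Cfsg.Agent.Lib.Helper7

variable {F : Type*} [Field F]

local notation "mkP" => (QuotientGroup.mk : SpecialLinearGroup (Fin 2) F →
  ProjectiveSpecialLinearGroup (Fin 2) F)

theorem not_center_of_mk {a : SpecialLinearGroup (Fin 2) F} (h : mkP a ≠ 1) :
    a ∉ center (SpecialLinearGroup (Fin 2) F) :=
  fun hc => h ((QuotientGroup.eq_one_iff a).2 hc)

theorem pow_center_of_mk {a : SpecialLinearGroup (Fin 2) F} {n : ℕ} (h : mkP a ^ n = 1) :
    a ^ n ∈ center (SpecialLinearGroup (Fin 2) F) :=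
  (QuotientGroup.eq_one_iff (a ^ n)).1 h

theorem tr_of_order2 {a : SpecialLinearGroup (Fin 2) F} (h1 : mkP a ≠ 1) (h2 : mkP a ^ 2 = 1) :
    tr a = 0 :=
  coeff_zero_of_pow_mem_center (not_center_of_mk h1) (mat_pow_two a) (pow_center_of_mk h2)

theorem tr_of_order3 {a : SpecialLinearGroup (Fin 2) F} (h1 : mkP a ≠ 1) (h2 : mkP a ^ 3 = 1) :
    tr a ^ 2 = 1 :=
  sub_eq_zero.1
    (coeff_zero_of_pow_mem_center (not_center_of_mk h1) (mat_pow_three a) (pow_center_of_mk h2))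

theorem tr_of_order5 {a : SpecialLinearGroup (Fin 2) F} (h1 : mkP a ≠ 1) (h2 : mkP a ^ 5 = 1) :
    tr a ^ 4 - 3 * tr a ^ 2 + 1 = 0 :=
  coeff_zero_of_pow_mem_center (not_center_of_mk h1) (Cfsg.Agent.Lib.Helper47.pow_five a)
    (pow_center_of_mk h2)

theorem mk_pow_two_of_tr {a : SpecialLinearGroup (Fin 2) F} (h : tr a = 0) : mkP a ^ 2 = 1 := by
  apply mk_pow_eq_one
  have h1 := mat_pow_two a
  rw [h] at h1
  exact pow_mem_center_of_coeff h1

theorem mk_pow_three_of_tr {a : SpecialLinearGroup (Fin 2) F} (h : tr a ^ 2 = 1) :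
    mkP a ^ 3 = 1 := by
  apply mk_pow_eq_one
  have h1 := mat_pow_three a
  rw [h, sub_self] at h1
  exact pow_mem_center_of_coeff h1

theorem mk_pow_five_of_tr {a : SpecialLinearGroup (Fin 2) F}
    (h : tr a ^ 4 - 3 * tr a ^ 2 + 1 = 0) : mkP a ^ 5 = 1 := by
  apply mk_pow_eq_one
  have h1 := Cfsg.Agent.Lib.Helper47.pow_five a
  rw [h] at h1
  exact pow_mem_center_of_coeff h1

theorem tr_of_order4 {a : SpecialLinearGroup (Fin 2) F} (h1 : mkP a ^ 2 ≠ 1)
    (h2 : mkP a ^ 4 = 1) : tr a ^ 2 = 2 := by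
  have h0 : mkP a ≠ 1 := by
    intro h
    rw [h, one_pow] at h1
    exact h1 rfl
  rcases mul_eq_zero.1 (coeff_zero_of_pow_mem_center (not_center_of_mk h0) (mat_pow_four a)
    (pow_center_of_mk h2)) with h | h
  · exact absurd (mk_pow_two_of_tr h) h1
  · exact sub_eq_zero.1 h

theorem frame_of_invol {A B : ProjectiveSpecialLinearGroup (Fin 2) F} (hA1 : A ≠ 1) (hB1 : B ≠ 1)
    (hAB : A ≠ B) (hA2 : A ^ 2 = 1) (hB2 : B ^ 2 = 1) (hc : A * B = B * A) :
    ∃ a b : SpecialLinearGroup (Fin 2) F, mkP a = A ∧ mkP b = B ∧ tr a = 0 ∧ tr b = 0 ∧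
      tr (a * b) = 0 := by
  obtain ⟨a, rfl⟩ := QuotientGroup.mk_surjective A
  obtain ⟨b, rfl⟩ := QuotientGroup.mk_surjective B
  refine ⟨a, b, rfl, rfl, tr_of_order2 hA1 hA2, tr_of_order2 hB1 hB2, ?_⟩
  apply tr_of_order2
  · intro h
    apply hAB
    have h1 : mkP a * mkP b = 1 := h
    have h2 : mkP b * mkP b = 1 := by rw [← sq]; exact hB2
    exact mul_right_cancel (h1.trans h2.symm)
  · have h1 : mkP (a * b) = mkP a * mkP b := rfl
    rw [h1, (show Commute (mkP a) (mkP b) from hc).mul_pow, hA2, hB2, one_mul]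

theorem conj_frame [Fintype F] (h2 : (2 : F) ≠ 0) {a b : SpecialLinearGroup (Fin 2) F}
    (ha : tr a = 0) (hb : tr b = 0) (hab : tr (a * b) = 0) :
    ∃ (P : SpecialLinearGroup (Fin 2) F) (u v : F) (h : u ^ 2 + v ^ 2 = -1),
      P * a * P⁻¹ = qI h ∧ P * b * P⁻¹ = qJ h := by
  have hodd : Fintype.card F % 2 = 1 := Nat.odd_iff.1 (odd_card_of_two_ne h2)
  have h4 : (0 : F) ^ 2 ≠ 4 := by
    intro h
    apply h2
    have : (2 : F) * 2 = 0 := by linear_combination -h
    exact (mul_self_eq_zero.1 this)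
  have hac : a ∉ center (SpecialLinearGroup (Fin 2) F) := by
    intro h
    have := tr_sq_of_mem_center a h
    rw [ha] at this
    exact h4 this
  obtain ⟨P, hP⟩ := conj_of_tr_eq (repAll_of_odd hodd 0 h4) a ww hac ww_not_center ha
    Cfsg.Agent.Lib.Helper47.tr_ww
  have t1 : tr (P * b * P⁻¹) = 0 := by rw [tr_conj, hb]
  have t2 : tr (ww * (P * b * P⁻¹)) = 0 := by
    rw [← hP]
    have : P * a * P⁻¹ * (P * b * P⁻¹) = P * (a * b) * P⁻¹ := by group
    rw [this, tr_conj, hab]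
  rw [tr_ww_mul] at t2
  rw [tr] at t1
  have hd := det2 (P * b * P⁻¹)
  set b' := P * b * P⁻¹ with hb'
  have e10 : b'.1 1 0 = b'.1 0 1 := by linear_combination t2
  have e11 : b'.1 1 1 = -b'.1 0 0 := by linear_combination t1
  have h : b'.1 0 0 ^ 2 + b'.1 0 1 ^ 2 = -1 := by
    rw [e10, e11] at hd
    linear_combination -hd
  refine ⟨P, b'.1 0 0, b'.1 0 1, h, by rw [hP, qI_eq], ?_⟩
  rw [qJ_eq]
  apply ext2 <;> simp only [mk2_00, mk2_01, mk2_10, mk2_11]
  · rfl
  · rfl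
  · exact e10
  · exact e11

/-- reduction to a maximal subgroup containing a standard frame -/
theorem std_frame [Fintype F] (h2 : (2 : F) ≠ 0)
    {M : Subgroup (ProjectiveSpecialLinearGroup (Fin 2) F)} (hM : IsCoatom M)
    {X : Type*} [Group X] (e : M ≃* X) {α β : X} (hα : α ≠ 1) (hβ : β ≠ 1) (hαβ : α ≠ β)
    (hα2 : α ^ 2 = 1) (hβ2 : β ^ 2 = 1) (hc : α * β = β * α) :
    ∃ (M' : Subgroup (ProjectiveSpecialLinearGroup (Fin 2) F)) (e' : M' ≃* X) (u v : F)
      (h : u ^ 2 + v ^ 2 = -1), IsCoatom M' ∧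
      ((e'.symm α : M') : ProjectiveSpecialLinearGroup (Fin 2) F) = mkP (qI h) ∧
      ((e'.symm β : M') : ProjectiveSpecialLinearGroup (Fin 2) F) = mkP (qJ h) := by
  have inj : Function.Injective (fun x : X => ((e.symm x : M) :
      ProjectiveSpecialLinearGroup (Fin 2) F)) := fun x y hxy => e.symm.injective (Subtype.ext hxy)
  obtain ⟨a, b, hA, hB, ta, tb, tab⟩ := frame_of_invol
    (A := ((e.symm α : M) : ProjectiveSpecialLinearGroup (Fin 2) F))
    (B := ((e.symm β : M) : ProjectiveSpecialLinearGroup (Fin 2) F))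
    (fun h => hα (inj (by simpa using h))) (fun h => hβ (inj (by simpa using h)))
    (fun h => hαβ (inj h))
    (by rw [← Subgroup.coe_pow, ← map_pow, hα2, map_one, Subgroup.coe_one])
    (by rw [← Subgroup.coe_pow, ← map_pow, hβ2, map_one, Subgroup.coe_one])
    (by rw [← Subgroup.coe_mul, ← map_mul, hc, map_mul, Subgroup.coe_mul])
  obtain ⟨P, u, v, h, hPa, hPb⟩ := conj_frame h2 ta tb tab
  let c : ProjectiveSpecialLinearGroup (Fin 2) F ≃* ProjectiveSpecialLinearGroup (Fin 2) F :=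
    MulAut.conj (mkP P)
  let f : M ≃* M.map c.toMonoidHom := M.equivMapOfInjective _ c.injective
  refine ⟨M.map c.toMonoidHom, f.symm.trans e, u, v, h, ?_, ?_, ?_⟩
  · exact ((MulEquiv.mapSubgroup c).isCoatom_iff M).2 hM
  · show ((f (e.symm α) : M.map c.toMonoidHom) : ProjectiveSpecialLinearGroup (Fin 2) F) = _
    have : ((f (e.symm α) : M.map c.toMonoidHom) : ProjectiveSpecialLinearGroup (Fin 2) F) =
      c ((e.symm α : M) : ProjectiveSpecialLinearGroup (Fin 2) F) :=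
      Subgroup.coe_equivMapOfInjective_apply _ _ _ _
    rw [this, ← hA, ← hPa]
    rfl
  · show ((f (e.symm β) : M.map c.toMonoidHom) : ProjectiveSpecialLinearGroup (Fin 2) F) = _
    have : ((f (e.symm β) : M.map c.toMonoidHom) : ProjectiveSpecialLinearGroup (Fin 2) F) =
      c ((e.symm β : M) : ProjectiveSpecialLinearGroup (Fin 2) F) :=
      Subgroup.coe_equivMapOfInjective_apply _ _ _ _
    rw [this, ← hB, ← hPb]
    rfl

end Cfsg.Agent.Lib.Helper7.PMax
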