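import Mathlib
import Cfsg.Agent.Lib.Helper7.PSL2OddC

set_option autoImplicit false
set_option linter.unusedSimpArgs false
set_option linter.unusedSectionVars false
set_option linter.unusedVariables false

/-! Maximal subgroups of `PSL₂(q)` containing a standard quaternion frame. -/

namespace Cfsg.Agent.Lib.Helper7.PMax

open Matrix MatrixGroups Subgroup Cfsg.Agent.Lib.Helper46 Cfsg.Agent.Lib.Helper18.SL2
open Cfsg.Agent.Lib.Helper7

variable {F : Type*} [Field F]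

local notation "mkP" => (QuotientGroup.mk : SpecialLinearGroup (Fin 2) F →
  ProjectiveSpecialLinearGroup (Fin 2) F)

theorem sub_of_iso (p : ℕ) [Fact p.Prime] [CharP F p] (h2 : (2 : F) ≠ 0) (K : Subfield F)
    {M : Subgroup (ProjectiveSpecialLinearGroup (Fin 2) F)} {X : Type*} [Group X] (e : M ≃* X)
    (Y : Subgroup X) {α β : X} (hα : α ∈ Y) (hβ : β ∈ Y) {u v : F} (h : u ^ 2 + v ^ 2 = -1)
    (hA : ((e.symm α : M) : ProjectiveSpecialLinearGroup (Fin 2) F) = mkP (qI h))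
    (hB : ((e.symm β : M) : ProjectiveSpecialLinearGroup (Fin 2) F) = mkP (qJ h))
    (hY : ∀ x : X, ∀ y ∈ Y, ∀ z ∈ Y, x * y * (x * z) ∈ Y)
    (htr : ∀ (g : SpecialLinearGroup (Fin 2) F) (hg : mkP g ∈ M), e ⟨mkP g, hg⟩ ∈ Y → tr g ∈ K) :
    ∃ D : GL (Fin 2) F, M ≤ subM K D := by
  let N : Subgroup (SpecialLinearGroup (Fin 2) F) :=
    ((Y.comap e.toMonoidHom).map M.subtype).comap (QuotientGroup.mk' _)
  have hN : ∀ g, g ∈ N ↔ ∃ m : M, e m ∈ Y ∧ (m : ProjectiveSpecialLinearGroup (Fin 2) F) = mkP g := by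
    intro g
    constructor
    · rintro ⟨m, hm, hmg⟩
      exact ⟨m, hm, hmg⟩
    · rintro ⟨m, hm, hmg⟩
      exact ⟨m, hm, hmg⟩
  obtain ⟨D, hD⟩ := sub_frame h p h2 K (pre M) N
    ((hN _).2 ⟨e.symm α, by simpa using hα, hA⟩) ((hN _).2 ⟨e.symm β, by simpa using hβ, hB⟩)
    (by
      intro n hn
      obtain ⟨m, hm, hmn⟩ := (hN n).1 hn
      have hg : mkP n ∈ M := hmn ▸ m.2
      apply htr n hg
      have : (⟨mkP n, hg⟩ : M) = m := Subtype.ext hmn.symm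
      rw [this]; exact hm)
    (by
      intro g hg x hx y hy
      obtain ⟨mx, hmx, ex⟩ := (hN x).1 hx
      obtain ⟨my, hmy, ey⟩ := (hN y).1 hy
      refine (hN _).2 ⟨(⟨mkP g, hg⟩ : M) * mx * ((⟨mkP g, hg⟩ : M) * my), ?_, ?_⟩
      · simp only [map_mul]
        exact hY _ _ hmx _ hmy
      · simp only [Subgroup.coe_mul, ex, ey]
        rfl)
  exact ⟨D, pre_le_pre.1 hD⟩

theorem tr_mem_of_center (K : Subfield F) {g : SpecialLinearGroup (Fin 2) F}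
    (h : g ∈ center (SpecialLinearGroup (Fin 2) F)) : tr g ∈ K := by
  have h1 := tr_sq_of_mem_center g h
  have h2 : (tr g - 2) * (tr g + 2) = 0 := by linear_combination h1
  have h3 : (2 : F) ∈ K := by exact_mod_cast natCast_mem K 2
  rcases mul_eq_zero.1 h2 with h | h
  · rw [sub_eq_zero.1 h]; exact h3
  · rw [eq_neg_of_add_eq_zero_left h]; exact K.neg_mem h3

theorem tr_mem_of_sq_eq_one (K : Subfield F) {t : F} (h : t ^ 2 = 1) : t ∈ K := by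
  have h2 : (t - 1) * (t + 1) = 0 := by linear_combination h
  rcases mul_eq_zero.1 h2 with h | h
  · rw [sub_eq_zero.1 h]; exact K.one_mem
  · rw [eq_neg_of_add_eq_zero_left h]; exact K.neg_mem K.one_mem

theorem tr_mem_of_pow (K : Subfield F) {g : SpecialLinearGroup (Fin 2) F}
    (h : mkP g ^ 2 = 1 ∨ mkP g ^ 3 = 1) : tr g ∈ K := by
  by_cases h1 : mkP g = 1
  · exact tr_mem_of_center K ((QuotientGroup.eq_one_iff g).1 h1)
  rcases h with h | h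
  · rw [tr_of_order2 h1 h]; exact K.zero_mem
  · exact tr_mem_of_sq_eq_one K (tr_of_order3 h1 h)

theorem card_eq_of_bot_eq_top [Fintype F] (p : ℕ) [Fact p.Prime] [CharP F p]
    (h : (⊥ : Subfield F) = ⊤) : Fintype.card F = p := by
  rw [← Subfield.card_bot F p, h, ← Nat.card_eq_fintype_card]
  exact (Nat.card_congr Subfield.topEquiv.toEquiv).symm

variable {u v : F} (h : u ^ 2 + v ^ 2 = -1)

theorem qq_not_center (h2 : (2 : F) ≠ 0) {α β γ δ : F} (hn : α ^ 2 + β ^ 2 + γ ^ 2 + δ ^ 2 = 1)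
    (hne : β ≠ 0 ∨ γ ≠ 0 ∨ δ ≠ 0) :
    qq u v h α β γ δ hn ∉ center (SpecialLinearGroup (Fin 2) F) := by
  intro hc
  obtain ⟨c01, c10, c00⟩ := (mem_center_iff2 _).1 hc
  simp only [qq, mk2_00, mk2_01, mk2_10, mk2_11] at c01 c10 c00
  have hβ : β = 0 := by
    have : 2 * β = 0 := by linear_combination c01 - c10
    exact (mul_eq_zero.1 this).resolve_left h2
  have e1 : γ * v - δ * u = 0 := by linear_combination c01 - hβ
  have e2 : γ * u + δ * v = 0 := by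
    have : 2 * (γ * u + δ * v) = 0 := by linear_combination c00
    exact (mul_eq_zero.1 this).resolve_left h2
  have hγ : γ = 0 := by linear_combination γ * h - u * e2 - v * e1
  have hδ : δ = 0 := by linear_combination δ * h - v * e2 + u * e1
  rcases hne with h | h | h
  · exact h hβ
  · exact h hγ
  · exact h hδ

theorem mk_qq_ne_one (h2 : (2 : F) ≠ 0) {α β γ δ : F} (hn : α ^ 2 + β ^ 2 + γ ^ 2 + δ ^ 2 = 1)
    (hne : β ≠ 0 ∨ γ ≠ 0 ∨ δ ≠ 0) : mkP (qq u v h α β γ δ hn) ≠ 1 :=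
  fun hc => qq_not_center h h2 hn hne ((QuotientGroup.eq_one_iff _).1 hc)

theorem mk_qI_ne_one (h2 : (2 : F) ≠ 0) : mkP (qI h) ≠ 1 :=
  mk_qq_ne_one h h2 _ (Or.inl one_ne_zero)

theorem mk_qJ_ne_one (h2 : (2 : F) ≠ 0) : mkP (qJ h) ≠ 1 :=
  mk_qq_ne_one h h2 _ (Or.inr (Or.inl one_ne_zero))

theorem mk_qK_ne_one (h2 : (2 : F) ≠ 0) : mkP (qK h) ≠ 1 :=
  mk_qq_ne_one h h2 _ (Or.inr (Or.inr one_ne_zero))

theorem mk_qI_sq : mkP (qI h) ^ 2 = 1 := mk_pow_two_of_tr (by rw [qI, tr_qq]; ring)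
theorem mk_qJ_sq : mkP (qJ h) ^ 2 = 1 := mk_pow_two_of_tr (by rw [qJ, tr_qq]; ring)
theorem mk_qK_sq : mkP (qK h) ^ 2 = 1 := mk_pow_two_of_tr (by rw [qK, tr_qq]; ring)

theorem mk_qI_mul_qJ : mkP (qI h) * mkP (qJ h) = mkP (qK h) := congrArg mkP (qI_mul_qJ h)

theorem mk_qI_ne_qJ (h2 : (2 : F) ≠ 0) : mkP (qI h) ≠ mkP (qJ h) := by
  intro he
  apply mk_qK_ne_one h h2
  rw [← mk_qI_mul_qJ, he, ← sq, mk_qJ_sq]

theorem mk_qI_comm_qJ : mkP (qI h) * mkP (qJ h) = mkP (qJ h) * mkP (qI h) := by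
  have h1 : (mkP (qI h) * mkP (qJ h)) ^ 2 = 1 := by rw [mk_qI_mul_qJ, mk_qK_sq]
  have hI := mk_qI_sq h
  have hJ := mk_qJ_sq h
  rw [sq] at h1 hI hJ
  have hI' : (mkP (qI h))⁻¹ = mkP (qI h) := inv_eq_of_mul_eq_one_left hI
  have hJ' : (mkP (qJ h))⁻¹ = mkP (qJ h) := inv_eq_of_mul_eq_one_left hJ
  have := eq_inv_of_mul_eq_one_left h1
  rw [_root_.mul_inv_rev, hI', hJ'] at this
  exact this

theorem mk_qX_ne_one (h2 : (2 : F) ≠ 0) : mkP (qX h h2) ≠ 1 :=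
  mk_qq_ne_one h h2 _ (Or.inl (by simpa using h2))

theorem mk_qX_pow (h2 : (2 : F) ≠ 0) : mkP (qX h h2) ^ 3 = 1 :=
  mk_pow_three_of_tr (by rw [tr_qX]; ring)

theorem orderOf_mk_qX (h2 : (2 : F) ≠ 0) : orderOf (mkP (qX h h2)) = 3 :=
  orderOf_eq_prime (mk_qX_pow h h2) (mk_qX_ne_one h h2)

theorem qX_conj_qI (h2 : (2 : F) ≠ 0) :
    mkP (qX h h2) * mkP (qI h) * (mkP (qX h h2))⁻¹ = mkP (qJ h) := by
  rw [mul_inv_eq_iff_eq_mul]
  exact congrArg mkP (qX_mul_qI h h2)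

theorem qX_conj_qJ (h2 : (2 : F) ≠ 0) :
    mkP (qX h h2) * mkP (qJ h) * (mkP (qX h h2))⁻¹ = mkP (qK h) := by
  rw [mul_inv_eq_iff_eq_mul]
  exact congrArg mkP (qX_mul_qJ h h2)

theorem qI_mem_V : mkP (qI h) ∈ closure ({mkP (qI h), mkP (qJ h)} :
    Set (ProjectiveSpecialLinearGroup (Fin 2) F)) := subset_closure (by simp)

theorem qJ_mem_V : mkP (qJ h) ∈ closure ({mkP (qI h), mkP (qJ h)} :
    Set (ProjectiveSpecialLinearGroup (Fin 2) F)) := subset_closure (by simp)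

theorem qK_mem_V : mkP (qK h) ∈ closure ({mkP (qI h), mkP (qJ h)} :
    Set (ProjectiveSpecialLinearGroup (Fin 2) F)) := by
  rw [← mk_qI_mul_qJ]
  exact mul_mem (qI_mem_V h) (qJ_mem_V h)

end Cfsg.Agent.Lib.Helper7.PMax
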