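import Mathlib
import Cfsg.Agent.Lib.Helper7.PSL2OddD

set_option autoImplicit false
set_option linter.unusedSimpArgs false
set_option linter.unusedSectionVars false
set_option linter.unusedVariables false

/-! Explicit overgroups built from a quaternion frame. -/

namespace Cfsg.Agent.Lib.Helper7.PMax

open Matrix MatrixGroups Subgroup Cfsg.Agent.Lib.Helper46 Cfsg.Agent.Lib.Helper18.SL2
open Cfsg.Agent.Lib.Helper7

section general

variable {G : Type*} [Group G]

theorem orderOf_dvd_card_of_mem {S : Subgroup G} {x : G} (hx : x ∈ S) :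
    orderOf x ∣ Nat.card S := by
  have := orderOf_dvd_natCard (⟨x, hx⟩ : S)
  rwa [Subgroup.orderOf_mk] at this

theorem mem_normalizer_zpowers' [Finite G] {x y : G} (h : y * x * y⁻¹ ∈ zpowers x) :
    y ∈ normalizer ((zpowers x : Subgroup G) : Set G) := by
  apply mem_normalizer_of_conj_le
  rintro _ ⟨i, rfl⟩
  show y * x ^ i * y⁻¹ ∈ zpowers x
  rw [← conj_zpow]
  exact zpow_mem h i

theorem pow_of_iso {M : Subgroup G} {X : Type*} [Group X] (e : M ≃* X) {x : G} (hx : x ∈ M)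
    {n : ℕ} : (e ⟨x, hx⟩) ^ n = 1 ↔ x ^ n = 1 := by
  rw [← map_pow, MulEquiv.map_eq_one_iff, Subtype.ext_iff]
  rfl

theorem dih_conj {n : ℕ} (d : DihedralGroup n) :
    d * DihedralGroup.r 1 * d⁻¹ = DihedralGroup.r 1 ∨
      d * DihedralGroup.r 1 * d⁻¹ = (DihedralGroup.r 1)⁻¹ := by
  cases d with
  | r i => left; simp
  | sr i => right; simp

theorem dih_normalizer [Finite G] {M : Subgroup G} {n : ℕ} (e : M ≃* DihedralGroup n) :
    M ≤ normalizer ((zpowers ((e.symm (DihedralGroup.r 1) : M) : G) : Subgroup G) : Set G) := by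
  intro m hm
  apply mem_normalizer_zpowers'
  have hcj : m * ((e.symm (DihedralGroup.r 1) : M) : G) * m⁻¹ =
      ((e.symm (e ⟨m, hm⟩ * DihedralGroup.r 1 * (e ⟨m, hm⟩)⁻¹) : M) : G) := by
    simp
  rw [hcj]
  rcases dih_conj (e ⟨m, hm⟩) with h | h <;> rw [h]
  · exact mem_zpowers _
  · rw [map_inv, Subgroup.coe_inv]
    exact inv_mem (mem_zpowers _)

theorem dih_orderOf {M : Subgroup G} {n : ℕ} (e : M ≃* DihedralGroup n) :
    orderOf ((e.symm (DihedralGroup.r 1) : M) : G) = n := by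
  rw [Subgroup.orderOf_coe, MulEquiv.orderOf_eq, DihedralGroup.orderOf_r_one]

theorem dih_card {M : Subgroup G} {n : ℕ} (e : M ≃* DihedralGroup n) : Nat.card M = 2 * n := by
  rw [Nat.card_congr e.toEquiv, DihedralGroup.nat_card]

/-- a dihedral maximal subgroup of twice prime order cannot coexist with a bigger local subgroup -/
theorem not_coatom_dih [Finite G] [IsSimpleGroup G] {M : Subgroup G} (hM : IsCoatom M) {r : ℕ}
    [Fact r.Prime] (e : M ≃* DihedralGroup r) (hr2 : ¬ r ^ 2 ∣ Nat.card G) {t w : G}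
    (ht : orderOf t = r) (hw : orderOf w = 2) (hr : r ≠ 2) (hwt : w * t * w⁻¹ = t⁻¹)
    {H : Subgroup G} (htH : t ∈ H) (hwH : w ∈ H) (hH : H ≠ ⊤) (hHM : Nat.card H ≠ 2 * r) :
    False := by
  have hr1 : (Fact.out : r.Prime).one_lt = (Fact.out : r.Prime).one_lt := rfl
  have hp : r.Prime := Fact.out
  set t₁ : G := ((e.symm (DihedralGroup.r 1) : M) : G) with ht₁
  have o1 : orderOf t₁ = r := dih_orderOf e
  have hne : zpowers t₁ ≠ ⊥ := by
    intro h
    rw [zpowers_eq_bot] at h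
    rw [h, orderOf_one] at o1
    exact hp.one_lt.ne o1
  have hle : zpowers t₁ ≤ M := zpowers_le.2 (e.symm (DihedralGroup.r 1)).2
  have hnt : zpowers t₁ ≠ ⊤ := by
    intro h
    rw [h] at hle
    exact hM.1 (top_le_iff.1 hle)
  refine not_coatom_of_sylow hM hr2 o1 ht (dih_normalizer e) (normalizer_ne_top hne hnt)
    (K := closure {t, w}) (H := H) ?_ ?_ ?_ hH (by rw [dih_card e]; exact hHM)
  · rw [closure_le]
    rintro x (rfl | rfl)
    · exact htH
    · exact hwH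
  · rw [closure_le]
    rintro x (rfl | rfl)
    · exact le_normalizer (mem_zpowers _)
    · exact mem_normalizer_zpowers hwt
  · rw [dih_card e]
    have h1 : r ∣ Nat.card (closure ({t, w} : Set G)) := by
      rw [← ht]; exact orderOf_dvd_card_of_mem (subset_closure (by simp))
    have h2 : 2 ∣ Nat.card (closure ({t, w} : Set G)) := by
      rw [← hw]; exact orderOf_dvd_card_of_mem (subset_closure (by simp))
    have hco : Nat.Coprime 2 r := (Nat.coprime_primes Nat.prime_two hp).2 (Ne.symm hr)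
    exact Nat.le_of_dvd Nat.card_pos (hco.mul_dvd_of_dvd_of_dvd h2 h1)

end general

variable {F : Type*} [Field F] [Fintype F]

local notation "mkP" => (QuotientGroup.mk : SpecialLinearGroup (Fin 2) F →
  ProjectiveSpecialLinearGroup (Fin 2) F)

variable {u v : F} (h : u ^ 2 + v ^ 2 = -1)

section sqrt2

variable {s : F} (hs : s ^ 2 = 2) (h2 : (2 : F) ≠ 0)

theorem qG_conj_qI : mkP (qG h hs h2) * mkP (qI h) * (mkP (qG h hs h2))⁻¹ = mkP (qI h) := by
  rw [mul_inv_eq_iff_eq_mul]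
  exact congrArg mkP (qG_mul_qI h hs h2)

theorem qG_conj_qJ : mkP (qG h hs h2) * mkP (qJ h) * (mkP (qG h hs h2))⁻¹ = mkP (qK h) := by
  rw [mul_inv_eq_iff_eq_mul]
  exact congrArg mkP (qG_mul_qJ h hs h2)

theorem mk_qG_sq : mkP (qG h hs h2) ^ 2 = mkP (qI h) := by
  rw [sq]
  exact congrArg mkP (qG_mul_self h hs h2)

theorem qT_conj_qI : mkP (qT h hs h2) * mkP (qI h) * (mkP (qT h hs h2))⁻¹ = mkP (qJ h) := by
  rw [mul_inv_eq_iff_eq_mul]
  have := congrArg mkP (qT_mul_qI h hs h2)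
  rw [mul_assoc, mk_negOne_mul] at this
  exact this

theorem qT_conj_qJ : mkP (qT h hs h2) * mkP (qJ h) * (mkP (qT h hs h2))⁻¹ = mkP (qI h) := by
  rw [mul_inv_eq_iff_eq_mul]
  have := congrArg mkP (qT_mul_qJ h hs h2)
  rw [mul_assoc, mk_negOne_mul] at this
  exact this

theorem qT_conj_qX :
    mkP (qT h hs h2) * mkP (qX h h2) * (mkP (qT h hs h2))⁻¹ = (mkP (qX h h2))⁻¹ := by
  rw [mul_inv_eq_iff_eq_mul]
  exact congrArg mkP (qT_mul_qX h hs h2)

theorem orderOf_mk_qT : orderOf (mkP (qT h hs h2)) = 2 := by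
  apply orderOf_eq_prime (mk_pow_two_of_tr (tr_qT h hs h2))
  apply mk_qq_ne_one h h2
  left
  have := sqrt2_ne hs h2
  simpa using this

end sqrt2

section golden

variable {φ : F} (hφ : φ ^ 2 = φ + 1) (h2 : (2 : F) ≠ 0)

theorem orderOf_mk_qY : orderOf (mkP (qY h hφ h2)) = 5 := by
  haveI : Fact (Nat.Prime 5) := ⟨by norm_num⟩
  apply orderOf_eq_prime
  · apply mk_pow_five_of_tr
    rw [tr_qY]
    linear_combination (φ ^ 2 + φ - 1) * hφ
  · apply mk_qq_ne_one h h2
    right; left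
    simpa using h2

theorem qK_conj_qY :
    mkP (qK h) * mkP (qY h hφ h2) * (mkP (qK h))⁻¹ = (mkP (qY h hφ h2))⁻¹ := by
  rw [mul_inv_eq_iff_eq_mul]
  exact congrArg mkP (qK_mul_qY h hφ h2)

/-- the icosahedral group -/
def icoH : Subgroup (ProjectiveSpecialLinearGroup (Fin 2) F) :=
  closure {mkP (qX h h2), mkP (qY h hφ h2)}

theorem qX_mem_icoH : mkP (qX h h2) ∈ icoH h hφ h2 := subset_closure (by simp)

theorem qY_mem_icoH : mkP (qY h hφ h2) ∈ icoH h hφ h2 := subset_closure (by simp)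

theorem qJ_mem_icoH : mkP (qJ h) ∈ icoH h hφ h2 := by
  have h1 : mkP (qY h hφ h2) * mkP (qJ h) =
      mkP (qX h h2) * mkP (qY h hφ h2) * mkP (qY h hφ h2) := congrArg mkP (qY_mul_qJ h hφ h2)
  have h3 : mkP (qJ h) = (mkP (qY h hφ h2))⁻¹ *
      (mkP (qX h h2) * mkP (qY h hφ h2) * mkP (qY h hφ h2)) := by
    rw [← h1, inv_mul_cancel_left]
  rw [h3]
  exact mul_mem (inv_mem (qY_mem_icoH h hφ h2)) (mul_mem (mul_mem (qX_mem_icoH h hφ h2)
    (qY_mem_icoH h hφ h2)) (qY_mem_icoH h hφ h2))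

theorem qK_mem_icoH : mkP (qK h) ∈ icoH h hφ h2 := by
  rw [← qX_conj_qJ h h2]
  exact mul_mem (mul_mem (qX_mem_icoH h hφ h2) (qJ_mem_icoH h hφ h2))
    (inv_mem (qX_mem_icoH h hφ h2))

theorem qI_mem_icoH : mkP (qI h) ∈ icoH h hφ h2 := by
  have h1 := qX_conj_qI h h2
  have h3 : mkP (qI h) = (mkP (qX h h2))⁻¹ * mkP (qJ h) * mkP (qX h h2) := by
    rw [← h1]; group
  rw [h3]
  exact mul_mem (mul_mem (inv_mem (qX_mem_icoH h hφ h2)) (qJ_mem_icoH h hφ h2))
    (qX_mem_icoH h hφ h2)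

theorem card_icoH_le : Nat.card (icoH h hφ h2) ≤ 60 := by
  set xb := mkP (qX h h2) with hxb
  set yb := mkP (qY h hφ h2) with hyb
  set S : Subgroup (ProjectiveSpecialLinearGroup (Fin 2) F) := closure {xb, yb} with hS
  show Nat.card S ≤ 60
  have hxS : xb ∈ S := qX_mem_icoH h hφ h2
  have hyS : yb ∈ S := qY_mem_icoH h hφ h2
  have hx3 : xb ^ 3 = 1 := mk_qX_pow h h2
  have hy5 : yb ^ 5 = 1 := by
    have := pow_orderOf_eq_one yb
    rwa [orderOf_mk_qY] at this
  have hxy2 : (xb * yb) ^ 2 = 1 := mk_pow_two_of_tr (tr_qX_mul_qY h hφ h2)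
  have hgen : closure ({⟨xb, hxS⟩, ⟨yb, hyS⟩} : Set S) = ⊤ := by
    have := Subgroup.closure_closure_coe_preimage (k := ({xb, yb} : Set _))
    convert this using 2
    ext ⟨w, hw⟩
    simp [Subtype.ext_iff]
  exact (Cfsg.Agent.S3377.card_le (P := S) ⟨xb, hxS⟩ ⟨yb, hyS⟩ hgen
    (Subtype.ext hx3) (Subtype.ext hy5) (Subtype.ext hxy2)).2

end golden

end Cfsg.Agent.Lib.Helper7.PMax
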