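import Mathlib

set_option autoImplicit false
set_option linter.unusedSimpArgs false
set_option linter.unusedSectionVars false
set_option linter.unusedVariables false

/-! Finite field facts: the golden ratio, fixed fields of Frobenius powers. -/

namespace Cfsg.Agent.Lib.Helper7.PMax

variable {F : Type*} [Field F]

theorem exists_uv (p : ℕ) [Fact p.Prime] [CharP F p] : ∃ u v : F, u ^ 2 + v ^ 2 = -1 := by
  obtain ⟨a, b, hab⟩ := CharP.sq_add_sq F p (-1)
  exact ⟨a, b, by simpa using hab⟩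

local instance fact_five : Fact (Nat.Prime 5) := ⟨by norm_num⟩

theorem exists_phi [Fintype F] (h2 : (2 : F) ≠ 0)
    (hq : Fintype.card F % 10 = 1 ∨ Fintype.card F % 10 = 9) : ∃ φ : F, φ ^ 2 = φ + 1 := by
  have hF : ringChar F ≠ 2 := by
    intro h
    apply h2
    have := ringChar.Nat.cast_ringChar (R := F)
    rw [h] at this
    exact_mod_cast this
  have h5 : IsSquare ((5 : ℕ) : F) := by
    rw [FiniteField.isSquare_odd_prime_iff hF (by norm_num), Ne,
      quadraticChar_neg_one_iff_not_isSquare, not_not]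
    set q := Fintype.card F with hqdef
    have hq5 : ((q : ℕ) : ZMod 5) = 1 ∨ ((q : ℕ) : ZMod 5) = -1 := by
      rcases hq with h | h
      · left
        have : ((q : ℕ) : ZMod 5) = ((1 : ℕ) : ZMod 5) := by
          rw [ZMod.natCast_eq_natCast_iff']; omega
        simpa using this
      · right
        have : ((q : ℕ) : ZMod 5) = ((4 : ℕ) : ZMod 5) := by
          rw [ZMod.natCast_eq_natCast_iff']; omega
        rw [this]; decide
    have hχ : ZMod.χ₄ (q : ZMod 4) = 1 ∨ ZMod.χ₄ (q : ZMod 4) = -1 := by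
      have : q % 4 = 1 ∨ q % 4 = 3 := by omega
      rcases this with h | h
      · left; exact ZMod.χ₄_nat_one_mod_four h
      · right; exact ZMod.χ₄_nat_three_mod_four h
    rcases hχ with h1 | h1 <;> rcases hq5 with h3 | h3 <;> rw [h1, h3]
    · exact ⟨1, by decide⟩
    · exact ⟨2, by decide⟩
    · exact ⟨2, by decide⟩
    · exact ⟨1, by decide⟩
  obtain ⟨s, hs⟩ := h5
  refine ⟨(1 + s) / 2, ?_⟩
  have hs' : s * s = 5 := by rw [← hs]; norm_num
  field_simp
  linear_combination hs'

/-- the fixed field of the `k`-th power of Frobenius -/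
def frobFix (F : Type*) [Field F] (p : ℕ) [Fact p.Prime] [CharP F p] (k : ℕ) : Subfield F :=
  (iterateFrobenius F p k).eqLocusField (RingHom.id F)

theorem mem_frobFix (p : ℕ) [Fact p.Prime] [CharP F p] (k : ℕ) (x : F) :
    x ∈ frobFix F p k ↔ x ^ p ^ k = x := by
  show iterateFrobenius F p k x = RingHom.id F x ↔ _
  rw [iterateFrobenius_def, RingHom.id_apply]

theorem card_le_of_frobFix [Fintype F] (p : ℕ) [Fact p.Prime] [CharP F p] {k : ℕ} (hk0 : k ≠ 0)
    (h : frobFix F p k = ⊤) : Fintype.card F ≤ p ^ k := by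
  classical
  obtain ⟨g, hg⟩ := IsCyclic.exists_generator (α := Fˣ)
  have ho : orderOf g = Fintype.card F - 1 := by
    rw [orderOf_eq_card_of_forall_mem_zpowers hg, Nat.card_eq_fintype_card, Fintype.card_units]
  have h1 : (g : F) ^ p ^ k = g := (mem_frobFix p k _).1 (by rw [h]; trivial)
  have hpk : 1 ≤ p ^ k := Nat.one_le_pow _ _ (Fact.out : p.Prime).pos
  have h2 : g ^ (p ^ k - 1) = 1 := by
    apply Units.ext
    have h3 : (g : F) ^ (p ^ k - 1) * g = 1 * g := by
      rw [← pow_succ, Nat.sub_add_cancel hpk, h1, one_mul]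
    simpa using mul_right_cancel₀ g.ne_zero h3
  have h3 := orderOf_dvd_of_pow_eq_one h2
  rw [ho] at h3
  have hq : 2 ≤ Fintype.card F := Fintype.one_lt_card
  have h0 := Nat.one_lt_pow hk0 (Fact.out : p.Prime).one_lt
  have := Nat.le_of_dvd (by omega) h3
  omega

theorem card_eq_of_frobFix_one [Fintype F] (p : ℕ) [Fact p.Prime] [CharP F p]
    (h : frobFix F p 1 = ⊤) : Fintype.card F = p := by
  have h1 := card_le_of_frobFix p one_ne_zero h
  obtain ⟨n, hp, hn⟩ := FiniteField.card F p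
  rw [hn] at h1 ⊢
  have h2 := (Nat.pow_le_pow_iff_right hp.one_lt).1 h1
  have h3 : (n : ℕ) = 1 := by have := n.pos; omega
  rw [h3, pow_one]

theorem card_eq_of_frobFix_two [Fintype F] (p : ℕ) [Fact p.Prime] [CharP F p]
    (h : frobFix F p 2 = ⊤) : Fintype.card F = p ∨ Fintype.card F = p ^ 2 := by
  have h1 := card_le_of_frobFix p two_ne_zero h
  obtain ⟨n, hp, hn⟩ := FiniteField.card F p
  rw [hn] at h1 ⊢
  have h2 := (Nat.pow_le_pow_iff_right hp.one_lt).1 h1
  have h3 : (n : ℕ) = 1 ∨ (n : ℕ) = 2 := by have := n.pos; omega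
  rcases h3 with h3 | h3 <;> rw [h3]
  · left; rw [pow_one]
  · right; rfl

theorem golden_frobFix_two (p : ℕ) [Fact p.Prime] [CharP F p] {t : F} (ht : t ^ 2 = t + 1) :
    t ∈ frobFix F p 2 := by
  rw [mem_frobFix, pow_two, pow_mul]
  have hs : (t ^ p) ^ 2 = t ^ p + 1 := by
    rw [← pow_mul, mul_comm, pow_mul, ht, add_pow_char, one_pow]
  have h0 : (t ^ p - t) * (t ^ p + t - 1) = 0 := by linear_combination hs - ht
  rcases mul_eq_zero.1 h0 with h | h
  · rw [sub_eq_zero.1 h, sub_eq_zero.1 h]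
  · have h1 : t ^ p = 1 - t := by linear_combination h
    rw [h1, sub_pow_char, one_pow, h1]
    ring

theorem golden_frobFix_one (p : ℕ) [Fact p.Prime] [CharP F p] (hp : p % 10 = 1 ∨ p % 10 = 9)
    {t : F} (ht : t ^ 2 = t + 1) : t ∈ frobFix F p 1 := by
  have h2 : (2 : ZMod p) ≠ 0 := by
    intro h
    have h3 : ((2 : ℕ) : ZMod p) = 0 := by exact_mod_cast h
    rw [ZMod.natCast_eq_zero_iff] at h3
    have h4 := Nat.le_of_dvd (by norm_num) h3
    have h5 := (Fact.out : p.Prime).two_le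
    omega
  obtain ⟨φ₀, hφ₀⟩ := exists_phi (F := ZMod p) h2 (by rw [ZMod.card]; exact hp)
  set φ : F := ZMod.castHom (dvd_refl p) F φ₀ with hφdef
  have hφ : φ ^ 2 = φ + 1 := by
    rw [hφdef, ← map_pow, hφ₀, map_add, map_one]
  have hφm : φ ∈ frobFix F p 1 := by
    rw [mem_frobFix, pow_one, hφdef, ← map_pow, ZMod.pow_card]
  have h0 : (t - φ) * (t + φ - 1) = 0 := by linear_combination ht - hφ
  rcases mul_eq_zero.1 h0 with h | h
  · rw [sub_eq_zero.1 h]; exact hφm
  · have h1 : t = 1 - φ := by linear_combination h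
    rw [h1]
    exact (frobFix F p 1).sub_mem (frobFix F p 1).one_mem hφm

theorem golden_of_five (K : Subfield F) (h5 : (5 : F) = 0) {t : F} (ht : t ^ 2 = t + 1) :
    t ∈ K := by
  have h0 : (t - 3) ^ 2 = 0 := by linear_combination ht + (2 - t) * h5
  have h1 : t = 3 := by
    have := pow_eq_zero_iff (two_ne_zero) |>.1 h0
    linear_combination this
  rw [h1]
  exact_mod_cast natCast_mem K 3

/-- a root of `t⁴ - 3 t² + 1` is, up to sign, a golden ratio -/
theorem golden_cases {t : F} (ht : t ^ 4 - 3 * t ^ 2 + 1 = 0) :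
    t ^ 2 = t + 1 ∨ (-t) ^ 2 = -t + 1 := by
  have h0 : (t ^ 2 - t - 1) * (t ^ 2 + t - 1) = 0 := by linear_combination ht
  rcases mul_eq_zero.1 h0 with h | h
  · left; linear_combination h
  · right; linear_combination h

end Cfsg.Agent.Lib.Helper7.PMax
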