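import Mathlib

set_option autoImplicit false

/-! Small facts on `A₄`, `S₄`, `A₅` and small dihedral groups, by enumeration. -/

namespace Cfsg.Agent.Lib.Helper7.PMax

open Equiv Equiv.Perm

/-- a double transposition -/
def a4α : alternatingGroup (Fin 4) := ⟨swap 0 1 * swap 2 3, mem_alternatingGroup.2 (by decide)⟩
/-- a double transposition -/
def a4β : alternatingGroup (Fin 4) := ⟨swap 0 2 * swap 1 3, mem_alternatingGroup.2 (by decide)⟩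

theorem a4_facts : a4α ≠ 1 ∧ a4β ≠ 1 ∧ a4α ≠ a4β ∧ a4α ^ 2 = 1 ∧ a4β ^ 2 = 1 ∧
    a4α * a4β = a4β * a4α := by decide +kernel

theorem a4_norm : ∀ x : alternatingGroup (Fin 4),
    (x * a4α * x⁻¹ = a4α ∨ x * a4α * x⁻¹ = a4β ∨ x * a4α * x⁻¹ = a4α * a4β) ∧
    (x * a4β * x⁻¹ = a4α ∨ x * a4β * x⁻¹ = a4β ∨ x * a4β * x⁻¹ = a4α * a4β) := by
  decide +kernel

theorem a4_orders : ∀ σ : alternatingGroup (Fin 4), σ ^ 2 = 1 ∨ σ ^ 3 = 1 := by decide +kernel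

theorem a4_no4 : ∀ σ : alternatingGroup (Fin 4), σ ^ 4 = 1 → σ ^ 2 = 1 := by decide +kernel

theorem a4_card : Nat.card (alternatingGroup (Fin 4)) = 12 := by
  rw [Nat.card_eq_fintype_card]; decide +kernel

/-- a double transposition -/
def s4α : Perm (Fin 4) := swap 0 1 * swap 2 3
/-- a double transposition -/
def s4β : Perm (Fin 4) := swap 0 2 * swap 1 3
/-- a four-cycle -/
def s4γ : Perm (Fin 4) := swap 0 1 * swap 1 2 * swap 2 3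

theorem s4_facts : s4α ≠ 1 ∧ s4β ≠ 1 ∧ s4α ≠ s4β ∧ s4α ^ 2 = 1 ∧ s4β ^ 2 = 1 ∧
    s4α * s4β = s4β * s4α := by decide +kernel

theorem s4_norm : ∀ x : Perm (Fin 4),
    (x * s4α * x⁻¹ = s4α ∨ x * s4α * x⁻¹ = s4β ∨ x * s4α * x⁻¹ = s4α * s4β) ∧
    (x * s4β * x⁻¹ = s4α ∨ x * s4β * x⁻¹ = s4β ∨ x * s4β * x⁻¹ = s4α * s4β) := by
  decide +kernel

theorem s4_orders : ∀ σ : Perm (Fin 4), sign σ = 1 → σ ^ 2 = 1 ∨ σ ^ 3 = 1 := by decide +kernel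

theorem s4_sign : sign s4α = 1 ∧ sign s4β = 1 := by decide +kernel

theorem s4_four : s4γ ^ 4 = 1 ∧ s4γ ^ 2 ≠ 1 := by decide +kernel

/-- a double transposition -/
def a5α : alternatingGroup (Fin 5) := ⟨swap 0 1 * swap 2 3, mem_alternatingGroup.2 (by decide)⟩
/-- a double transposition -/
def a5β : alternatingGroup (Fin 5) := ⟨swap 0 2 * swap 1 3, mem_alternatingGroup.2 (by decide)⟩

theorem a5_facts : a5α ≠ 1 ∧ a5β ≠ 1 ∧ a5α ≠ a5β ∧ a5α ^ 2 = 1 ∧ a5β ^ 2 = 1 ∧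
    a5α * a5β = a5β * a5α := by decide +kernel

theorem a5_orders : ∀ σ : alternatingGroup (Fin 5), σ ^ 2 = 1 ∨ σ ^ 3 = 1 ∨ σ ^ 5 = 1 := by
  decide +kernel

theorem a5_card : Nat.card (alternatingGroup (Fin 5)) = 60 := by
  rw [Nat.card_eq_fintype_card]; decide +kernel

open DihedralGroup

theorem d2_facts : (r 1 : DihedralGroup 2) ≠ 1 ∧ (sr 0 : DihedralGroup 2) ≠ 1 ∧
    (r 1 : DihedralGroup 2) ≠ sr 0 ∧ (r 1 : DihedralGroup 2) ^ 2 = 1 ∧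
    (sr 0 : DihedralGroup 2) ^ 2 = 1 ∧ (r 1 : DihedralGroup 2) * sr 0 = sr 0 * r 1 := by
  decide +kernel

theorem d2_norm : ∀ x : DihedralGroup 2,
    (x * r 1 * x⁻¹ = r 1 ∨ x * r 1 * x⁻¹ = sr 0 ∨ x * r 1 * x⁻¹ = r 1 * sr 0) ∧
    (x * sr 0 * x⁻¹ = r 1 ∨ x * sr 0 * x⁻¹ = sr 0 ∨ x * sr 0 * x⁻¹ = r 1 * sr 0) := by
  decide +kernel

theorem d4_facts : (r 2 : DihedralGroup 4) ≠ 1 ∧ (sr 0 : DihedralGroup 4) ≠ 1 ∧
    (r 2 : DihedralGroup 4) ≠ sr 0 ∧ (r 2 : DihedralGroup 4) ^ 2 = 1 ∧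
    (sr 0 : DihedralGroup 4) ^ 2 = 1 ∧ (r 2 : DihedralGroup 4) * sr 0 = sr 0 * r 2 := by
  decide +kernel

theorem d4_norm : ∀ x : DihedralGroup 4,
    (x * r 2 * x⁻¹ = r 2 ∨ x * r 2 * x⁻¹ = sr 0 ∨ x * r 2 * x⁻¹ = r 2 * sr 0) ∧
    (x * sr 0 * x⁻¹ = r 2 ∨ x * sr 0 * x⁻¹ = sr 0 ∨ x * sr 0 * x⁻¹ = r 2 * sr 0) := by
  decide +kernel

end Cfsg.Agent.Lib.Helper7.PMax
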