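import Mathlib
import Cfsg.Agent.Lib.Helper7.PSL2OddE
import Cfsg.Agent.Lib.Helper7.PSL2OddF
import Cfsg.Agent.Lib.Helper7.PermFacts

set_option autoImplicit false
set_option linter.unusedSimpArgs false
set_option linter.unusedSectionVars false
set_option linter.unusedVariables false

/-! The exceptional maximal subgroups of `PSL₂(q)`, `q` odd: arithmetic conditions. -/

namespace Cfsg.Agent.Lib.Helper7.PMax

open Matrix MatrixGroups Subgroup Cfsg.Agent.Lib.Helper46 Cfsg.Agent.Lib.Helper18.SL2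
open Cfsg.Agent.Lib.Helper7

variable {F : Type*} [Field F] [Fintype F]

local notation "mkP" => (QuotientGroup.mk : SpecialLinearGroup (Fin 2) F →
  ProjectiveSpecialLinearGroup (Fin 2) F)

theorem psl_simple (hq : 5 ≤ Fintype.card F) :
    IsSimpleGroup (ProjectiveSpecialLinearGroup (Fin 2) F) :=
  Matrix.ProjectiveSpecialLinearGroup.rank_two_simple (by rw [Nat.card_eq_fintype_card]; omega)

theorem two_mul_card_PSL (h2 : (2 : F) ≠ 0) :
    2 * Nat.card (ProjectiveSpecialLinearGroup (Fin 2) F) =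
      Fintype.card F * (Fintype.card F ^ 2 - 1) := by
  rw [← card_PSL, zc_of_two_ne h2]

theorem card_PSL_gt (h2 : (2 : F) ≠ 0) (hq : 9 ≤ Fintype.card F) :
    60 < Nat.card (ProjectiveSpecialLinearGroup (Fin 2) F) := by
  have h1 := two_mul_card_PSL h2
  have h3 : 80 ≤ Fintype.card F ^ 2 - 1 := by
    have : 81 ≤ Fintype.card F ^ 2 := by nlinarith
    omega
  have h4 : 9 * 80 ≤ Fintype.card F * (Fintype.card F ^ 2 - 1) := Nat.mul_le_mul hq h3
  omega

theorem no_A4_of_phi (h2 : (2 : F) ≠ 0) (hq : 9 ≤ Fintype.card F)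
    {M : Subgroup (ProjectiveSpecialLinearGroup (Fin 2) F)} (hM : IsCoatom M)
    (hcard : Nat.card M = 12) {u v : F} (h : u ^ 2 + v ^ 2 = -1) {φ : F} (hφ : φ ^ 2 = φ + 1)
    (hI : mkP (qI h) ∈ M) (hJ : mkP (qJ h) ∈ M) (hX : mkP (qX h h2) ∈ M) : False := by
  set H := icoH h hφ h2 with hH
  have h4 : 4 ∣ Nat.card (M ⊓ H : Subgroup _) :=
    four_dvd_card (A := mkP (qI h)) (B := mkP (qJ h)) ⟨hI, qI_mem_icoH h hφ h2⟩
      ⟨hJ, qJ_mem_icoH h hφ h2⟩ (mk_qI_ne_one h h2) (mk_qJ_ne_one h h2) (mk_qI_ne_qJ h h2)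
      (mk_qI_sq h) (mk_qJ_sq h) (mk_qI_comm_qJ h)
  have h3 : 3 ∣ Nat.card (M ⊓ H : Subgroup _) := by
    rw [← orderOf_mk_qX h h2]
    exact orderOf_dvd_card_of_mem ⟨hX, qX_mem_icoH h hφ h2⟩
  have h12 : 12 ∣ Nat.card (M ⊓ H : Subgroup _) :=
    (show Nat.Coprime 4 3 by norm_num).mul_dvd_of_dvd_of_dvd h4 h3
  have hle : Nat.card M ≤ Nat.card (M ⊓ H : Subgroup _) := by
    rw [hcard]; exact Nat.le_of_dvd Nat.card_pos h12
  have heq : M ⊓ H = M := Subgroup.eq_of_le_of_card_ge inf_le_left hle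
  have hMH : M ≤ H := by rw [← heq]; exact inf_le_right
  have hHt : H ≠ ⊤ := by
    intro ht
    have h1 := card_icoH_le h hφ h2
    rw [← hH, ht, Subgroup.card_top] at h1
    have := card_PSL_gt h2 hq
    omega
  have hHM : H = M := by
    by_contra hne
    exact hHt (hM.2 _ (lt_of_le_of_ne hMH (Ne.symm hne)))
  have h5 : 5 ∣ Nat.card M := by
    rw [← orderOf_mk_qY h hφ h2, ← hHM]
    exact orderOf_dvd_card_of_mem (qY_mem_icoH h hφ h2)
  rw [hcard] at h5
  omega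

theorem case_A4 (p : ℕ) [Fact p.Prime] [CharP F p] (h2 : (2 : F) ≠ 0) (hq : 5 ≤ Fintype.card F)
    {M : Subgroup (ProjectiveSpecialLinearGroup (Fin 2) F)} (hM : IsCoatom M)
    (e : M ≃* alternatingGroup (Fin 4)) :
    GoalS F M ∨ (Fintype.card F = p ∧ (p % 8 = 3 ∨ p % 8 = 5) ∧ ¬ (p % 10 = 1 ∨ p % 10 = 9)) := by
  haveI := psl_simple hq
  obtain ⟨f1, f2, f3, f4, f5, f6⟩ := a4_facts
  obtain ⟨M', e', u, v, h, hM', hA, hB⟩ := std_frame h2 hM e f1 f2 f3 f4 f5 f6
  obtain ⟨D, hD⟩ := sub_of_iso p h2 ⊥ e' ⊤ (mem_top _) (mem_top _) h hA hB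
    (fun _ _ _ _ _ => mem_top _) (fun g hg _ => tr_mem_of_pow ⊥ (by
      rcases a4_orders (e' ⟨mkP g, hg⟩) with h | h
      · exact Or.inl ((pow_of_iso e' hg).1 h)
      · exact Or.inr ((pow_of_iso e' hg).1 h)))
  by_cases hbt : (⊥ : Subfield F) = ⊤
  swap
  · left; exact GoalS.congr (e.trans e'.symm) (sub_case_of_le h2 hM' hbt D hD)
  right
  have hqp := card_eq_of_bot_eq_top p hbt
  have hodd := odd_card_of_two_ne h2
  have hI : mkP (qI h) ∈ M' := hA ▸ (e'.symm a4α).2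
  have hJ : mkP (qJ h) ∈ M' := hB ▸ (e'.symm a4β).2
  have hX : mkP (qX h h2) ∈ M' := mem_of_normalizes hM' e' f1 a4_norm hA hB
    (by rw [qX_conj_qI]; exact qJ_mem_V h) (by rw [qX_conj_qJ]; exact qK_mem_V h)
  refine ⟨hqp, ?_, ?_⟩
  · by_contra hcon
    have hsq : IsSquare (2 : F) := FiniteField.isSquare_two_iff.2 (by rw [hqp]; omega)
    obtain ⟨s, hs⟩ := hsq
    have hs' : s ^ 2 = 2 := by rw [sq, ← hs]
    have hG : mkP (qG h hs' h2) ∈ M' := mem_of_normalizes hM' e' f1 a4_norm hA hB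
      (by rw [qG_conj_qI]; exact qI_mem_V h) (by rw [qG_conj_qJ]; exact qK_mem_V h)
    have h4 : mkP (qG h hs' h2) ^ 4 = 1 := by
      rw [show 4 = 2 * 2 from rfl, pow_mul, mk_qG_sq, mk_qI_sq]
    have := a4_no4 (e' ⟨_, hG⟩) ((pow_of_iso e' hG).2 h4)
    rw [pow_of_iso, mk_qG_sq] at this
    exact mk_qI_ne_one h h2 this
  · intro hp10
    obtain ⟨φ, hφ⟩ := exists_phi h2 (by rw [hqp]; exact hp10)
    refine no_A4_of_phi h2 (by omega) hM' ?_ h hφ hI hJ hX
    rw [Nat.card_congr e'.toEquiv, a4_card]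

theorem case_S4 (p : ℕ) [Fact p.Prime] [CharP F p] (h2 : (2 : F) ≠ 0) (hq : 5 ≤ Fintype.card F)
    {M : Subgroup (ProjectiveSpecialLinearGroup (Fin 2) F)} (hM : IsCoatom M)
    (e : M ≃* Equiv.Perm (Fin 4)) :
    GoalS F M ∨ (Fintype.card F = p ∧ (p % 8 = 1 ∨ p % 8 = 7)) := by
  obtain ⟨f1, f2, f3, f4, f5, f6⟩ := s4_facts
  obtain ⟨M', e', u, v, h, hM', hA, hB⟩ := std_frame h2 hM e f1 f2 f3 f4 f5 f6
  obtain ⟨D, hD⟩ := sub_of_iso p h2 ⊥ e' (alternatingGroup (Fin 4))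
    (Equiv.Perm.mem_alternatingGroup.2 s4_sign.1) (Equiv.Perm.mem_alternatingGroup.2 s4_sign.2)
    h hA hB
    (fun x y hy z hz => by
      rw [Equiv.Perm.mem_alternatingGroup] at hy hz ⊢
      simp only [Equiv.Perm.sign_mul, hy, hz, mul_one, Int.units_mul_self])
    (fun g hg hY => tr_mem_of_pow ⊥ (by
      rcases s4_orders (e' ⟨mkP g, hg⟩) (Equiv.Perm.mem_alternatingGroup.1 hY) with h | h
      · exact Or.inl ((pow_of_iso e' hg).1 h)
      · exact Or.inr ((pow_of_iso e' hg).1 h)))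
  by_cases hbt : (⊥ : Subfield F) = ⊤
  swap
  · left; exact GoalS.congr (e.trans e'.symm) (sub_case_of_le h2 hM' hbt D hD)
  right
  have hqp := card_eq_of_bot_eq_top p hbt
  have hodd := Nat.odd_iff.1 (odd_card_of_two_ne h2)
  refine ⟨hqp, ?_⟩
  obtain ⟨g, hg⟩ := QuotientGroup.mk_surjective
    ((e'.symm s4γ : M') : ProjectiveSpecialLinearGroup (Fin 2) F)
  have hgM : mkP g ∈ M' := by
    have : mkP g = _ := hg
    rw [this]; exact (e'.symm s4γ).2
  have he : e' ⟨mkP g, hgM⟩ = s4γ := by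
    have : (⟨mkP g, hgM⟩ : M') = e'.symm s4γ := Subtype.ext hg
    rw [this, MulEquiv.apply_symm_apply]
  have h4 : mkP g ^ 4 = 1 := (pow_of_iso e' hgM).1 (by rw [he]; exact s4_four.1)
  have h4' : mkP g ^ 2 ≠ 1 := fun hc => s4_four.2 (by rw [← he]; exact (pow_of_iso e' hgM).2 hc)
  have ht := tr_of_order4 h4' h4
  have hsq : IsSquare (2 : F) := ⟨tr g, by rw [← sq, ht]⟩
  have := FiniteField.isSquare_two_iff.1 hsq
  rw [hqp] at this hodd
  omega

theorem char_ne_two (p : ℕ) [CharP F p] (h2 : (2 : F) ≠ 0) : p ≠ 2 := by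
  rintro rfl
  apply h2
  exact_mod_cast CharP.cast_eq_zero F 2

theorem case_A5 (p : ℕ) [Fact p.Prime] [CharP F p] (h2 : (2 : F) ≠ 0) (hq : 5 ≤ Fintype.card F)
    {M : Subgroup (ProjectiveSpecialLinearGroup (Fin 2) F)} (hM : IsCoatom M)
    (e : M ≃* alternatingGroup (Fin 5)) :
    GoalS F M ∨ ((Fintype.card F % 10 = 1 ∨ Fintype.card F % 10 = 9) ∧
        (Fintype.card F = p ∨ (Fintype.card F = p ^ 2 ∧ (p % 10 = 3 ∨ p % 10 = 7)))) := by
  have hp : p.Prime := Fact.out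
  obtain ⟨f1, f2, f3, f4, f5, f6⟩ := a5_facts
  obtain ⟨M', e', u, v, h, hM', hA, hB⟩ := std_frame h2 hM e f1 f2 f3 f4 f5 f6
  have hcardM' : Nat.card M' = 60 := by rw [Nat.card_congr e'.toEquiv, a5_card]
  have htrK : ∀ K : Subfield F, (∀ t : F, t ^ 2 = t + 1 → t ∈ K) →
      ∀ (g : SpecialLinearGroup (Fin 2) F) (hg : mkP g ∈ M'), tr g ∈ K := by
    intro K hK g hg
    rcases a5_orders (e' ⟨mkP g, hg⟩) with h | h | h
    · exact tr_mem_of_pow K (Or.inl ((pow_of_iso e' hg).1 h))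
    · exact tr_mem_of_pow K (Or.inr ((pow_of_iso e' hg).1 h))
    · by_cases h1 : mkP g = 1
      · exact tr_mem_of_center K ((QuotientGroup.eq_one_iff g).1 h1)
      · rcases golden_cases (tr_of_order5 h1 ((pow_of_iso e' hg).1 h)) with h3 | h3
        · exact hK _ h3
        · have := K.neg_mem (hK _ h3)
          rwa [neg_neg] at this
  have hsub : ∀ K : Subfield F, (∀ t : F, t ^ 2 = t + 1 → t ∈ K) → K ≠ ⊤ → GoalS F M := by
    intro K hK hKt
    obtain ⟨D, hD⟩ := sub_of_iso p h2 K e' ⊤ (mem_top _) (mem_top _) h hA hB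
      (fun _ _ _ _ _ => mem_top _) (fun g hg _ => htrK K hK g hg)
    exact GoalS.congr (e.trans e'.symm) (sub_case_of_le h2 hM' hKt D hD)
  have hodd := Nat.odd_iff.1 (odd_card_of_two_ne h2)
  by_cases hP : ∀ t : F, t ^ 2 = t + 1 → t ∈ frobFix F p 1
  · by_cases hKt : frobFix F p 1 = ⊤
    swap
    · left; exact hsub _ hP hKt
    right
    have hqp := card_eq_of_frobFix_one p hKt
    refine ⟨?_, Or.inl hqp⟩
    have h60 : 60 ∣ Nat.card (ProjectiveSpecialLinearGroup (Fin 2) F) := by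
      rw [← hcardM']; exact Subgroup.card_subgroup_dvd_card M'
    have hG := two_mul_card_PSL h2
    set q := Fintype.card F with hqdef
    have hq5 : q ≠ 5 := by
      intro h5
      rw [h5] at hG
      apply hM'.1
      apply Subgroup.eq_top_of_card_eq
      rw [hcardM']
      omega
    have h5 : q % 5 ≠ 0 := by
      intro h0
      have h5p : 5 ∣ p := by rw [← hqp]; exact Nat.dvd_of_mod_eq_zero h0
      have := (Nat.prime_dvd_prime_iff_eq (by norm_num) hp).1 h5p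
      omega
    obtain ⟨c, hc⟩ := h60
    have hq1 : 1 ≤ q ^ 2 := Nat.one_le_pow _ _ (by omega)
    have h3 : q ^ 3 = q + 5 * (24 * c) := by
      have : q * (q ^ 2 - 1) + q = q ^ 3 := by
        obtain ⟨k, hk⟩ : ∃ k, q ^ 2 = k + 1 := ⟨q ^ 2 - 1, by omega⟩
        rw [hk, Nat.add_sub_cancel]
        calc q * k + q = q * (k + 1) := by ring
          _ = q * q ^ 2 := by rw [hk]
          _ = q ^ 3 := by ring
      rw [← this, ← hG, hc]; ring
    have h4 : q ^ 3 % 5 = q % 5 := by rw [h3]; omega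
    rw [Nat.pow_mod] at h4
    have h6 : q % 5 < 5 := Nat.mod_lt _ (by norm_num)
    have h7 : q % 5 = 1 ∨ q % 5 = 4 := by
      revert h4 h5
      generalize q % 5 = r at h6
      interval_cases r <;> simp
    omega
  · push Not at hP
    obtain ⟨t, ht, htn⟩ := hP
    by_cases hKt : frobFix F p 2 = ⊤
    swap
    · left; exact hsub _ (fun t ht => golden_frobFix_two p ht) hKt
    right
    have hqp : Fintype.card F = p ^ 2 := by
      rcases card_eq_of_frobFix_two p hKt with h1 | h1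
      · exfalso
        apply htn
        rw [mem_frobFix, pow_one, ← h1]
        exact FiniteField.pow_card t
      · exact h1
    have hp2 := char_ne_two (F := F) p h2
    have hp5 : p ≠ 5 := by
      rintro rfl
      exact htn (golden_of_five _ (by exact_mod_cast CharP.cast_eq_zero F 5) ht)
    have hp19 : ¬ (p % 10 = 1 ∨ p % 10 = 9) := fun hc => htn (golden_frobFix_one p hc ht)
    have hpodd : p % 2 = 1 := by
      rcases hp.eq_two_or_odd with h | h
      · exact absurd h hp2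
      · exact h
    have hp5' : p % 5 ≠ 0 := by
      intro h0
      exact hp5 ((Nat.prime_dvd_prime_iff_eq (by norm_num) hp).1 (Nat.dvd_of_mod_eq_zero h0)).symm
    have hp37 : p % 10 = 3 ∨ p % 10 = 7 := by omega
    refine ⟨Or.inr ?_, Or.inr ⟨hqp, hp37⟩⟩
    rw [hqp, Nat.pow_mod]
    rcases hp37 with h | h <;> rw [h]

end Cfsg.Agent.Lib.Helper7.PMax
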