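import Mathlib
import Cfsg.Agent.Lib.Helper7.PSL2OddG

set_option autoImplicit false
set_option linter.unusedSimpArgs false
set_option linter.unusedSectionVars false
set_option linter.unusedVariables false

/-! Small dihedral subgroups of `PSL₂(q)` which are not maximal. -/

namespace Cfsg.Agent.Lib.Helper7.PMax

open Matrix MatrixGroups Subgroup Cfsg.Agent.Lib.Helper46 Cfsg.Agent.Lib.Helper18.SL2
open Cfsg.Agent.Lib.Helper7

variable {F : Type*} [Field F] [Fintype F]

local notation "mkP" => (QuotientGroup.mk : SpecialLinearGroup (Fin 2) F →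
  ProjectiveSpecialLinearGroup (Fin 2) F)

theorem three_dvd_of_klein (h2 : (2 : F) ≠ 0) (hq : 5 ≤ Fintype.card F)
    {M : Subgroup (ProjectiveSpecialLinearGroup (Fin 2) F)} (hM : IsCoatom M)
    {X : Type*} [Group X] (e : M ≃* X) {α β : X}
    (hf : α ≠ 1 ∧ β ≠ 1 ∧ α ≠ β ∧ α ^ 2 = 1 ∧ β ^ 2 = 1 ∧ α * β = β * α)
    (hn : ∀ x : X, (x * α * x⁻¹ = α ∨ x * α * x⁻¹ = β ∨ x * α * x⁻¹ = α * β) ∧
      (x * β * x⁻¹ = α ∨ x * β * x⁻¹ = β ∨ x * β * x⁻¹ = α * β)) : 3 ∣ Nat.card X := by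
  haveI := psl_simple hq
  obtain ⟨f1, f2, f3, f4, f5, f6⟩ := hf
  obtain ⟨M', e', u, v, h, hM', hA, hB⟩ := std_frame h2 hM e f1 f2 f3 f4 f5 f6
  have hX : mkP (qX h h2) ∈ M' := mem_of_normalizes hM' e' f1 hn hA hB
    (by rw [qX_conj_qI]; exact qJ_mem_V h) (by rw [qX_conj_qJ]; exact qK_mem_V h)
  rw [← Nat.card_congr e'.toEquiv, ← orderOf_mk_qX h h2]
  exact orderOf_dvd_card_of_mem hX

theorem no_dih2 (h2 : (2 : F) ≠ 0) (hq : 5 ≤ Fintype.card F)
    {M : Subgroup (ProjectiveSpecialLinearGroup (Fin 2) F)} (hM : IsCoatom M)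
    (e : M ≃* DihedralGroup 2) : False := by
  have := three_dvd_of_klein h2 hq hM e d2_facts d2_norm
  rw [DihedralGroup.nat_card] at this
  omega

theorem no_dih4 (h2 : (2 : F) ≠ 0) (hq : 5 ≤ Fintype.card F)
    {M : Subgroup (ProjectiveSpecialLinearGroup (Fin 2) F)} (hM : IsCoatom M)
    (e : M ≃* DihedralGroup 4) : False := by
  have := three_dvd_of_klein h2 hq hM e d4_facts d4_norm
  rw [DihedralGroup.nat_card] at this
  omega

theorem orderOf_mk_qK {u v : F} (h : u ^ 2 + v ^ 2 = -1) (h2 : (2 : F) ≠ 0) :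
    orderOf (mkP (qK h)) = 2 :=
  orderOf_eq_prime (mk_qK_sq h) (mk_qK_ne_one h h2)

theorem no_dih5 (p : ℕ) [Fact p.Prime] [CharP F p] (h2 : (2 : F) ≠ 0)
    (hq : Fintype.card F = 9 ∨ Fintype.card F = 11)
    {M : Subgroup (ProjectiveSpecialLinearGroup (Fin 2) F)} (hM : IsCoatom M)
    (e : M ≃* DihedralGroup 5) : False := by
  haveI := psl_simple (F := F) (by omega)
  haveI : Fact (Nat.Prime 5) := ⟨by norm_num⟩
  obtain ⟨u, v, h⟩ := exists_uv (F := F) p
  obtain ⟨φ, hφ⟩ := exists_phi h2 (by omega)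
  have hG := two_mul_card_PSL h2
  refine not_coatom_dih hM e ?_ (orderOf_mk_qY h hφ h2) (orderOf_mk_qK h h2) (by norm_num)
    (qK_conj_qY h hφ h2) (H := icoH h hφ h2) (qY_mem_icoH h hφ h2) (qK_mem_icoH h hφ h2) ?_ ?_
  · rcases hq with h9 | h9 <;> rw [h9] at hG <;> omega
  · intro ht
    have h1 := card_icoH_le h hφ h2
    rw [ht, Subgroup.card_top] at h1
    have := card_PSL_gt h2 (by omega)
    omega
  · intro hc
    have h3 : 3 ∣ Nat.card (icoH h hφ h2) := by
      rw [← orderOf_mk_qX h h2]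
      exact orderOf_dvd_card_of_mem (qX_mem_icoH h hφ h2)
    rw [hc] at h3
    omega

theorem no_dih3 (p : ℕ) [Fact p.Prime] [CharP F p] (h2 : (2 : F) ≠ 0)
    (hq : Fintype.card F = 7)
    {M : Subgroup (ProjectiveSpecialLinearGroup (Fin 2) F)} (hM : IsCoatom M)
    (e : M ≃* DihedralGroup 3) : False := by
  haveI := psl_simple (F := F) (by omega)
  haveI : Fact (Nat.Prime 3) := ⟨by norm_num⟩
  obtain ⟨u, v, h⟩ := exists_uv (F := F) p
  obtain ⟨s, hs⟩ : IsSquare (2 : F) := FiniteField.isSquare_two_iff.2 (by rw [hq]; omega)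
  have hs' : s ^ 2 = 2 := by rw [sq, ← hs]
  have hG := two_mul_card_PSL h2
  set V : Subgroup (ProjectiveSpecialLinearGroup (Fin 2) F) :=
    closure {mkP (qI h), mkP (qJ h)} with hV
  have hVb : V ≠ ⊥ := by
    intro hb
    have := qI_mem_V h
    rw [← hV, hb, mem_bot] at this
    exact mk_qI_ne_one h h2 this
  have hVt : V ≠ ⊤ := by
    intro ht
    have hle : V ≤ centralizer {mkP (qI h)} := by
      rw [hV, closure_le]
      rintro x (rfl | rfl)
      · exact mem_centralizer_singleton_iff.2 rfl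
      · exact mem_centralizer_singleton_iff.2 (mk_qI_comm_qJ h).symm
    have hx : mkP (qX h h2) ∈ centralizer {mkP (qI h)} := hle (by rw [ht]; trivial)
    rw [mem_centralizer_singleton_iff] at hx
    have h1 := qX_conj_qI h h2
    rw [hx, mul_inv_cancel_right] at h1
    exact mk_qI_ne_qJ h h2 h1
  refine not_coatom_dih hM e ?_ (orderOf_mk_qX h h2) (orderOf_mk_qT h hs' h2) (by norm_num)
    (qT_conj_qX h hs' h2) (H := normalizer (V : Set _)) ?_ ?_ (normalizer_ne_top hVb hVt) ?_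
  · rw [hq] at hG; omega
  · exact mem_normalizer_of_conj_le (conj_mem_closure_pair
      (by rw [qX_conj_qI]; exact qJ_mem_V h) (by rw [qX_conj_qJ]; exact qK_mem_V h))
  · exact mem_normalizer_of_conj_le (conj_mem_closure_pair
      (by rw [qT_conj_qI]; exact qJ_mem_V h) (by rw [qT_conj_qJ]; exact qI_mem_V h))
  · intro hc
    have h4 : 4 ∣ Nat.card (normalizer (V : Set (ProjectiveSpecialLinearGroup (Fin 2) F))) :=
      four_dvd_card (A := mkP (qI h)) (B := mkP (qJ h)) (le_normalizer (qI_mem_V h))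
        (le_normalizer (qJ_mem_V h)) (mk_qI_ne_one h h2) (mk_qJ_ne_one h h2) (mk_qI_ne_qJ h h2)
        (mk_qI_sq h) (mk_qJ_sq h) (mk_qI_comm_qJ h)
    rw [hc] at h4
    omega

end Cfsg.Agent.Lib.Helper7.PMax
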