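import Mathlib
import Cfsg.Agent.Lib.Helper7.PSL2Sub3

set_option autoImplicit false
set_option linter.unusedSimpArgs false
set_option linter.unusedSectionVars false
set_option linter.unusedVariables false

/-! Subfield subgroups of `PSL₂(F)` are maximal: final statements. -/

namespace Cfsg.Agent.Lib.Helper7.PSub

open Matrix MatrixGroups Subgroup Cfsg.Agent.Lib.Helper46 Cfsg.Agent.Lib.Helper18.SL2
open Cfsg.Agent.Lib.Helper7

variable {F K : Type*} [Field F] [Fintype F] [Field K] [Fintype K]

theorem two_ne_zero_of_odd_card (h : Odd (Fintype.card F)) : (2 : F) ≠ 0 := by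
  intro h2
  have hc : ringChar F = 2 := by
    have h3 : ((2 : ℕ) : F) = 0 := by exact_mod_cast h2
    have h4 : ringChar F ∣ 2 := (ringChar.spec F 2).1 h3
    rcases (Nat.dvd_prime Nat.prime_two).1 h4 with h5 | h5
    · exact absurd h5 (CharP.ringChar_ne_one)
    · exact h5
  have := FiniteField.even_card_of_char_two hc
  have := Nat.odd_iff.1 h
  omega

/-- even characteristic -/
theorem even_case (q r : ℕ) (hK : Fintype.card K = q) (hF : Fintype.card F = q ^ r) (hq : Even q)
    (hq2 : q ≠ 2) (hr : r.Prime) :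
    ∃ H : Subgroup (Matrix.ProjectiveSpecialLinearGroup (Fin 2) F), IsCoatom H ∧
      Nonempty (H ≃* Matrix.ProjectiveSpecialLinearGroup (Fin 2) K) := by
  obtain ⟨F₀, ⟨e⟩, hc⟩ := exists_subfield (F := F) (K := K) r (by rw [hF, hK])
  have hcard : Fintype.card F = Nat.card F₀ ^ r := by rw [hc, hK, hF]
  have hq1 : 1 < q := by rw [← hK]; exact Fintype.one_lt_card
  have h4 : 4 ≤ Nat.card F₀ := by
    rw [hc, hK]
    obtain ⟨m, hm⟩ := hq
    omega
  refine ⟨subH F₀, subH_isCoatom (SubF.subfield_dich F₀ hr hcard) (exists_not_mem hr.two_le hcard)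
    (fun G hle _ => normalized_of_four' G hle h4), ?_⟩
  have := Fintype.ofFinite F₀
  have hchar : ringChar F₀ = 2 := by
    rw [FiniteField.even_card_iff_char_two, ← Nat.card_eq_fintype_card, hc, hK]
    exact Nat.even_iff.1 hq
  obtain ⟨f⟩ := subH_equiv_psl (F₀ := F₀) (fun a _ => FiniteField.isSquare_of_char_two hchar a)
  exact ⟨f.trans (Cfsg.Agent.Lib.Helper6.pslEquiv e.symm)⟩

theorem nine_pow_mod {r : ℕ} (hr : Odd r) : 9 ^ r % 5 = 4 := by
  obtain ⟨m, rfl⟩ := hr
  rw [pow_succ, pow_mul, Nat.mul_mod, Nat.pow_mod]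
  norm_num

/-- odd characteristic, odd degree -/
theorem odd_case (q r : ℕ) (hK : Fintype.card K = q) (hF : Fintype.card F = q ^ r) (hq : Odd q)
    (hr : r.Prime) (hr2 : r ≠ 2) :
    ∃ H : Subgroup (Matrix.ProjectiveSpecialLinearGroup (Fin 2) F), IsCoatom H ∧
      Nonempty (H ≃* Matrix.ProjectiveSpecialLinearGroup (Fin 2) K) := by
  obtain ⟨F₀, ⟨e⟩, hc⟩ := exists_subfield (F := F) (K := K) r (by rw [hF, hK])
  have hcard : Fintype.card F = Nat.card F₀ ^ r := by rw [hc, hK, hF]
  have hq1 : 1 < q := by rw [← hK]; exact Fintype.one_lt_card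
  have hrodd : Odd r := hr.odd_of_ne_two hr2
  have hFodd : Odd (Fintype.card F) := by rw [hF]; exact hq.pow
  have h2 : (2 : F) ≠ 0 := two_ne_zero_of_odd_card hFodd
  have h3 : 3 ≤ Nat.card F₀ := by
    rw [hc, hK]
    obtain ⟨m, hm⟩ := hq
    omega
  refine ⟨subH F₀, subH_isCoatom (SubF.subfield_dich F₀ hr hcard) (exists_not_mem hr.two_le hcard)
    (fun G hle _ => ?_), ?_⟩
  · rcases normalized_or' G hle h3 with h | ⟨ha, hG⟩
    · exact h
    · exfalso
      have hq3 : q = 3 := by
        have := card_le_addOf hle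
        rw [hc, hK] at this h3
        omega
      have hdvd : Nat.card G ∣ Nat.card (SpecialLinearGroup (Fin 2) F) := Subgroup.card_subgroup_dvd_card G
      rw [hG, zc_of_two_ne h2, card_SL2, hF, hq3] at hdvd
      have h5 : 5 ∣ 3 ^ r * ((3 ^ r) ^ 2 - 1) := Dvd.dvd.trans ⟨24, by norm_num⟩ hdvd
      rcases (Nat.Prime.dvd_mul (by norm_num : Nat.Prime 5)).1 h5 with h6 | h6
      · have := (Nat.Prime.dvd_of_dvd_pow (by norm_num : Nat.Prime 5) h6)
        omega
      · have e9 : (3 ^ r) ^ 2 = 9 ^ r := by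
          rw [← pow_mul, mul_comm, pow_mul]; norm_num
        rw [e9] at h6
        have h7 := nine_pow_mod hrodd
        have h8 : 1 ≤ 9 ^ r := Nat.one_le_pow _ _ (by norm_num)
        omega
  · obtain ⟨f⟩ := subH_equiv_psl (F₀ := F₀) (isSquare_descend hrodd hcard h2)
    exact ⟨f.trans (Cfsg.Agent.Lib.Helper6.pslEquiv e.symm)⟩

/-- odd characteristic: normalised, or the exceptional situation in characteristic three -/
theorem normalized_or_old (p : ℕ) [Fact p.Prime] [CharP F p] (hp : p ≠ 2)
    (G : Subgroup (SpecialLinearGroup (Fin 2) F))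
    (hZ : center (SpecialLinearGroup (Fin 2) F) ≤ G) {a₀ b₀ : F} (ha₀ : a₀ ≠ 0) (hb₀ : b₀ ≠ 0)
    (hu : uu a₀ ∈ G) (hl : ll b₀ ∈ G) :
    Normalized G ∨ (p = 3 ∧ ∀ h ∈ G, tr h ^ 2 = 4 ∨ h ^ 4 = 1 ∨ h ^ 10 = 1) := by
  have h0 := zero_mem_ptsOf p G ha₀ hb₀ hu hl
  rcases main_analysis p hp G hZ ha₀ hb₀ hu hl with h | h
  · left
    refine ⟨⟨b₀, hb₀, hl⟩, fun g hg => ?_⟩
    by_cases g10 : g.1 1 0 = 0
    · left; exact g10
    · right
      have hm : g.1 0 0 / g.1 1 0 ∈ ptsOf G := ⟨g, hg, g10, by field_simp⟩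
      have := h _ hm _ h0
      rwa [sub_zero] at this
  · right; exact h

/-- odd characteristic, degree two -/
theorem sq_case (q : ℕ) (hK : Fintype.card K = q) (hF : Fintype.card F = q ^ 2) (hq : Odd q) :
    ∃ H : Subgroup (Matrix.ProjectiveSpecialLinearGroup (Fin 2) F), IsCoatom H ∧
      Nonempty (H ≃* Matrix.ProjGenLinGroup (Fin 2) K) := by
  obtain ⟨F₀, ⟨e⟩, hc⟩ := exists_subfield (F := F) (K := K) 2 (by rw [hF, hK])
  have hcard : Fintype.card F = Nat.card F₀ ^ 2 := by rw [hc, hK, hF]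
  have hFodd : Odd (Fintype.card F) := by rw [hF]; exact hq.pow
  have h2 : (2 : F) ≠ 0 := two_ne_zero_of_odd_card hFodd
  refine ⟨subH F₀, subH_isCoatom (SubF.subfield_dich F₀ Nat.prime_two hcard)
    (exists_not_mem (le_refl 2) hcard) (fun G hle _ => ?_), ?_⟩
  · obtain ⟨p, hp⟩ := CharP.exists F
    haveI : Fact p.Prime := ⟨CharP.char_is_prime F p⟩
    have hp2 : p ≠ 2 := by
      rintro rfl
      apply h2
      have := CharP.cast_eq_zero F 2
      exact_mod_cast this
    rcases normalized_or_old p hp2 G (center_le_subG.trans hle) one_ne_zero one_ne_zero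
      (hle (uu_mem_subG F₀.one_mem)) (hle (ll_mem_subG F₀.one_mem)) with h | ⟨hp3, h⟩
    · exact h
    · exfalso
      subst hp3
      have h3 : (3 : F) = 0 := by
        have := CharP.cast_eq_zero F 3
        exact_mod_cast this
      obtain ⟨i, hi⟩ := isSquare_of_sq hcard (-1 : F₀)
      have hi' : i * i = -1 := by rw [← hi]; simp
      have hi0 : i ≠ 0 := by
        rintro rfl
        simp at hi'
      set g : SpecialLinearGroup (Fin 2) F := mk2 i i (-i) i (by linear_combination 2 * hi' - h3)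
        with hg
      have hgG : g ∈ G := by
        apply hle
        rw [mem_subG_iff]
        refine ⟨i⁻¹, inv_ne_zero hi0, forall_fin2 ?_ ?_ ?_ ?_⟩
        · simp only [hg, mk2_00]; rw [mul_inv_cancel₀ hi0]; exact F₀.one_mem
        · simp only [hg, mk2_01]; rw [mul_inv_cancel₀ hi0]; exact F₀.one_mem
        · simp only [hg, mk2_10]; rw [neg_mul, mul_inv_cancel₀ hi0]; exact F₀.neg_mem F₀.one_mem
        · simp only [hg, mk2_11]; rw [mul_inv_cancel₀ hi0]; exact F₀.one_mem
      have hone : (1 : F) ≠ 0 := one_ne_zero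
      set A := g * g with hA
      have A00 : A.1 0 0 = 0 := by
        simp only [hA, hg, mul_00, mk2_00, mk2_01, mk2_10]; ring
      have A01 : A.1 0 1 = -2 := by
        simp only [hA, hg, mul_01, mk2_00, mk2_01, mk2_11]; linear_combination 2 * hi'
      have A10 : A.1 1 0 = 2 := by
        simp only [hA, hg, mul_10, mk2_00, mk2_10, mk2_11]; linear_combination (-2 : F) * hi'
      have A11 : A.1 1 1 = 0 := by
        simp only [hA, hg, mul_11, mk2_01, mk2_10, mk2_11]; ring
      rcases h g hgG with h4 | h4 | h4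
      · simp only [tr, hg, mk2_00, mk2_11] at h4
        apply hone
        linear_combination h4 - 4 * hi' + 3 * h3
      · have e : g ^ 4 = A * A := by
          rw [hA]; simp only [pow_succ, pow_zero, one_mul, mul_assoc]
        rw [e] at h4
        have := congrArg (fun z : SpecialLinearGroup (Fin 2) F => z.1 0 0) h4
        simp only [mul_00, A00, A01, A10, one_00] at this
        apply hone
        linear_combination this + 2 * h3
      · have e : g ^ 10 = A * A * (A * A) * A := by
          rw [hA]; simp only [pow_succ, pow_zero, one_mul, mul_assoc]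
        rw [e] at h4
        have := congrArg (fun z : SpecialLinearGroup (Fin 2) F => z.1 0 0) h4
        simp only [mul_00, mul_01, mul_10, mul_11, A00, A01, A10, A11, one_00] at this
        apply hone
        linear_combination -this
  · obtain ⟨f⟩ := subH_equiv_pgl (F₀ := F₀) (isSquare_of_sq hcard)
    exact ⟨f.trans (pglEquiv e.symm)⟩

end Cfsg.Agent.Lib.Helper7.PSub
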