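import Mathlib
import Cfsg.Agent.S5892
import Cfsg.Agent.Lib.Helper7.NMaxDefs

set_option autoImplicit false
set_option linter.unusedSimpArgs false
set_option linter.unusedSectionVars false
set_option linter.unusedVariables false

/-! `PSL₂(13)`: orders of maximal subgroups. -/

namespace Cfsg.Agent.Lib.Helper7.NMax

open Matrix MatrixGroups Subgroup Cfsg.Agent.Lib.Helper46 Cfsg.Agent.Lib.Helper18.SL2
open Cfsg.Agent.Lib.Helper7 Cfsg.Agent.Lib.Helper7.PMax

variable {F : Type*} [Field F] [Fintype F]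

local notation "mkP" => (QuotientGroup.mk : SpecialLinearGroup (Fin 2) F →
  ProjectiveSpecialLinearGroup (Fin 2) F)

theorem two_ne_zero_13 (hF : Fintype.card F = 13) : (2 : F) ≠ 0 :=
  PSub.two_ne_zero_of_odd_card (by rw [hF]; decide)

theorem card_PSL_13 (hF : Fintype.card F = 13) :
    Nat.card (ProjectiveSpecialLinearGroup (Fin 2) F) = 1092 := by
  have := two_mul_card_PSL (two_ne_zero_13 hF)
  rw [hF] at this
  omega

theorem coatom_card (hF : Fintype.card F = 13)
    {M : Subgroup (ProjectiveSpecialLinearGroup (Fin 2) F)} (hM : IsCoatom M) :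
    Nat.card M = 78 ∨ Nat.card M = 12 ∨ Nat.card M = 14 := by
  haveI : Fact (Nat.Prime 13) := ⟨by norm_num⟩
  haveI : CharP F 13 := charP_of_card_prime hF
  rcases Cfsg.Agent.S5892.result 13 (by rw [hF]; decide) (by rw [hF]; norm_num) M hM with
    h | ⟨-, k, hk, ⟨e⟩⟩ | ⟨-, -, k, hk, ⟨e⟩⟩ | ⟨F₀, _, _, h, -⟩ | ⟨F₀, _, _, r, hr, hr2, h, -⟩ |
    ⟨h, -⟩ | ⟨-, -, -, ⟨e⟩⟩ | ⟨-, h, -⟩
  · rw [hF] at h; left; omega
  · rw [hF] at hk
    right; left
    rw [dih_card e]; omega
  · rw [hF] at hk
    right; right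
    rw [dih_card e]; omega
  · exfalso
    rw [hF] at h
    have h1 : Fintype.card F₀ < 4 := by
      by_contra hc
      have : 16 ≤ Fintype.card F₀ ^ 2 := by nlinarith
      omega
    interval_cases (Fintype.card F₀) <;> omega
  · exfalso
    rw [hF] at h
    have := ((Nat.Prime.pow_eq_iff (by norm_num : Nat.Prime 13)).1 h.symm).2
    rw [this] at hr
    exact Nat.not_prime_one hr
  · exfalso
    rw [hF] at h
    omega
  · right; left
    rw [Nat.card_congr e.toEquiv, a4_card]
  · exfalso; omega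

theorem isCoatom_of_card (hF : Fintype.card F = 13)
    {J : Subgroup (ProjectiveSpecialLinearGroup (Fin 2) F)}
    (hJ : Nat.card J = 78 ∨ Nat.card J = 12 ∨ Nat.card J = 14) : IsCoatom J := by
  have hJt : J ≠ ⊤ := by
    rintro rfl
    rw [Subgroup.card_top, card_PSL_13 hF] at hJ
    omega
  obtain ⟨M, hM, hJM⟩ := (eq_top_or_exists_le_coatom J).resolve_left hJt
  have hdvd := Subgroup.card_dvd_of_le hJM
  have hcard : Nat.card M ≤ Nat.card J := by
    rcases coatom_card hF hM with h | h | h <;> rcases hJ with h' | h' | h' <;>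
      rw [h', h] at hdvd <;> rw [h, h'] <;> omega
  rw [Subgroup.eq_of_le_of_card_ge hJM hcard]
  exact hM

/-- the criterion: the normaliser has order divisible by 78, 12 or 14 -/
theorem normalizer_isCoatom (hF : Fintype.card F = 13)
    {H : Subgroup (ProjectiveSpecialLinearGroup (Fin 2) F)} (hH : ¬ H.Normal)
    (hd : 78 ∣ Nat.card (normalizer (H : Set (ProjectiveSpecialLinearGroup (Fin 2) F))) ∨
      12 ∣ Nat.card (normalizer (H : Set (ProjectiveSpecialLinearGroup (Fin 2) F))) ∨
      14 ∣ Nat.card (normalizer (H : Set (ProjectiveSpecialLinearGroup (Fin 2) F)))) :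
    IsCoatom (normalizer (H : Set (ProjectiveSpecialLinearGroup (Fin 2) F))) := by
  set N := normalizer (H : Set (ProjectiveSpecialLinearGroup (Fin 2) F)) with hN
  have hNt : N ≠ ⊤ := fun h => hH (normalizer_eq_top_iff.1 h)
  obtain ⟨M, hM, hNM⟩ := (eq_top_or_exists_le_coatom N).resolve_left hNt
  have hdvd := Subgroup.card_dvd_of_le hNM
  apply isCoatom_of_card hF
  rcases coatom_card hF hM with h | h | h <;> rw [h] at hdvd <;> rcases hd with hd | hd | hd <;>
    have h3 := hd.trans hdvd
  · left; exact Nat.dvd_antisymm hdvd hd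
  · omega
  · omega
  · omega
  · right; left; exact Nat.dvd_antisymm hdvd hd
  · omega
  · omega
  · omega
  · right; right; exact Nat.dvd_antisymm hdvd hd

end Cfsg.Agent.Lib.Helper7.NMax
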