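import Mathlib
import Cfsg.Agent.Lib.Helper7.PSL13A

set_option autoImplicit false
set_option linter.unusedSimpArgs false
set_option linter.unusedSectionVars false
set_option linter.unusedVariables false

/-! `PSL₂(13)`: normalisers of subgroups of order prime to 13. -/

namespace Cfsg.Agent.Lib.Helper7.NMax

open Matrix MatrixGroups Subgroup Cfsg.Agent.Lib.Helper46 Cfsg.Agent.Lib.Helper18.SL2
open Cfsg.Agent.Lib.Helper7 Cfsg.Agent.Lib.Helper7.PMax

variable {F : Type*} [Field F] [Fintype F]

local notation "mkP" => (QuotientGroup.mk : SpecialLinearGroup (Fin 2) F →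
  ProjectiveSpecialLinearGroup (Fin 2) F)

theorem mk_pow_char_of_tr (p : ℕ) [Fact p.Prime] [CharP F p] {h : SpecialLinearGroup (Fin 2) F}
    (ht : tr h = 2) : mkP h ^ p = 1 := by
  obtain ⟨g, a, hg⟩ := exists_conj_uu ht
  have h1 : h = g⁻¹ * uu a * g := by rw [← hg]; group
  have h2 : h ^ p = 1 := by
    have : h = g⁻¹ * uu a * g⁻¹⁻¹ := by rw [inv_inv]; exact h1
    rw [this, conj_pow, Cfsg.Agent.Lib.Helper7.uu_pow, CharP.cast_eq_zero, zero_mul,
      Cfsg.Agent.Lib.Helper7.uu_zero]
    group
  have h3 : mkP h ^ p = mkP (h ^ p) := rfl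
  rw [h3, h2]
  rfl

theorem ss_of_order (p : ℕ) [Fact p.Prime] [CharP F p] {h : SpecialLinearGroup (Fin 2) F} {r : ℕ}
    (h1 : mkP h ≠ 1) (hr : mkP h ^ r = 1) (hco : Nat.Coprime r p) : tr h ^ 2 ≠ 4 := by
  intro ht
  have h0 : (tr h - 2) * (tr h + 2) = 0 := by linear_combination ht
  apply h1
  rcases mul_eq_zero.1 h0 with h' | h'
  · exact eq_one_of_coprime_order hr (mk_pow_char_of_tr p (sub_eq_zero.1 h')) hco
  · have h3 : tr (negOne * h) = 2 := by rw [tr_negOne_mul]; linear_combination -h'
    have := mk_pow_char_of_tr p h3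
    rw [mk_negOne_mul] at this
    exact eq_one_of_coprime_order hr this hco

theorem card_img_torN_13 (hF : Fintype.card F = 13) {x : SpecialLinearGroup (Fin 2) F}
    (hs : tr x ^ 2 ≠ 4) : Nat.card (img (torN x)) = 12 ∨ Nat.card (img (torN x)) = 14 := by
  have h1 := card_img_torN hs (by rw [hF]; norm_num)
  rw [zc_of_two_ne (two_ne_zero_13 hF)] at h1
  rcases card_centralizer_ss hs with h | h <;> rw [h, hF] at h1
  · right; omega
  · left; omega

theorem isCoatom_of_torN_le (hF : Fintype.card F = 13)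
    {H : Subgroup (ProjectiveSpecialLinearGroup (Fin 2) F)} (hH : ¬ H.Normal)
    {x : SpecialLinearGroup (Fin 2) F} (hs : tr x ^ 2 ≠ 4)
    (hle : img (torN x) ≤ normalizer (H : Set (ProjectiveSpecialLinearGroup (Fin 2) F))) :
    IsCoatom (normalizer (H : Set (ProjectiveSpecialLinearGroup (Fin 2) F))) := by
  apply normalizer_isCoatom hF hH
  have := Subgroup.card_dvd_of_le hle
  rcases card_img_torN_13 hF hs with h | h <;> rw [h] at this
  · right; left; exact this
  · right; right; exact this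

theorem cyclic_case (hF : Fintype.card F = 13)
    {H : Subgroup (ProjectiveSpecialLinearGroup (Fin 2) F)} (hH : ¬ H.Normal)
    {hb : ProjectiveSpecialLinearGroup (Fin 2) F} (hgen : H = zpowers hb)
    (hco : Nat.Coprime (Nat.card H) 13) :
    IsCoatom (normalizer (H : Set (ProjectiveSpecialLinearGroup (Fin 2) F))) := by
  haveI : Fact (Nat.Prime 13) := ⟨by norm_num⟩
  haveI : CharP F 13 := charP_of_card_prime hF
  obtain ⟨h, rfl⟩ := QuotientGroup.mk_surjective hb
  have h1 : mkP h ≠ 1 := by
    intro h1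
    apply hH
    have h2 : (QuotientGroup.mk h : ProjectiveSpecialLinearGroup (Fin 2) F) = 1 := h1
    rw [hgen, h2, zpowers_one_eq_bot]
    infer_instance
  have hr : mkP h ^ Nat.card H = 1 := by
    rw [hgen, Nat.card_zpowers]
    exact pow_orderOf_eq_one _
  have hs := ss_of_order 13 h1 hr hco
  apply isCoatom_of_torN_le hF hH hs
  rintro _ ⟨n, hn, rfl⟩
  rw [hgen]
  apply mem_normalizer_zpowers'
  rcases (mem_torN_iff hs).1 hn with hc | hc
  · have : mkP n * mkP h * (mkP n)⁻¹ = mkP h := by
      rw [mul_inv_eq_iff_eq_mul]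
      exact congrArg mkP hc.eq
    show mkP n * mkP h * (mkP n)⁻¹ ∈ _
    rw [this]
    exact mem_zpowers _
  · have : mkP n * mkP h * (mkP n)⁻¹ = (mkP h)⁻¹ := congrArg mkP hc
    show mkP n * mkP h * (mkP n)⁻¹ ∈ _
    rw [this]
    exact inv_mem (mem_zpowers _)

theorem self_case (hF : Fintype.card F = 13)
    {H : Subgroup (ProjectiveSpecialLinearGroup (Fin 2) F)} (hH : ¬ H.Normal)
    (hc : Nat.card H = 78 ∨ Nat.card H = 12 ∨ Nat.card H = 14) :
    IsCoatom (normalizer (H : Set (ProjectiveSpecialLinearGroup (Fin 2) F))) := by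
  apply normalizer_isCoatom hF hH
  have := Subgroup.card_dvd_of_le (le_normalizer (H := H))
  rcases hc with h | h | h <;> rw [h] at this
  · left; exact this
  · right; left; exact this
  · right; right; exact this

theorem index_two_case (hF : Fintype.card F = 13)
    {H D : Subgroup (ProjectiveSpecialLinearGroup (Fin 2) F)} (hH : ¬ H.Normal) (hle : H ≤ D)
    (hD : Nat.card D = 12 ∨ Nat.card D = 14) (h2 : Nat.card D = 2 * Nat.card H) :
    IsCoatom (normalizer (H : Set (ProjectiveSpecialLinearGroup (Fin 2) F))) := by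
  have h1 := Subgroup.card_mul_index (H.subgroupOf D)
  rw [Nat.card_congr (Subgroup.subgroupOfEquivOfLe hle).toEquiv, h2, mul_comm] at h1
  have hidx : (H.subgroupOf D).index = 2 := Nat.eq_of_mul_eq_mul_right Nat.card_pos h1
  have hn := (normal_subgroupOf_iff_le_normalizer hle).1 (normal_of_index_eq_two hidx)
  apply normalizer_isCoatom hF hH
  have := Subgroup.card_dvd_of_le hn
  rcases hD with h | h <;> rw [h] at this
  · right; left; exact this
  · right; right; exact this

theorem klein_case (hF : Fintype.card F = 13)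
    {H : Subgroup (ProjectiveSpecialLinearGroup (Fin 2) F)} (hH : ¬ H.Normal)
    (hcard : Nat.card H = 4) (hexp : ∀ x ∈ H, x ^ 2 = 1) :
    IsCoatom (normalizer (H : Set (ProjectiveSpecialLinearGroup (Fin 2) F))) := by
  have h2 := two_ne_zero_13 hF
  obtain ⟨A, hAH, hA1⟩ : ∃ A ∈ H, A ≠ 1 := by
    by_contra hc
    push Not at hc
    have : H = ⊥ := (Subgroup.eq_bot_iff_forall H).2 hc
    rw [this, Subgroup.card_bot] at hcard
    omega
  have oA : orderOf A = 2 := orderOf_eq_prime (hexp A hAH) hA1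
  obtain ⟨B, hBH, hBA⟩ : ∃ B ∈ H, B ∉ zpowers A := by
    by_contra hc
    push Not at hc
    have := Subgroup.card_le_of_le (show H ≤ zpowers A from hc)
    rw [hcard, Nat.card_zpowers, oA] at this
    omega
  have hB1 : B ≠ 1 := fun h => hBA (h ▸ one_mem _)
  have hAB : A ≠ B := fun h => hBA (h ▸ mem_zpowers A)
  have hA2 := hexp A hAH
  have hB2 := hexp B hBH
  have hcomm : A * B = B * A := by
    have h1 := hexp (A * B) (mul_mem hAH hBH)
    have hA2' := hA2
    have hB2' := hB2
    rw [sq] at h1 hA2' hB2'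
    have hA' : A⁻¹ = A := inv_eq_of_mul_eq_one_left hA2'
    have hB' : B⁻¹ = B := inv_eq_of_mul_eq_one_left hB2'
    have := eq_inv_of_mul_eq_one_left h1
    rw [_root_.mul_inv_rev, hA', hB'] at this
    exact this
  have hSle : closure ({A, B} : Set (ProjectiveSpecialLinearGroup (Fin 2) F)) ≤ H := by
    rw [closure_le]
    rintro x (rfl | rfl)
    · exact hAH
    · exact hBH
  have hHeq : closure ({A, B} : Set (ProjectiveSpecialLinearGroup (Fin 2) F)) = H := by
    apply Subgroup.eq_of_le_of_card_ge hSle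
    rw [hcard]
    exact Nat.le_of_dvd Nat.card_pos (four_dvd_card (subset_closure (by simp))
      (subset_closure (by simp)) hA1 hB1 hAB hA2 hB2 hcomm)
  obtain ⟨a, b, hA, hB, ta, tb, tab⟩ := frame_of_invol hA1 hB1 hAB hA2 hB2 hcomm
  obtain ⟨P, u, v, h, hPa, hPb⟩ := conj_frame h2 ta tb tab
  set c := mkP P with hc
  have eA : A = c⁻¹ * mkP (qI h) * c := by
    rw [← hPa, ← hA]
    show mkP a = c⁻¹ * (c * mkP a * c⁻¹) * c
    group
  have eB : B = c⁻¹ * mkP (qJ h) * c := by
    rw [← hPb, ← hB]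
    show mkP b = c⁻¹ * (c * mkP b * c⁻¹) * c
    group
  set g := c⁻¹ * mkP (qX h h2) * c with hg
  have g1 : g * A * g⁻¹ = B := by
    have : g * A * g⁻¹ = c⁻¹ * (mkP (qX h h2) * mkP (qI h) * (mkP (qX h h2))⁻¹) * c := by
      rw [eA, hg]; group
    rw [this, qX_conj_qI, ← eB]
  have g2 : g * B * g⁻¹ = A * B := by
    have : g * B * g⁻¹ = c⁻¹ * (mkP (qX h h2) * mkP (qJ h) * (mkP (qX h h2))⁻¹) * c := by
      rw [eB, hg]; group
    rw [this, qX_conj_qJ, ← mk_qI_mul_qJ, eA, eB]
    group
  have hgN : g ∈ normalizer (H : Set (ProjectiveSpecialLinearGroup (Fin 2) F)) := by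
    rw [← hHeq]
    apply mem_normalizer_of_conj_le
    apply conj_mem_closure_pair
    · rw [g1]; exact subset_closure (by simp)
    · rw [g2]; exact mul_mem (subset_closure (by simp)) (subset_closure (by simp))
  have og : orderOf g = 3 := by
    have : g = MulAut.conj c⁻¹ (mkP (qX h h2)) := by
      rw [MulAut.conj_apply, inv_inv]
    rw [this, MulEquiv.orderOf_eq, orderOf_mk_qX]
  apply normalizer_isCoatom hF hH
  right; left
  have h3 : 3 ∣ Nat.card (normalizer (H : Set (ProjectiveSpecialLinearGroup (Fin 2) F))) := by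
    rw [← og]; exact orderOf_dvd_card_of_mem hgN
  have h4 : 4 ∣ Nat.card (normalizer (H : Set (ProjectiveSpecialLinearGroup (Fin 2) F))) := by
    rw [← hcard]; exact Subgroup.card_dvd_of_le le_normalizer
  exact (show Nat.Coprime 4 3 by norm_num).mul_dvd_of_dvd_of_dvd h4 h3

theorem prime_case (hF : Fintype.card F = 13)
    {H : Subgroup (ProjectiveSpecialLinearGroup (Fin 2) F)} (hH : ¬ H.Normal)
    {r : ℕ} (hr : r.Prime) (hr13 : r ≠ 13) (hcard : Nat.card H = r) :
    IsCoatom (normalizer (H : Set (ProjectiveSpecialLinearGroup (Fin 2) F))) := by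
  haveI : Fact r.Prime := ⟨hr⟩
  haveI : IsCyclic H := isCyclic_of_prime_card hcard
  obtain ⟨g, hg⟩ := (Subgroup.isCyclic_iff_exists_zpowers_eq_top H).1 inferInstance
  apply cyclic_case hF hH hg.symm
  rw [hcard]
  exact (Nat.coprime_primes hr (by norm_num)).2 hr13

theorem four_case (hF : Fintype.card F = 13)
    {H : Subgroup (ProjectiveSpecialLinearGroup (Fin 2) F)} (hH : ¬ H.Normal)
    (hcard : Nat.card H = 4) :
    IsCoatom (normalizer (H : Set (ProjectiveSpecialLinearGroup (Fin 2) F))) := by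
  by_cases h4 : ∃ x ∈ H, orderOf x = 4
  · obtain ⟨x, hx, ox⟩ := h4
    have : zpowers x = H := by
      apply Subgroup.eq_of_le_of_card_ge (zpowers_le.2 hx)
      rw [hcard, Nat.card_zpowers, ox]
    apply cyclic_case hF hH this.symm
    rw [hcard]; norm_num
  · push Not at h4
    apply klein_case hF hH hcard
    intro x hx
    have h1 := orderOf_dvd_card_of_mem hx
    rw [hcard] at h1
    have h2 := Nat.le_of_dvd (by norm_num) h1
    have h3 := h4 x hx
    have h5 : orderOf x ∣ 2 := by
      interval_cases (orderOf x) <;> omega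
    exact orderOf_dvd_iff_pow_eq_one.1 h5

theorem tor_case (hF : Fintype.card F = 13)
    {H : Subgroup (ProjectiveSpecialLinearGroup (Fin 2) F)} (hH : ¬ H.Normal)
    (hT : Tor (pre H)) :
    IsCoatom (normalizer (H : Set (ProjectiveSpecialLinearGroup (Fin 2) F))) := by
  obtain ⟨x, hx, hs, hall⟩ := hT
  have hle : H ≤ img (torN x) := by
    rw [← img_pre H]
    exact Subgroup.map_mono (le_torN hs hall)
  have hD := card_img_torN_13 hF hs
  have hdvd := Subgroup.card_dvd_of_le hle
  have hne1 : Nat.card H ≠ 1 := by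
    intro h1
    apply hH
    rw [Subgroup.card_eq_one.1 h1]
    infer_instance
  rcases hD with hD' | hD' <;> rw [hD'] at hdvd <;> have hle' := Nat.le_of_dvd (by norm_num) hdvd
  · obtain ⟨n, hn⟩ : ∃ n, Nat.card H = n := ⟨_, rfl⟩
    rw [hn] at hdvd hle' hne1
    interval_cases n <;> try omega
    · exact prime_case hF hH Nat.prime_two (by norm_num) hn
    · exact prime_case hF hH Nat.prime_three (by norm_num) hn
    · exact four_case hF hH hn
    · exact index_two_case hF hH hle (Or.inl hD') (by rw [hD', hn])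
    · exact self_case hF hH (Or.inr (Or.inl hn))
  · obtain ⟨n, hn⟩ : ∃ n, Nat.card H = n := ⟨_, rfl⟩
    rw [hn] at hdvd hle' hne1
    interval_cases n <;> try omega
    · exact prime_case hF hH Nat.prime_two (by norm_num) hn
    · exact prime_case hF hH (by norm_num) (by norm_num) hn
    · exact self_case hF hH (Or.inr (Or.inr hn))

end Cfsg.Agent.Lib.Helper7.NMax
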