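import Mathlib
import Cfsg.Agent.Lib.Helper7.PSL13B

set_option autoImplicit false
set_option linter.unusedSimpArgs false
set_option linter.unusedSectionVars false
set_option linter.unusedVariables false

/-! `PSL₂(13)`: every non-normal subgroup has a maximal normaliser. -/

namespace Cfsg.Agent.Lib.Helper7.NMax

open Matrix MatrixGroups Subgroup Cfsg.Agent.Lib.Helper46 Cfsg.Agent.Lib.Helper18.SL2
open Cfsg.Agent.Lib.Helper7 Cfsg.Agent.Lib.Helper7.PMax

variable {F : Type*} [Field F] [Fintype F]

local notation "mkP" => (QuotientGroup.mk : SpecialLinearGroup (Fin 2) F →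
  ProjectiveSpecialLinearGroup (Fin 2) F)

theorem bor_case (hF : Fintype.card F = 13)
    {H : Subgroup (ProjectiveSpecialLinearGroup (Fin 2) F)} (hH : ¬ H.Normal)
    (hB : BorType (pre H)) {w : SpecialLinearGroup (Fin 2) F} (hw : w ∈ pre H)
    (hwc : w ∉ center (SpecialLinearGroup (Fin 2) F)) (hwt : tr w ^ 2 = 4) :
    IsCoatom (normalizer (H : Set (ProjectiveSpecialLinearGroup (Fin 2) F))) := by
  have h2 := two_ne_zero_13 hF
  obtain ⟨g, hg⟩ := hB
  -- a unipotent element
  obtain ⟨w₁, hw₁, hw₁c, hw₁t⟩ : ∃ w₁ ∈ pre H, w₁ ∉ center (SpecialLinearGroup (Fin 2) F) ∧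
      tr w₁ = 2 := by
    have h0 : (tr w - 2) * (tr w + 2) = 0 := by linear_combination hwt
    rcases mul_eq_zero.1 h0 with h | h
    · exact ⟨w, hw, hwc, sub_eq_zero.1 h⟩
    · refine ⟨negOne * w, (pre H).mul_mem (center_le_pre H negOne_mem_center) hw, ?_, ?_⟩
      · intro hc
        apply hwc
        have := (center (SpecialLinearGroup (Fin 2) F)).mul_mem
          ((center (SpecialLinearGroup (Fin 2) F)).inv_mem negOne_mem_center) hc
        rwa [inv_mul_cancel_left] at this
      · rw [tr_negOne_mul]; linear_combination -h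
  set A : AddSubgroup F := addOf ((pre H).comap (MulAut.conj g⁻¹).toMonoidHom) with hA
  have hAmem : ∀ e, e ∈ A ↔ g⁻¹ * uu e * g ∈ pre H := by
    intro e
    rw [hA, mem_addOf, mem_comap]
    simp only [MulEquiv.coe_toMonoidHom, MulAut.conj_apply, inv_inv]
  have hAtop : A = ⊤ := by
    haveI : Fact (Nat.card F).Prime := ⟨by rw [Nat.card_eq_fintype_card, hF]; norm_num⟩
    rcases A.eq_bot_or_eq_top_of_prime_card with h | h
    · exfalso
      have e1 := eq_uu_of_tr (x := g * w₁ * g⁻¹) (by rw [tr_conj, hw₁t]) (hg w₁ hw₁)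
      have e2 : (g * w₁ * g⁻¹).1 0 1 ∈ A := by
        rw [hAmem, ← e1]
        have : g⁻¹ * (g * w₁ * g⁻¹) * g = w₁ := by group
        rw [this]; exact hw₁
      rw [h, AddSubgroup.mem_bot] at e2
      rw [e2, Cfsg.Agent.Lib.Helper7.uu_zero] at e1
      apply hw₁c
      have : w₁ = 1 := by
        have h3 : g⁻¹ * (g * w₁ * g⁻¹) * g = w₁ := by group
        rw [← h3, e1]; group
      rw [this]; exact one_mem _
    · exact h
  have hU : ∀ e, g⁻¹ * uu e * g ∈ pre H := fun e => (hAmem e).1 (by rw [hAtop]; trivial)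
  set B : Subgroup (SpecialLinearGroup (Fin 2) F) :=
    (BorS F).map (MulAut.conj g⁻¹).toMonoidHom with hBdef
  have hZB : center (SpecialLinearGroup (Fin 2) F) ≤ B := by
    intro z hz
    refine ⟨z, center_le_BorS hz, ?_⟩
    simp only [MulEquiv.coe_toMonoidHom, MulAut.conj_apply]
    rw [mem_center_iff.1 hz g⁻¹]
    group
  have hcardB : Nat.card (img B) = 78 := by
    have h1 := card_img hZB
    have hcB : Nat.card B = 156 := by rw [hBdef, card_map_conj, card_BorS, hF]
    rw [hcB, zc_of_two_ne h2] at h1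
    omega
  have hle : img B ≤ normalizer (H : Set (ProjectiveSpecialLinearGroup (Fin 2) F)) := by
    rintro _ ⟨n, ⟨n', hn', rfl⟩, rfl⟩
    apply mem_normalizer_of_conj_le
    intro v hv
    obtain ⟨h, rfl⟩ := QuotientGroup.mk_surjective v
    have hh : h ∈ pre H := hv
    obtain ⟨e, he⟩ := bor_commutator (show n'.1 1 0 = 0 from hn') (hg h hh)
    simp only [MulEquiv.coe_toMonoidHom, MulAut.conj_apply, inv_inv]
    have key : g⁻¹ * n' * g * h * (g⁻¹ * n' * g)⁻¹ = g⁻¹ * uu e * g * h := by
      rw [← he]; group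
    have : g⁻¹ * n' * g * h * (g⁻¹ * n' * g)⁻¹ ∈ pre H := by
      rw [key]; exact (pre H).mul_mem (hU e) hh
    exact this
  apply normalizer_isCoatom hF hH
  left
  rw [← hcardB]
  exact Subgroup.card_dvd_of_le hle

theorem card_of_pre {H : Subgroup (ProjectiveSpecialLinearGroup (Fin 2) F)} {n : ℕ}
    (h : Nat.card (pre H) = zc F * n) : Nat.card H = n := by
  rw [card_pre] at h
  exact Nat.eq_of_mul_eq_mul_left (zc_pos F) h

theorem exc_case (hF : Fintype.card F = 13)
    {H : Subgroup (ProjectiveSpecialLinearGroup (Fin 2) F)} (hH : ¬ H.Normal)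
    (hc : Nat.card (pre H) = zc F * 12 ∨ Nat.card (pre H) = zc F * 24 ∨
      Nat.card (pre H) = zc F * 60) :
    IsCoatom (normalizer (H : Set (ProjectiveSpecialLinearGroup (Fin 2) F))) := by
  have hd := Subgroup.card_subgroup_dvd_card H
  rw [card_PSL_13 hF] at hd
  rcases hc with h | h | h <;> have h1 := card_of_pre h <;> rw [h1] at hd
  · exact self_case hF hH (Or.inr (Or.inl h1))
  · omega
  · omega

theorem nmax_psl13 (hF : Fintype.card F = 13) :
    NMax (ProjectiveSpecialLinearGroup (Fin 2) F) := by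
  intro H hH
  haveI : Fact (Nat.Prime 13) := ⟨by norm_num⟩
  haveI : CharP F 13 := charP_of_card_prime hF
  by_cases hss : ∀ x ∈ pre H, x ∉ center (SpecialLinearGroup (Fin 2) F) → tr x ^ 2 ≠ 4
  · rcases pprime_analysis (pre H) (center_le_pre H) hss with h | h | h | h | h
    · exfalso
      apply hH
      have : H = ⊥ := by
        rw [← img_pre H, h, img]
        rw [eq_bot_iff]
        rintro _ ⟨z, hz, rfl⟩
        exact (QuotientGroup.eq_one_iff z).2 hz
      rw [this]; infer_instance
    · exact tor_case hF hH (Tor_of_card h)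
    · exact exc_case hF hH (Or.inl h.1)
    · exact exc_case hF hH (Or.inr (Or.inl h.1))
    · exact exc_case hF hH (Or.inr (Or.inr h.1))
  · push Not at hss
    obtain ⟨w, hw, hwc, hwt⟩ := hss
    rcases dickson 13 (pre H) (center_le_pre H) with h | h | ⟨h, -⟩ | ⟨K, D, hIn, hK⟩
    · exact bor_case hF hH h hw hwc hwt
    · exact tor_case hF hH h
    · rcases h with h | h | h
      · exact exc_case hF hH (Or.inl h.1)
      · exact exc_case hF hH (Or.inr (Or.inl h.1))
      · exact exc_case hF hH (Or.inr (Or.inr h.1))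
    · exfalso
      apply hH
      have hKc : Nat.card K = Fintype.card F := by
        have h1 := card_eq_pow K
        rw [hF] at h1 ⊢
        exact base_eq_of_prime (by norm_num) hK h1
      rw [(InSub.card_dvd hIn).2 hKc]
      infer_instance

end Cfsg.Agent.Lib.Helper7.NMax
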