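import Mathlib
import Cfsg.Agent.Lib.Helper7.PSL2Sol4
import Cfsg.Agent.Lib.Helper7.CountAniso

set_option autoImplicit false
set_option linter.unusedSimpArgs false
set_option linter.unusedSectionVars false
set_option linter.unusedVariables false

/-! Solubilizers in `PSL₂(q)`, `q` an odd power of three: counting. -/

namespace Cfsg.Agent.Lib.Helper7.PMax

open Matrix MatrixGroups Subgroup Cfsg.Agent.Lib.Helper46 Cfsg.Agent.Lib.Helper18.SL2
open Cfsg.Agent.Lib.Helper7

section general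

variable {G : Type*} [Group G]

/-- counting in a quotient group -/
theorem card_quotient_subtype (N : Subgroup G) (P : G ⧸ N → Prop) :
    Nat.card {y : G // P (QuotientGroup.mk y)} = Nat.card {z : G ⧸ N // P z} * Nat.card N := by
  rw [← Nat.card_prod]
  apply Nat.card_congr
  refine (Equiv.subtypeEquiv (p := fun y : G => P (QuotientGroup.mk y))
    (q := fun z : (G ⧸ N) × N => P z.1) Subgroup.groupEquivQuotientProdSubgroup
    (fun y => Iff.rfl)).trans Equiv.prodSubtypeFstEquivSubtypeProd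

end general

variable {F : Type*} [Field F] [Fintype F]

/-- the elements with prescribed traces of `y` and `w y` -/
def fib (τ σ : F) : Set (SpecialLinearGroup (Fin 2) F) := {y | tr y = τ ∧ tr (ww * y) = σ}

theorem ncard_fib (h2 : (2 : F) ≠ 0) (hns : ¬ IsSquare (-1 : F)) {τ σ : F}
    (hκ : τ ^ 2 + σ ^ 2 - 4 ≠ 0) : (fib τ σ).ncard = Fintype.card F + 1 := by
  have hab : ∀ z₁ z₂ : F, z₁ ^ 2 + 0 * z₁ * z₂ + 1 * z₂ ^ 2 = 0 → z₁ = 0 ∧ z₂ = 0 :=
    fun z₁ z₂ h => aniso hns (by linear_combination h)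
  have h1 := (cnt_aniso hab).2 _ hκ
  have h4 : (4 : F) ≠ 0 := by
    have : (4 : F) = 2 * 2 := by norm_num
    rw [this]; exact mul_ne_zero h2 h2
  have h2' : (fib τ σ).ncard = Nat.card {z : F × F //
      z.1 ^ 2 + 0 * z.1 * z.2 + 1 * z.2 ^ 2 = τ ^ 2 + σ ^ 2 - 4} := by
    rw [← Nat.card_coe_set_eq]
    apply Nat.card_congr
    refine Equiv.ofBijective
      (fun y => ⟨(y.1.1 0 0 - y.1.1 1 1, y.1.1 0 1 + y.1.1 1 0), ?_⟩) ⟨?_, ?_⟩
    · obtain ⟨y, hτ, hσ⟩ := y
      rw [tr_ww_mul] at hσ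
      rw [tr] at hτ
      have hd := det2 y
      show (y.1 0 0 - y.1 1 1) ^ 2 + 0 * (y.1 0 0 - y.1 1 1) * (y.1 0 1 + y.1 1 0) +
        1 * (y.1 0 1 + y.1 1 0) ^ 2 = _
      linear_combination (y.1 0 0 + y.1 1 1 + τ) * hτ + (y.1 1 0 - y.1 0 1 + σ) * hσ - 4 * hd
    · rintro ⟨y, hτ, hσ⟩ ⟨z, hτ', hσ'⟩ h
      simp only [Subtype.mk.injEq, Prod.mk.injEq] at h
      obtain ⟨e1, e2⟩ := h
      rw [tr_ww_mul] at hσ hσ'
      rw [tr] at hτ hτ'
      apply Subtype.ext
      apply ext2
      · exact mul_left_cancel₀ h2 (by linear_combination e1 + hτ - hτ')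
      · exact mul_left_cancel₀ h2 (by linear_combination e2 - hσ + hσ')
      · exact mul_left_cancel₀ h2 (by linear_combination e2 + hσ - hσ')
      · exact mul_left_cancel₀ h2 (by linear_combination -e1 + hτ - hτ')
    · rintro ⟨⟨s, r⟩, hz⟩
      simp only at hz
      refine ⟨⟨mk2 ((τ + s) / 2) ((r - σ) / 2) ((r + σ) / 2) ((τ - s) / 2) ?_, ?_, ?_⟩, ?_⟩
      · field_simp
        linear_combination -hz
      · simp only [tr, mk2_00, mk2_11]
        field_simp
        ring
      · rw [tr_ww_mul]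
        simp only [mk2_10, mk2_01]
        field_simp
        ring
      · simp only [Subtype.mk.injEq, Prod.mk.injEq, mk2_00, mk2_01, mk2_10, mk2_11]
        constructor
        · field_simp
          ring
        · field_simp
          ring
  rw [h2']
  exact_mod_cast h1

theorem ncard_tr0_odd (hns : ¬ IsSquare (-1 : F)) :
    {y : SpecialLinearGroup (Fin 2) F | tr y = 0}.ncard =
      Fintype.card F * (Fintype.card F - 1) := by
  have hb : ∀ y : SpecialLinearGroup (Fin 2) F, tr y = 0 → y.1 0 1 ≠ 0 := by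
    intro y hy h0
    have hd := det2 y
    rw [tr] at hy
    rw [h0] at hd
    exact hns ⟨y.1 0 0, by linear_combination hd - y.1 0 0 * hy⟩
  have : Nat.card (F × Fˣ) = Fintype.card F * (Fintype.card F - 1) := by
    rw [Nat.card_prod, Nat.card_units, Nat.card_eq_fintype_card]
  rw [← this, ← Nat.card_coe_set_eq]
  apply Nat.card_congr
  refine Equiv.ofBijective (fun y => (y.1.1 0 0, Units.mk0 (y.1.1 0 1) (hb y.1 y.2))) ⟨?_, ?_⟩
  · rintro ⟨y, hy⟩ ⟨z, hz⟩ h
    simp only [Prod.mk.injEq, Units.ext_iff, Units.val_mk0] at h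
    obtain ⟨e1, e2⟩ := h
    have hy' : y.1 0 0 + y.1 1 1 = 0 := hy
    have hz' : z.1 0 0 + z.1 1 1 = 0 := hz
    have e3 : y.1 1 1 = z.1 1 1 := by linear_combination hy' - hz' - e1
    have dy := det2 y
    have dz := det2 z
    apply Subtype.ext
    apply ext2
    · exact e1
    · exact e2
    · apply mul_left_cancel₀ (hb y hy)
      rw [← e1, ← e2, ← e3] at dz
      linear_combination dz - dy
    · exact e3
  · rintro ⟨a, b⟩
    refine ⟨⟨mk2 a b (-(1 + a ^ 2) / b) (-a) ?_, ?_⟩, ?_⟩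
    · have := b.ne_zero
      field_simp
      ring
    · show tr _ = 0
      simp [tr]
    · simp [Units.ext_iff]

theorem ncard_tr0_odd' (hns : ¬ IsSquare (-1 : F)) (x : SpecialLinearGroup (Fin 2) F) :
    {y : SpecialLinearGroup (Fin 2) F | tr (x * y) = 0}.ncard =
      Fintype.card F * (Fintype.card F - 1) := by
  rw [← ncard_tr0_odd hns, ← Nat.card_coe_set_eq, ← Nat.card_coe_set_eq]
  apply Nat.card_congr
  exact Equiv.subtypeEquiv (Equiv.mulLeft x) (fun y => Iff.rfl)

theorem ncard_commute_ww (hns : ¬ IsSquare (-1 : F)) :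
    {y : SpecialLinearGroup (Fin 2) F | Commute y ww}.ncard = Fintype.card F + 1 := by
  have hroot := ww_nonsplit hns
  have hs := tr_sq_ne_of_nonsplit hroot
  have hxc : (ww : SpecialLinearGroup (Fin 2) F) ∉ center (SpecialLinearGroup (Fin 2) F) :=
    fun h => hs (tr_sq_of_mem_center _ h)
  have hc : Nat.card (centralizer ({ww} : Set (SpecialLinearGroup (Fin 2) F))) =
      Fintype.card F + 1 := by
    rcases Cfsg.Agent.Lib.Helper47.card_centralizer_cases ww hxc with ⟨-, h⟩ | ⟨⟨a, ha, -⟩, -⟩ |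
      ⟨h, -⟩
    · exact h
    · exact absurd ha (hroot a)
    · exact absurd h hs
  rw [← hc, ← Nat.card_coe_set_eq]
  apply Nat.card_congr
  refine Equiv.subtypeEquiv (Equiv.refl _) (fun y => ?_)
  rw [Equiv.refl_apply, mem_centralizer_singleton_iff]
  exact ⟨fun h => h.eq, fun h => h⟩

end Cfsg.Agent.Lib.Helper7.PMax
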