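import Mathlib
import Cfsg.Agent.Lib.Helper7.PSL2SolCount2

set_option autoImplicit false
set_option linter.unusedSimpArgs false
set_option linter.unusedSectionVars false
set_option linter.unusedVariables false

/-! Solubilizers in `PSL₂(q)`, `q` an odd power of three: the final counts in `SL₂(q)`. -/

namespace Cfsg.Agent.Lib.Helper7.PMax

open Matrix MatrixGroups Subgroup Cfsg.Agent.Lib.Helper46 Cfsg.Agent.Lib.Helper18.SL2
open Cfsg.Agent.Lib.Helper7

variable {F : Type*} [Field F] [Fintype F]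

theorem one_ne_neg_one (h2 : (2 : F) ≠ 0) : (1 : F) ≠ -1 := by
  intro h
  apply h2
  linear_combination h

theorem sq_eq_one_cases {t : F} (h : t ^ 2 = 1) : t = 1 ∨ t = -1 := by
  have h5 : (t - 1) * (t + 1) = 0 := by linear_combination h
  rcases mul_eq_zero.1 h5 with h6 | h6
  · left; linear_combination h6
  · right; linear_combination h6

theorem fib_disjoint {τ σ τ' σ' : F} (h : τ ≠ τ' ∨ σ ≠ σ') : Disjoint (fib τ σ) (fib τ' σ') := by
  rw [Set.disjoint_left]
  rintro y ⟨h1, h2⟩ ⟨h1', h2'⟩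
  rcases h with h | h
  · exact h (h1.symm.trans h1')
  · exact h (h2.symm.trans h2')

theorem ncard_E (h3 : (3 : F) = 0) (hns : ¬ IsSquare (-1 : F)) :
    {y : SpecialLinearGroup (Fin 2) F | tr y ^ 2 = 1 ∧ tr (ww * y) ^ 2 = 1}.ncard =
      4 * (Fintype.card F + 1) := by
  have h2 := two_ne_zero_of_three h3
  have hne := one_ne_neg_one h2
  have e : {y : SpecialLinearGroup (Fin 2) F | tr y ^ 2 = 1 ∧ tr (ww * y) ^ 2 = 1} =
      (fib 1 1 ∪ fib 1 (-1)) ∪ (fib (-1) 1 ∪ fib (-1) (-1)) := by
    ext y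
    simp only [fib, Set.mem_union, Set.mem_setOf_eq]
    constructor
    · rintro ⟨h, h'⟩
      rcases sq_eq_one_cases h with h | h <;> rcases sq_eq_one_cases h' with h' | h' <;>
        simp [h, h']
    · rintro ((⟨h, h'⟩ | ⟨h, h'⟩) | (⟨h, h'⟩ | ⟨h, h'⟩)) <;> rw [h, h'] <;> norm_num
  have k : ∀ τ σ : F, τ ^ 2 = 1 → σ ^ 2 = 1 → (fib τ σ).ncard = Fintype.card F + 1 := by
    intro τ σ h h'
    apply ncard_fib h2 hns
    rw [h, h']
    intro h0
    apply h2
    linear_combination -h0
  rw [e, Set.ncard_union_eq, Set.ncard_union_eq (fib_disjoint (Or.inr hne)),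
    Set.ncard_union_eq (fib_disjoint (Or.inr hne)), k, k, k, k]
  · ring
  all_goals try norm_num
  refine ⟨⟨?_, ?_⟩, ?_, ?_⟩ <;> exact fib_disjoint (Or.inl hne)

theorem ncard_four (h2 : (2 : F) ≠ 0) :
    (({y : SpecialLinearGroup (Fin 2) F | tr y = 0} ∪ {y | tr (ww * y) = 0}) ∩
      {y | Commute y ww}).ncard = 4 := by
  have hne := one_ne_neg_one h2
  have e : (({y : SpecialLinearGroup (Fin 2) F | tr y = 0} ∪ {y | tr (ww * y) = 0}) ∩
      {y | Commute y ww}) = {ww, negOne * ww} ∪ {1, negOne} := by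
    ext y
    simp only [Set.mem_inter_iff, Set.mem_union, Set.mem_setOf_eq, Set.mem_insert_iff,
      Set.mem_singleton_iff, commute_ww_iff h2, tr_ww_mul]
    simp only [tr]
    have hd := det2 y
    constructor
    · rintro ⟨h | h, h1, h4⟩
      · left
        have h00 : y.1 0 0 = 0 := by
          apply mul_left_cancel₀ h2
          linear_combination h + h1
        have h11 : y.1 1 1 = 0 := by rw [← h1, h00]
        rw [h00, h11, h4] at hd
        rcases sq_eq_one_cases (t := y.1 0 1) (by linear_combination hd) with h5 | h5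
        · left
          apply ext2 <;> simp [ww, h00, h11, h4, h5]
        · right
          apply ext2 <;> simp [ww, negOne, mul_00, mul_01, mul_10, mul_11, h00, h11, h4, h5]
      · right
        have h01 : y.1 0 1 = 0 := by
          apply mul_left_cancel₀ h2
          linear_combination -h + h4
        have h10 : y.1 1 0 = 0 := by rw [h4, h01, neg_zero]
        rw [h01, h10, ← h1] at hd
        rcases sq_eq_one_cases (t := y.1 0 0) (by linear_combination hd) with h5 | h5
        · left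
          apply ext2 <;> simp [h01, h10, ← h1, h5]
        · right
          apply ext2 <;> simp [negOne, h01, h10, ← h1, h5]
    · rintro ((rfl | rfl) | (rfl | rfl)) <;>
        simp [ww, negOne, mul_00, mul_01, mul_10, mul_11]
  have d1 : (ww : SpecialLinearGroup (Fin 2) F) ≠ negOne * ww := by
    intro h
    have := congrArg (fun Z : SpecialLinearGroup (Fin 2) F => Z.1 0 1) h
    simp [ww, negOne, mul_01] at this
    exact hne this
  have d2 : (1 : SpecialLinearGroup (Fin 2) F) ≠ negOne := by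
    intro h
    have := congrArg (fun Z : SpecialLinearGroup (Fin 2) F => Z.1 0 0) h
    simp [negOne] at this
    exact hne this
  rw [e, Set.ncard_union_eq, Set.ncard_pair d1, Set.ncard_pair d2]
  rw [Set.disjoint_left]
  rintro y (rfl | rfl) (h | h)
  · have := congrArg (fun Z : SpecialLinearGroup (Fin 2) F => Z.1 0 0) h
    simp [ww] at this
  · have := congrArg (fun Z : SpecialLinearGroup (Fin 2) F => Z.1 0 0) h
    simp [ww, negOne] at this
  · have := congrArg (fun Z : SpecialLinearGroup (Fin 2) F => Z.1 0 0) h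
    simp [ww, negOne, mul_00] at this
  · have := congrArg (fun Z : SpecialLinearGroup (Fin 2) F => Z.1 0 0) h
    simp [ww, negOne, mul_00] at this

theorem count_ww (h3 : (3 : F) = 0) (hns : ¬ IsSquare (-1 : F)) :
    {y : SpecialLinearGroup (Fin 2) F | tr y = 0 ∨ tr (ww * y) = 0 ∨ Commute y ww ∨
      (tr y ^ 2 = 1 ∧ tr (ww * y) ^ 2 = 1)}.ncard =
      2 * (Fintype.card F * (Fintype.card F + 1)) := by
  have h2 := two_ne_zero_of_three h3
  set A := {y : SpecialLinearGroup (Fin 2) F | tr y = 0} with hA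
  set A' := {y : SpecialLinearGroup (Fin 2) F | tr (ww * y) = 0} with hA'
  set T := {y : SpecialLinearGroup (Fin 2) F | Commute y ww} with hT
  set E := {y : SpecialLinearGroup (Fin 2) F | tr y ^ 2 = 1 ∧ tr (ww * y) ^ 2 = 1} with hE
  have e0 : {y : SpecialLinearGroup (Fin 2) F | tr y = 0 ∨ tr (ww * y) = 0 ∨ Commute y ww ∨
      (tr y ^ 2 = 1 ∧ tr (ww * y) ^ 2 = 1)} = ((A ∪ A') ∪ T) ∪ E := by
    ext y
    simp only [hA, hA', hT, hE, Set.mem_union, Set.mem_setOf_eq, or_assoc]
  have e1 : A ∩ A' = fib 0 0 := rfl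
  have e3 : ((A ∪ A') ∪ T) ∩ E = ∅ := by
    ext y
    simp only [hA, hA', hT, hE, Set.mem_inter_iff, Set.mem_union, Set.mem_setOf_eq,
      Set.mem_empty_iff_false, iff_false]
    rintro ⟨(h | h) | h, h1, h4⟩
    · rw [h] at h1; norm_num at h1
    · rw [h] at h4; norm_num at h4
    · obtain ⟨h5, h6⟩ := (commute_ww_iff h2 y).1 h
      rw [tr_ww_mul, h6] at h4
      rw [tr, ← h5] at h1
      have hd := det2 y
      rw [← h5, h6] at hd
      apply h2
      linear_combination h1 + h4 - 4 * hd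
  have f1 := Set.ncard_union_add_ncard_inter A A'
  have f2 := Set.ncard_union_add_ncard_inter (A ∪ A') T
  have f3 := Set.ncard_union_add_ncard_inter ((A ∪ A') ∪ T) E
  have k0 : (fib (0 : F) 0).ncard = Fintype.card F + 1 := by
    apply ncard_fib h2 hns
    intro h0
    apply h2
    have : (2 : F) * 2 = 0 := by linear_combination -h0
    exact mul_self_eq_zero.1 this
  rw [e1, k0, hA, hA', ncard_tr0_odd hns, ncard_tr0_odd' hns, ← hA, ← hA'] at f1
  rw [hA, hA', hT, ncard_four h2, ncard_commute_ww hns, ← hA, ← hA', ← hT] at f2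
  rw [e3, hE, ncard_E h3 hns, ← hE, Set.ncard_empty] at f3
  rw [e0]
  have hq : 0 < Fintype.card F := Fintype.card_pos
  obtain ⟨k, hk⟩ : ∃ k, Fintype.card F = k + 1 := ⟨Fintype.card F - 1, by omega⟩
  rw [hk] at f1 f2 f3 ⊢
  simp only [Nat.add_sub_cancel] at f1 f2 f3 ⊢
  nlinarith

theorem ncard_R (h3 : (3 : F) = 0) {a : F} (ha : a ≠ 0) :
    {y : SpecialLinearGroup (Fin 2) F | (a * y.1 1 0) ^ 2 = 1 ∧ tr y ^ 3 = tr y}.ncard =
      6 * Fintype.card F := by
  have h2 := two_ne_zero_of_three h3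
  have hne := one_ne_neg_one h2
  have hC : Nat.card {c : F // (a * c) ^ 2 = 1} = 2 := by
    have e : {c : F | (a * c) ^ 2 = 1} = {a⁻¹, -a⁻¹} := by
      ext c
      simp only [Set.mem_setOf_eq, Set.mem_insert_iff, Set.mem_singleton_iff]
      constructor
      · intro h
        rcases sq_eq_one_cases h with h | h
        · left; field_simp; linear_combination h
        · right; field_simp; linear_combination h
      · rintro (rfl | rfl) <;> field_simp
    have h1 : Nat.card {c : F // (a * c) ^ 2 = 1} = {c : F | (a * c) ^ 2 = 1}.ncard :=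
      Nat.card_coe_set_eq _
    rw [h1, e, Set.ncard_pair]
    intro h
    apply hne
    have h4 : a * a⁻¹ = a * (-a⁻¹) := congrArg (a * ·) h
    rw [mul_neg, mul_inv_cancel₀ ha] at h4
    exact h4
  have hT : Nat.card {t : F // t ^ 3 = t} = 3 := by
    have e : {t : F | t ^ 3 = t} = insert 0 {1, -1} := by
      ext t
      simp only [Set.mem_setOf_eq, Set.mem_insert_iff, Set.mem_singleton_iff]
      constructor
      · intro h
        rcases cube_cases h with h | h
        · left; exact h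
        · right; exact sq_eq_one_cases h
      · rintro (rfl | rfl | rfl) <;> norm_num
    have h1 : Nat.card {t : F // t ^ 3 = t} = {t : F | t ^ 3 = t}.ncard :=
      Nat.card_coe_set_eq _
    rw [h1, e, Set.ncard_insert_of_notMem, Set.ncard_pair hne]
    simp
  have : Nat.card ({c : F // (a * c) ^ 2 = 1} × {t : F // t ^ 3 = t} × F) =
      6 * Fintype.card F := by
    rw [Nat.card_prod, Nat.card_prod, hC, hT, Nat.card_eq_fintype_card]; ring
  rw [← this, ← Nat.card_coe_set_eq]
  apply Nat.card_congr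
  refine Equiv.ofBijective
    (fun y => (⟨y.1.1 1 0, y.2.1⟩, ⟨tr y.1, y.2.2⟩, y.1.1 0 0)) ⟨?_, ?_⟩
  · rintro ⟨y, hy, hy'⟩ ⟨z, hz, hz'⟩ h
    simp only [Prod.mk.injEq, Subtype.mk.injEq] at h
    obtain ⟨e1, e2, e3⟩ := h
    have hc0 : y.1 1 0 ≠ 0 := by
      intro h0
      rw [h0] at hy
      simp at hy
    rw [tr, tr] at e2
    have e4 : y.1 1 1 = z.1 1 1 := by linear_combination e2 - e3
    have dy := det2 y
    have dz := det2 z
    apply Subtype.ext
    apply ext2
    · exact e3
    · apply mul_right_cancel₀ hc0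
      rw [← e1, ← e3, ← e4] at dz
      linear_combination dz - dy
    · exact e1
    · exact e4
  · rintro ⟨⟨c, hc⟩, ⟨t, ht⟩, a0⟩
    have hc0 : c ≠ 0 := by
      rintro rfl
      simp at hc
    refine ⟨⟨mk2 a0 ((a0 * (t - a0) - 1) / c) c (t - a0) ?_, ?_, ?_⟩, ?_⟩
    · field_simp
      ring
    · simpa using hc
    · have : tr (mk2 a0 ((a0 * (t - a0) - 1) / c) c (t - a0) (by field_simp; ring)) = t := by
        simp [tr]
      rw [this]; exact ht
    · simp [tr]

theorem count_uu3 (h3 : (3 : F) = 0) {a : F} (ha : a ≠ 0) :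
    {y : SpecialLinearGroup (Fin 2) F | y.1 1 0 = 0 ∨
      ((a * y.1 1 0) ^ 2 = 1 ∧ tr y ^ 3 = tr y)}.ncard =
      Fintype.card F * (Fintype.card F + 5) := by
  have e0 : {y : SpecialLinearGroup (Fin 2) F | y.1 1 0 = 0 ∨
      ((a * y.1 1 0) ^ 2 = 1 ∧ tr y ^ 3 = tr y)} = {y | y.1 1 0 = 0} ∪
      {y | (a * y.1 1 0) ^ 2 = 1 ∧ tr y ^ 3 = tr y} := rfl
  rw [e0, Set.ncard_union_eq, ncard_c0, ncard_R h3 ha]
  · have hq : 0 < Fintype.card F := Fintype.card_pos
    obtain ⟨k, hk⟩ : ∃ k, Fintype.card F = k + 1 := ⟨Fintype.card F - 1, by omega⟩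
    rw [hk]
    simp only [Nat.add_sub_cancel]
    ring
  · rw [Set.disjoint_left]
    rintro y h ⟨h', -⟩
    have h0 : y.1 1 0 = 0 := h
    rw [h0] at h'
    simp at h'

end Cfsg.Agent.Lib.Helper7.PMax
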